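import Groth.Agent.Deform85.PSNil
import Groth.Prelude.Def_ArtFun2
import Groth.Prelude.Def_ArtFun5
import Mathlib.Algebra.TrivSqZeroExt.Basic
import Mathlib.LinearAlgebra.Matrix.NonsingularInverse
import Mathlib.RingTheory.Filtration

/-!
Lifting to trivial square-zero extensions characterises power series rings in characteristic zero.
-/

set_option autoImplicit false
set_option linter.style.haveILetI false

universe u v w

namespace Groth.Agent.Deform85.TrivSqLift

open IsLocalRing TrivSqZeroExt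

variable {k : Type u} [Field k] {d : ℕ}

/-- A hom into a trivial square-zero extension from a hom and a derivation. -/
theorem exists_tszHom {P : Type v} [CommRing P] [Algebra k P] {A : Type u} [CommRing A] [Algebra k A]
    {M : Type w} [AddCommGroup M] [Module A M] [Module Aᵐᵒᵖ M] [IsCentralScalar A M] [Module k M]
    [IsScalarTower k A M] [IsScalarTower k Aᵐᵒᵖ M] (π : P →ₐ[k] A) (D : P →ₗ[k] M)
    (hD : ∀ a b, D (a * b) = π a • D b + π b • D a) :
    ∃ H : P →ₐ[k] TrivSqZeroExt A M, ∀ x, (H x).fst = π x ∧ (H x).snd = D x := by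
  have h1 : D 1 = 0 := by
    have := hD 1 1
    rw [mul_one, map_one π, one_smul, left_eq_add] at this
    exact this
  refine ⟨AlgHom.ofLinearMap
    { toFun := fun x => inl (π x) + inr (D x)
      map_add' := fun x y => by rw [map_add, map_add, inl_add, inr_add]; abel
      map_smul' := fun c x => by ext <;> simp } ?_ ?_, fun x => ⟨?_, ?_⟩⟩
  · ext <;> simp [h1]
  · intro x y
    ext <;> simp [hD, add_comm]
  · simp
  · simp

theorem comap_fst_pow_eq_bot {A : Type u} [CommRing A] (I : Ideal A) (N : ℕ) (hN : I ^ N = ⊥) (X : Type w)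
    [AddCommGroup X] [Module A X] [Module Aᵐᵒᵖ X] [IsCentralScalar A X] :
    (I.comap (fstHom A A X)) ^ (N + N) = ⊥ := by
  have h1 : ∀ x ∈ (I.comap (fstHom A A X)) ^ N, x.fst = 0 := fun x hx => by
    have h2 := Ideal.mem_map_of_mem (fstHom A A X) hx
    rw [Ideal.map_pow] at h2
    have := Ideal.pow_right_mono (Ideal.map_comap_le (f := fstHom A A X) (K := I)) N h2
    rw [hN] at this
    exact this
  rw [pow_add, eq_bot_iff, Ideal.mul_le]
  intro a ha b hb
  rw [Ideal.mem_bot]
  ext
  · simp [h1 a ha]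
  · simp [h1 a ha, h1 b hb]

theorem residue_surjective_of (R : ArtFun.CRing k k) :
    Function.Surjective ((residue R.carrier).comp (algebraMap k R.carrier)) := fun z => by
  obtain ⟨r, rfl⟩ := residue_surjective z
  refine ⟨R.res r, ?_⟩
  rw [RingHom.comp_apply, eq_comm, ← sub_eq_zero, ← map_sub, residue_eq_zero_iff, R.mem_maximalIdeal_iff,
    map_sub, AlgHom.commutes, Algebra.algebraMap_self, RingHom.id_apply, sub_self]

theorem map_maximalIdeal (R : ArtFun.CRing k k) (A : ArtFun.Art k k) (φ : R.carrier →ₐ[k] A)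
    {r : R.carrier} (hr : r ∈ maximalIdeal R.carrier) : φ r ∈ maximalIdeal A := by
  by_contra h
  rw [A.mem_maximalIdeal_iff] at h
  set c := A.res (φ r)
  have hu : IsUnit (r - algebraMap k R.carrier c) := by
    rw [← IsLocalRing.notMem_maximalIdeal, R.mem_maximalIdeal_iff, map_sub, (R.mem_maximalIdeal_iff r).1 hr,
      AlgHom.commutes, zero_sub, neg_eq_zero]
    simpa using h
  have h2 := (hu.map φ).map A.res
  rw [map_sub, map_sub, AlgHom.commutes, AlgHom.commutes] at h2
  simp [c] at h2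

theorem lifts_of_powerSeries (R : ArtFun.CRing k k) (e : R.carrier ≃ₐ[k] MvPowerSeries (Fin d) k)
    (A : ArtFun.Art k k) (M M' : Type u) [AddCommGroup M] [Module A M] [Module (↥A)ᵐᵒᵖ M]
    [IsCentralScalar A M] [Module k M] [IsScalarTower k A M] [IsScalarTower k (↥A)ᵐᵒᵖ M]
    [AddCommGroup M'] [Module A M'] [Module (↥A)ᵐᵒᵖ M'] [IsCentralScalar A M'] [Module k M']
    [IsScalarTower k A M'] [IsScalarTower k (↥A)ᵐᵒᵖ M'] (f : M' →ₗ[↥A] M) (hf : Function.Surjective f)
    (φ : R.carrier →ₐ[k] TrivSqZeroExt A M) :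
    ∃ ψ : R.carrier →ₐ[k] TrivSqZeroExt A M',
      ∀ r : R.carrier, (ψ r).fst = (φ r).fst ∧ f (ψ r).snd = (φ r).snd := by
  obtain ⟨N, hN⟩ : IsNilpotent (maximalIdeal A) :=
    (isArtinianRing_iff_isNilpotent_maximalIdeal A).1 inferInstance
  have hJ : ∀ (X : Type u) [AddCommGroup X] [Module A X] [Module (↥A)ᵐᵒᵖ X] [IsCentralScalar A X],
      ((maximalIdeal A).comap (fstHom A A X)) ^ (N + N) = ⊥ :=
    fun X => comap_fst_pow_eq_bot (maximalIdeal A) N hN X
  let x : Fin d → R.carrier := fun i => e.symm (MvPowerSeries.X i)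
  have hx : ∀ i, (φ (x i)).fst ∈ maximalIdeal A := fun i => by
    refine map_maximalIdeal R A ((fstHom k A M).comp φ) ?_
    rw [IsLocalRing.mem_maximalIdeal, mem_nonunits_iff]
    intro hu
    have := hu.map e
    rw [AlgEquiv.apply_symm_apply, MvPowerSeries.isUnit_iff_constantCoeff, MvPowerSeries.constantCoeff_X] at this
    exact not_isUnit_zero this
  choose m hm using fun i => hf (φ (x i)).snd
  obtain ⟨G, hG, -⟩ := PSNil.exists_hom_nil (k := k) ((maximalIdeal A).comap (fstHom A A M')) (N + N) (hJ M')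
    (fun i => inl (φ (x i)).fst + inr (m i)) (fun i => by
      change fst (inl (φ (x i)).fst + inr (m i)) ∈ maximalIdeal A
      simpa using hx i)
  let F : TrivSqZeroExt A M' →ₐ[k] TrivSqZeroExt A M := (TrivSqZeroExt.map f).restrictScalars k
  have hFG : F.comp G = φ.comp (e.symm : MvPowerSeries (Fin d) k →ₐ[k] R.carrier) := by
    have h : ∀ i, F (G (MvPowerSeries.X i)) = φ (x i) := fun i => by
      rw [hG]
      ext
      · simp [F]
      · simp [F, hm]
    refine PSNil.hom_ext_nil _ (N + N) (hJ M) (fun i => ?_) h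
    rw [AlgHom.comp_apply, h]
    exact hx i
  refine ⟨G.comp (e : R.carrier →ₐ[k] MvPowerSeries (Fin d) k), fun r => ?_⟩
  have := AlgHom.congr_fun hFG (e r)
  simp only [AlgHom.comp_apply, AlgEquiv.coe_toAlgHom, AlgEquiv.symm_apply_apply] at this
  rw [← this]
  exact ⟨by simp [F], by simp [F]⟩

theorem powerSeries_of_lifts [CharZero k] (R : ArtFun.CRing k k)
    (hd : Module.finrank (ResidueField R.carrier) (CotangentSpace R.carrier) = d)
    (H : ∀ (A : ArtFun.Art k k) (W : Submodule A (Fin d → A)),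
      ∀ φ : R.carrier →ₐ[k] TrivSqZeroExt A ((Fin d → A) ⧸ W),
        ∃ ψ : R.carrier →ₐ[k] TrivSqZeroExt A (Fin d → A),
          ∀ r : R.carrier, (ψ r).fst = (φ r).fst ∧ W.mkQ (ψ r).snd = (φ r).snd) :
    Nonempty (R.carrier ≃ₐ[k] MvPowerSeries (Fin d) k) := by
  classical
  haveI := R.isAdicComplete
  obtain ⟨ψ, hψm, hψs, hker⟩ := PSNil.exists_presentation R.carrier (residue_surjective_of R) d hd
  suffices hI : RingHom.ker ψ.toRingHom = ⊥ from
    ⟨(AlgEquiv.ofBijective ψ ⟨(RingHom.injective_iff_ker_eq_bot ψ.toRingHom).2 hI, hψs⟩).symm⟩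
  have hsq : ∀ g ∈ maximalIdeal (MvPowerSeries (Fin d) k) ^ 2, ∀ i,
      MvPowerSeries.pderiv k i g ∈ maximalIdeal (MvPowerSeries (Fin d) k) := fun g hg i => by
    rw [pow_two] at hg
    refine Submodule.mul_induction_on hg (fun a ha b hb => ?_) (fun a b ha hb => map_add
      (MvPowerSeries.pderiv k i) a b ▸ add_mem ha hb)
    rw [Derivation.leibniz, smul_eq_mul, smul_eq_mul]
    exact add_mem (Ideal.mul_mem_right _ _ ha) (Ideal.mul_mem_right _ _ hb)
  refine PSNil.eq_bot_of_pderiv_mem (fun g hg => CAlg6.mem_maximalIdeal_iff.1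
    (Ideal.pow_le_self two_ne_zero (hker hg))) fun g hg i => ?_
  rw [RingHom.mem_ker]
  refine IsHausdorff.haus (I := maximalIdeal R.carrier) inferInstance _ fun N => ?_
  rw [smul_eq_mul, Ideal.mul_top, SModEq.zero]
  refine Ideal.pow_le_pow_right (Nat.le_succ N) ?_
  revert i g
  let A := R.trunc N
  let q : R.carrier →ₐ[k] A := (R.truncHom N).1
  suffices h : ∀ g ∈ RingHom.ker ψ.toRingHom, ∀ i, q (ψ (MvPowerSeries.pderiv k i g)) = 0 from
    fun g hg i => Ideal.Quotient.eq_zero_iff_mem.1 (h g hg i)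
  let π : MvPowerSeries (Fin d) k →ₐ[k] A := q.comp ψ
  let D : MvPowerSeries (Fin d) k →ₗ[k] (Fin d → A) :=
    { toFun := fun g i => π (MvPowerSeries.pderiv k i g)
      map_add' := fun a b => funext fun i => by simp [map_add]
      map_smul' := fun c a => funext fun i => by simp }
  have hD : ∀ a b, D (a * b) = π a • D b + π b • D a := fun a b => funext fun i => by
    simp [D, Derivation.leibniz]
  let W : Submodule A (Fin d → A) := Submodule.span A (D '' (RingHom.ker ψ.toRingHom : Set _))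
  obtain ⟨H₀, hH₀⟩ := exists_tszHom π (W.mkQ.restrictScalars k ∘ₗ D) fun a b => by
    simp only [LinearMap.comp_apply, hD, map_add, LinearMap.coe_restrictScalars, map_smul]
  have hH₀k : RingHom.ker ψ.toRingHom ≤ RingHom.ker H₀.toRingHom := fun g hg => by
    rw [RingHom.mem_ker] at hg ⊢
    ext
    · rw [fst_zero]
      refine ((hH₀ g).1.trans ?_)
      change q (ψ g) = 0
      rw [show ψ g = 0 from hg, map_zero]
    · rw [snd_zero]
      refine ((hH₀ g).2.trans ?_)
      exact (Submodule.Quotient.mk_eq_zero _).2 (Submodule.subset_span ⟨g, hg, rfl⟩)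
  let φ : R.carrier →ₐ[k] TrivSqZeroExt A ((Fin d → A) ⧸ W) := AlgHom.liftOfSurjective ψ hψs H₀ hH₀k
  have hφ : ∀ x, φ (ψ x) = H₀ x := fun x => AlgHom.liftOfSurjective_apply ψ hψs H₀ hH₀k x
  obtain ⟨φ', hφ'⟩ := H A W φ
  let V : Fin d → Fin d → A := fun j => (φ' (ψ (MvPowerSeries.X j))).snd
  let D' : MvPowerSeries (Fin d) k →ₗ[k] (Fin d → A) :=
    { toFun := fun g => ∑ i, π (MvPowerSeries.pderiv k i g) • V i
      map_add' := fun a b => by simp [map_add, add_smul, Finset.sum_add_distrib]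
      map_smul' := fun c a => by simp [smul_assoc, Finset.smul_sum] }
  obtain ⟨H₁, hH₁⟩ := exists_tszHom π D' fun a b => by
    simp only [D', LinearMap.coe_mk, AddHom.coe_mk, Derivation.leibniz, smul_eq_mul, map_add, map_mul,
      add_smul, mul_smul, Finset.sum_add_distrib, Finset.smul_sum]
  obtain ⟨M₀, hM₀⟩ : IsNilpotent (maximalIdeal A) :=
    (isArtinianRing_iff_isNilpotent_maximalIdeal A).1 inferInstance
  have hJ := comap_fst_pow_eq_bot (maximalIdeal A) M₀ hM₀ (Fin d → A)
  have hfst : ∀ x, (φ' (ψ x)).fst = π x := fun x => (hφ' _).1.trans ((congrArg fst (hφ x)).trans (hH₀ x).1)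
  have hH₁φ : H₁ = φ'.comp ψ := by
    refine PSNil.hom_ext_nil _ _ hJ (fun j => ?_) fun j => ?_
    · change fst (H₁ (MvPowerSeries.X j)) ∈ maximalIdeal A
      rw [(hH₁ _).1]
      exact map_maximalIdeal R A q (hψm j)
    · rw [AlgHom.comp_apply]
      ext1
      · rw [(hH₁ _).1, hfst]
      · rw [(hH₁ _).2]
        simp only [D', LinearMap.coe_mk, AddHom.coe_mk, MvPowerSeries.pderiv_X]
        rw [Finset.sum_eq_single j]
        · simp [V]
        · intro b _ hb
          simp [Pi.single_eq_of_ne' hb]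
        · simp
  have hWm : ∀ w ∈ W, ∀ i, w i ∈ maximalIdeal A := by
    intro w hw i
    have : W ≤ Submodule.pi Set.univ (fun _ => maximalIdeal A) := by
      rw [Submodule.span_le]
      rintro _ ⟨g, hg, rfl⟩ j -
      refine map_maximalIdeal R A q ?_
      rw [R.mem_maximalIdeal_iff]
      have h1 := hsq g (hker hg) j
      obtain ⟨a, ha⟩ : ∃ a, a = MvPowerSeries.pderiv k j g := ⟨_, rfl⟩
      rw [← ha] at h1 ⊢
      rw [CAlg6.maximalIdeal_eq_span_X] at h1
      refine (Ideal.span_le.2 ?_ : Ideal.span (Set.range MvPowerSeries.X) ≤ RingHom.ker (R.res.comp ψ)) h1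
      rintro _ ⟨l, rfl⟩
      exact (R.mem_maximalIdeal_iff _).1 (hψm l)
    exact this hw i (Set.mem_univ i)
  let U : Matrix (Fin d) (Fin d) A := Matrix.of V
  have hdet : IsUnit U.det := by
    rw [← IsLocalRing.notMem_maximalIdeal, A.mem_maximalIdeal_iff, AlgHom.map_det]
    have hone : A.res.mapMatrix U = 1 := by
      refine Matrix.ext fun j i => ?_
      have h1 : W.mkQ (V j) = W.mkQ (D (MvPowerSeries.X j)) :=
        (hφ' _).2.trans ((congrArg snd (hφ _)).trans (hH₀ _).2)
      have h2 := (A.mem_maximalIdeal_iff _).1 (hWm _ ((Submodule.Quotient.eq W).1 h1) i)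
      rw [Pi.sub_apply, map_sub, sub_eq_zero] at h2
      refine h2.trans ?_
      simp only [D, LinearMap.coe_mk, AddHom.coe_mk, MvPowerSeries.pderiv_X]
      by_cases hji : i = j
      · subst hji; simp
      · simp [Matrix.one_apply_ne (Ne.symm hji), Pi.single_eq_of_ne' hji]
    rw [hone, Matrix.det_one]
    exact one_ne_zero
  intro g hg
  have h0 : φ'.comp ψ g = 0 := by
    rw [AlgHom.comp_apply, show ψ g = 0 from hg, map_zero]
  rw [← hH₁φ] at h0
  have h1 : Matrix.vecMul (fun i => π (MvPowerSeries.pderiv k i g)) U = Matrix.vecMul 0 U := by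
    rw [Matrix.zero_vecMul, Matrix.vecMul_eq_sum]
    exact ((hH₁ g).2.symm.trans (congrArg snd h0))
  exact fun i => congrFun (Matrix.vecMul_injective_of_isUnit ((Matrix.isUnit_iff_isUnit_det U).2 hdet) h1) i

end Groth.Agent.Deform85.TrivSqLift
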