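import Mathlib.RingTheory.Smooth.Basic
import Mathlib.RingTheory.Smooth.Quotient
import Mathlib.RingTheory.Flat.Basic
import Mathlib.RingTheory.Flat.Tensor
import Mathlib.RingTheory.Artinian.Ring
import Mathlib.RingTheory.HopkinsLevitzki
import Mathlib.LinearAlgebra.TensorProduct.RightExactness
import Mathlib.Tactic.LinearCombination

/-!
# Flat algebras over Artinian local `k`-algebras with residue field `k`
-/

set_option autoImplicit false

universe u v

open TensorProduct

namespace Groth.Agent.Deform85

/-- Elements of a flat algebra killed by a nonzero element `t` annihilated by the maximal ideal lie in the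
extended maximal ideal. -/
lemma mem_map_of_mul_eq_zero {A : Type u} [CommRing A] [IsLocalRing A] {B : Type v} [CommRing B] [Algebra A B]
    [Module.Flat A B] {t : A} (ht0 : t ≠ 0) (htm : ∀ a ∈ IsLocalRing.maximalIdeal A, a * t = 0) {b : B}
    (hb : algebraMap A B t * b = 0) : b ∈ (IsLocalRing.maximalIdeal A).map (algebraMap A B) := by
  set m := IsLocalRing.maximalIdeal A
  have hex : Function.Exact m.subtype (LinearMap.mulLeft A t) := fun a => by
    constructor
    · intro ha
      exact ⟨⟨a, fun hu => ht0 (hu.mul_left_eq_zero.1 ha)⟩, rfl⟩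
    · rintro ⟨a, rfl⟩
      change t * (a : A) = 0
      rw [mul_comm]
      exact htm _ a.2
  obtain ⟨y, hy⟩ := (Module.Flat.lTensor_exact B hex (b ⊗ₜ (1 : A))).1 (by
    have : algebraMap A B t * b = t • b := (Algebra.smul_def t b).symm
    rw [LinearMap.lTensor_tmul, LinearMap.mulLeft_apply, mul_one,
      show (b ⊗ₜ[A] t : B ⊗[A] A) = (t • b) ⊗ₜ[A] (1 : A) by rw [smul_tmul, smul_eq_mul, mul_one],
      ← this, hb, zero_tmul])
  have key : ∀ z : B ⊗[A] m, TensorProduct.rid A B (m.subtype.lTensor B z) ∈ m.map (algebraMap A B) := fun z => by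
    induction z with
    | zero => simp
    | tmul x a =>
      rw [LinearMap.lTensor_tmul, TensorProduct.rid_tmul, Algebra.smul_def]
      exact Ideal.mul_mem_right _ _ (Ideal.mem_map_of_mem _ a.2)
    | add x y hx hy => rw [map_add, map_add]; exact Ideal.add_mem _ hx hy
  have := key y
  rwa [hy, TensorProduct.rid_tmul, one_smul] at this

/-- The extension of the maximal ideal of an Artinian local ring is nilpotent. -/
lemma exists_pow_map_maximalIdeal {A : Type u} [CommRing A] [IsLocalRing A] [IsArtinianRing A] (B : Type v)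
    [CommRing B] [Algebra A B] : IsNilpotent ((IsLocalRing.maximalIdeal A).map (algebraMap A B)) := by
  obtain ⟨n, hn⟩ := IsArtinianRing.isNilpotent_jacobson_bot (R := A)
  rw [IsLocalRing.jacobson_eq_maximalIdeal ⊥ bot_ne_top] at hn
  exact ⟨n, by rw [← Ideal.map_pow, hn, Ideal.zero_eq_bot, Ideal.map_bot, Ideal.zero_eq_bot]⟩

/-- An element annihilated by the maximal ideal kills the extended maximal ideal. -/
lemma mul_eq_zero_of_mem_map {A : Type u} [CommRing A] [IsLocalRing A] {B : Type v} [CommRing B] [Algebra A B]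
    {t : A} (htm : ∀ a ∈ IsLocalRing.maximalIdeal A, a * t = 0) {b : B}
    (hb : b ∈ (IsLocalRing.maximalIdeal A).map (algebraMap A B)) : algebraMap A B t * b = 0 := by
  refine (Ideal.map_le_iff_le_comap.2 (fun a ha => ?_) hb :
    b ∈ (LinearMap.ker (LinearMap.mulLeft B (algebraMap A B t)) : Ideal B))
  change algebraMap A B t * algebraMap A B a = 0
  rw [← map_mul, mul_comm, htm a ha, map_zero]

/-- A lift of an automorphism of `B/tB` is an automorphism of a flat algebra `B`. -/
lemma bijective_of_lift {A : Type u} [CommRing A] [IsLocalRing A] {B : Type v} [CommRing B] [Algebra A B]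
    [Module.Flat A B] {t : A} (ht : t ∈ IsLocalRing.maximalIdeal A)
    (htm : ∀ a ∈ IsLocalRing.maximalIdeal A, a * t = 0)
    (σ : (B ⧸ Ideal.span {algebraMap A B t}) ≃ₐ[A] (B ⧸ Ideal.span {algebraMap A B t})) (η : B →ₐ[A] B)
    (hη : ∀ b : B, Ideal.Quotient.mk (Ideal.span {algebraMap A B t}) (η b) =
      σ (Ideal.Quotient.mk (Ideal.span {algebraMap A B t}) b)) : Function.Bijective η := by
  have hTT : (algebraMap A B t) * (algebraMap A B t) = 0 := by rw [← map_mul, htm t ht, map_zero]
  have hsurj : ∀ z, ∃ x w, z = η x + (algebraMap A B t) * w := fun z => by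
    obtain ⟨x, hx⟩ := Ideal.Quotient.mk_surjective (σ.symm (Ideal.Quotient.mk _ z))
    have h := hη x
    rw [hx, AlgEquiv.apply_symm_apply, eq_comm, Ideal.Quotient.eq] at h
    obtain ⟨w, hw⟩ := Ideal.mem_span_singleton'.1 h
    exact ⟨x, w, by rw [mul_comm (algebraMap A B t) w, hw]; ring⟩
  refine ⟨(injective_iff_map_eq_zero η).2 fun x hx => ?_, fun z => ?_⟩
  · have h := hη x
    rw [hx, map_zero, eq_comm, map_eq_zero_iff σ σ.injective, Ideal.Quotient.eq_zero_iff_mem] at h
    obtain ⟨y, rfl⟩ := Ideal.mem_span_singleton'.1 h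
    rcases eq_or_ne t 0 with rfl | ht0
    · rw [map_zero, mul_zero]
    rw [mul_comm] at hx ⊢
    rw [map_mul, AlgHom.commutes] at hx
    refine mul_eq_zero_of_mem_map htm ?_
    have hyn := mem_map_of_mul_eq_zero ht0 htm hx
    -- transport along `σ⁻¹`, which fixes the extended maximal ideal
    have h1 : Ideal.Quotient.mk (Ideal.span {(algebraMap A B t)}) y ∈
        (IsLocalRing.maximalIdeal A).map (algebraMap A (B ⧸ Ideal.span {(algebraMap A B t)})) := by
      have h2 : Ideal.Quotient.mk (Ideal.span {(algebraMap A B t)}) y = σ.symm (Ideal.Quotient.mk _ (η y)) := by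
        rw [hη, AlgEquiv.symm_apply_apply]
      rw [h2, ← σ.symm.toAlgHom.comp_algebraMap, ← Ideal.map_map]
      refine Ideal.mem_map_of_mem _ ?_
      have h3 := Ideal.mem_map_of_mem (Ideal.Quotient.mk (Ideal.span {(algebraMap A B t)})) hyn
      rwa [Ideal.map_map] at h3
    rw [show algebraMap A (B ⧸ Ideal.span {(algebraMap A B t)}) =
      (Ideal.Quotient.mk (Ideal.span {(algebraMap A B t)})).comp (algebraMap A B) from rfl, ← Ideal.map_map,
      Ideal.mem_map_iff_of_surjective _ Ideal.Quotient.mk_surjective] at h1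
    obtain ⟨y', hy', e⟩ := h1
    obtain ⟨w, hw⟩ := Ideal.mem_span_singleton'.1 (Ideal.Quotient.eq.1 e)
    have : y = y' - w * (algebraMap A B t) := by rw [hw]; ring
    rw [this]
    exact Ideal.sub_mem _ hy' (Ideal.mul_mem_left _ _ (Ideal.mem_map_of_mem _ ht))
  · obtain ⟨x, w, rfl⟩ := hsurj z
    obtain ⟨x', w', rfl⟩ := hsurj w
    refine ⟨x + (algebraMap A B t) * x', ?_⟩
    rw [map_add, map_mul, AlgHom.commutes]
    linear_combination (-w') * hTT

variable {k : Type u} [Field k] {A : Type u} [CommRing A] [Algebra k A] [IsLocalRing A] [IsArtinianRing A]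
  (hres : ∀ a : A, ∃ c : k, a - algebraMap k A c ∈ IsLocalRing.maximalIdeal A)
  {B : Type u} [CommRing B] [Algebra A B] [Module.Flat A B] [Algebra k B] [IsScalarTower k A B]

include hres

/-- A section of `B → B/mB` trivialises a flat `A`-algebra `B`. -/
theorem bijective_lift_section
    (s : (B ⧸ (IsLocalRing.maximalIdeal A).map (algebraMap A B)) →ₐ[k] B)
    (hs : ∀ x, Ideal.Quotient.mk ((IsLocalRing.maximalIdeal A).map (algebraMap A B)) (s x) = x) :
    Function.Bijective (Algebra.TensorProduct.lift (Algebra.ofId A B) s (fun a x => Commute.all _ _) :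
      A ⊗[k] (B ⧸ (IsLocalRing.maximalIdeal A).map (algebraMap A B)) →ₐ[A] B) := by
  let Φ : A ⊗[k] (B ⧸ ((IsLocalRing.maximalIdeal A).map (algebraMap A B))) →ₐ[A] B := Algebra.TensorProduct.lift (Algebra.ofId A B) s (fun a x => Commute.all _ _)
  change Function.Bijective Φ
  obtain ⟨n, hn⟩ : ∃ n, (IsLocalRing.maximalIdeal A) ^ n = ⊥ := by
    have := IsArtinianRing.isNilpotent_jacobson_bot (R := A)
    rwa [IsLocalRing.jacobson_eq_maximalIdeal ⊥ bot_ne_top] at this
  have hΦ : ∀ a x, Φ (a ⊗ₜ x) = algebraMap A B a * s x := fun a x => rfl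
  have hmk : ∀ x, Ideal.Quotient.mk ((IsLocalRing.maximalIdeal A).map (algebraMap A B)) (Φ (1 ⊗ₜ x)) = x := fun x => by
    rw [hΦ, map_one, one_mul, hs]
  have hmBm : (((IsLocalRing.maximalIdeal A).map (algebraMap A B)).restrictScalars A) = (IsLocalRing.maximalIdeal A) • (⊤ : Submodule A B) := (Ideal.smul_top_eq_map (IsLocalRing.maximalIdeal A)).symm
  have hsurj : Function.Surjective Φ := by
    set R := LinearMap.range Φ.toLinearMap
    have hstep : (⊤ : Submodule A B) ≤ R ⊔ (IsLocalRing.maximalIdeal A) • ⊤ := fun b _ => by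
      refine Submodule.mem_sup.2 ⟨Φ (1 ⊗ₜ Ideal.Quotient.mk ((IsLocalRing.maximalIdeal A).map (algebraMap A B)) b), ⟨1 ⊗ₜ Ideal.Quotient.mk ((IsLocalRing.maximalIdeal A).map (algebraMap A B)) b, rfl⟩,
        b - Φ (1 ⊗ₜ Ideal.Quotient.mk ((IsLocalRing.maximalIdeal A).map (algebraMap A B)) b), ?_, add_sub_cancel _ _⟩
      rw [← hmBm, Submodule.restrictScalars_mem, ← Ideal.Quotient.eq_zero_iff_mem, map_sub, hmk, sub_self]
    have hpow : ∀ j, (⊤ : Submodule A B) ≤ R ⊔ ((IsLocalRing.maximalIdeal A) ^ j) • ⊤ := fun j => by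
      induction j with
      | zero => rw [pow_zero, Ideal.one_eq_top, Submodule.top_smul]; exact le_sup_right
      | succ j ih =>
        refine ih.trans (sup_le le_sup_left ((Submodule.smul_mono le_rfl hstep).trans ?_))
        rw [Submodule.smul_sup, ← Submodule.mul_smul, ← pow_succ]
        exact sup_le_sup_right Submodule.smul_le_right _
    intro b
    have := hpow n (Submodule.mem_top (x := b))
    rwa [hn, Submodule.bot_smul, sup_bot_eq] at this
  refine ⟨?_, hsurj⟩
  set N := LinearMap.ker Φ.toLinearMap with hN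
  have hexact : Function.Exact N.subtype Φ.toLinearMap := LinearMap.exact_subtype_ker_map _
  have hstep : ∀ x ∈ N, x ∈ (IsLocalRing.maximalIdeal A) • (⊤ : Submodule A (A ⊗[k] (B ⧸ ((IsLocalRing.maximalIdeal A).map (algebraMap A B))))) := by
    intro x hx
    choose c hc using hres
    have key : ∀ z : A ⊗[k] (B ⧸ ((IsLocalRing.maximalIdeal A).map (algebraMap A B))),
        z - (1 : A) ⊗ₜ Ideal.Quotient.mk ((IsLocalRing.maximalIdeal A).map (algebraMap A B)) (Φ z) ∈ (IsLocalRing.maximalIdeal A) • (⊤ : Submodule A (A ⊗[k] (B ⧸ ((IsLocalRing.maximalIdeal A).map (algebraMap A B))))) := by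
      intro z
      induction z with
      | zero => simp
      | tmul a x =>
        have e : (a ⊗ₜ[k] x : A ⊗[k] (B ⧸ ((IsLocalRing.maximalIdeal A).map (algebraMap A B)))) - (1 : A) ⊗ₜ Ideal.Quotient.mk ((IsLocalRing.maximalIdeal A).map (algebraMap A B)) (Φ (a ⊗ₜ x)) =
            (a - algebraMap k A (c a)) • ((1 : A) ⊗ₜ x) := by
          have h2 : Ideal.Quotient.mk ((IsLocalRing.maximalIdeal A).map (algebraMap A B)) (algebraMap A B a) = algebraMap k (B ⧸ ((IsLocalRing.maximalIdeal A).map (algebraMap A B))) (c a) := by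
            rw [IsScalarTower.algebraMap_apply k B, Ideal.Quotient.algebraMap_eq,
              IsScalarTower.algebraMap_apply k A B, Ideal.Quotient.eq, ← map_sub]
            exact Ideal.mem_map_of_mem _ (hc a)
          rw [hΦ, map_mul, hs, h2, ← Algebra.smul_def, tmul_smul]
          conv_rhs => rw [smul_tmul', smul_eq_mul, mul_one, sub_tmul, Algebra.algebraMap_eq_smul_one, ← smul_tmul']
        rw [e]
        exact Submodule.smul_mem_smul (hc a) trivial
      | add z w hz hw =>
        rw [map_add, map_add, tmul_add, add_sub_add_comm]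
        exact Submodule.add_mem _ hz hw
    have := key x
    rwa [show Φ x = 0 from hx, map_zero, tmul_zero, sub_zero] at this
  have hNm : (⊤ : Submodule A N) ≤ (IsLocalRing.maximalIdeal A) • ⊤ := by
    rintro ⟨x, hx⟩ -
    have hx' := hstep x hx
    let μ : ∀ (M : Type u) [AddCommGroup M] [Module A M], M ⊗[A] (IsLocalRing.maximalIdeal A) →ₗ[A] M := fun M _ _ =>
      (TensorProduct.rid A M).toLinearMap ∘ₗ (IsLocalRing.maximalIdeal A).subtype.lTensor M
    have hrange : ∀ (M : Type u) [AddCommGroup M] [Module A M] (y : M ⊗[A] (IsLocalRing.maximalIdeal A)), μ M y ∈ (IsLocalRing.maximalIdeal A) • (⊤ : Submodule A M) := by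
      intro M _ _ y
      induction y with
      | zero => simp
      | tmul p a => simpa [μ] using Submodule.smul_mem_smul a.2 (Submodule.mem_top (x := p))
      | add p q hp hq => rw [map_add]; exact Submodule.add_mem _ hp hq
    obtain ⟨y, rfl⟩ : ∃ y, μ (A ⊗[k] (B ⧸ ((IsLocalRing.maximalIdeal A).map (algebraMap A B)))) y = x := by
      clear hx
      induction hx' using Submodule.smul_induction_on' with
      | smul a ha p _ => exact ⟨p ⊗ₜ ⟨a, ha⟩, by simp [μ]⟩
      | add p _ q _ hp hq =>
        obtain ⟨y, rfl⟩ := hp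
        obtain ⟨y', rfl⟩ := hq
        exact ⟨y + y', map_add _ _ _⟩
    have hnat : ∀ z, μ B (Φ.toLinearMap.rTensor (IsLocalRing.maximalIdeal A) z) = Φ (μ (A ⊗[k] (B ⧸ ((IsLocalRing.maximalIdeal A).map (algebraMap A B)))) z) := fun z => by
      induction z with
      | zero => simp
      | tmul p a => simp [μ]
      | add p q hp hq => simp only [map_add, hp, hq]
    have h0 : Φ.toLinearMap.rTensor (IsLocalRing.maximalIdeal A) y = 0 := by
      apply Module.Flat.lTensor_preserves_injective_linearMap (M := B) (IsLocalRing.maximalIdeal A).subtype Subtype.val_injective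
      rw [map_zero]
      apply (TensorProduct.rid A B).injective
      rw [map_zero]
      exact (hnat y).trans hx
    obtain ⟨w, rfl⟩ := (rTensor_exact (IsLocalRing.maximalIdeal A) (M := N) (f := N.subtype) (g := Φ.toLinearMap) hexact hsurj y).1 h0
    have hw : ∀ w, μ (A ⊗[k] (B ⧸ ((IsLocalRing.maximalIdeal A).map (algebraMap A B)))) (N.subtype.rTensor (IsLocalRing.maximalIdeal A) w) = (μ N w : N) := fun w => by
      induction w with
      | zero => simp
      | tmul p a => simp [μ]
      | add p q hp hq => simp only [map_add, Submodule.coe_add, hp, hq]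
    have : (⟨_, hx⟩ : N) = μ N w := Subtype.ext (hw w)
    rw [this]
    exact hrange N w
  have hpow : ∀ j, (⊤ : Submodule A N) ≤ ((IsLocalRing.maximalIdeal A) ^ j) • ⊤ := fun j => by
    induction j with
    | zero => simp
    | succ j ih =>
      refine ih.trans ((Submodule.smul_mono le_rfl hNm).trans ?_)
      rw [← Submodule.mul_smul, ← pow_succ]
  refine (injective_iff_map_eq_zero Φ).2 fun x hx => ?_
  have := hpow n (Submodule.mem_top (x := (⟨x, hx⟩ : N)))
  rw [hn, Submodule.bot_smul, Submodule.mem_bot] at this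
  exact congrArg Subtype.val this

/-- A flat algebra with formally smooth closed fibre is formally smooth. -/
theorem formallySmooth_of_closedFibre
    (hsm : Algebra.FormallySmooth k (B ⧸ (IsLocalRing.maximalIdeal A).map (algebraMap A B))) :
    Algebra.FormallySmooth A B := by
  obtain ⟨s, hs⟩ := Algebra.FormallySmooth.exists_lift _ (exists_pow_map_maximalIdeal B) (AlgHom.id k
    (B ⧸ (IsLocalRing.maximalIdeal A).map (algebraMap A B)))
  exact Algebra.FormallySmooth.of_equiv
    (AlgEquiv.ofBijective _ (bijective_lift_section hres s fun x => AlgHom.congr_fun hs x))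

end Groth.Agent.Deform85
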