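import Groth.Agent.Deform85.FlatLift
import Groth.Agent.VarGal.Thickening
import Mathlib.AlgebraicGeometry.Morphisms.Flat
import Mathlib.AlgebraicGeometry.Morphisms.ClosedImmersion
import Mathlib.AlgebraicGeometry.PullbackCarrier
import Mathlib.AlgebraicGeometry.Morphisms.UniversallyClosed

/-!
# Trivialising flat deformations of affine schemes over Artinian local `k`-algebras
-/

set_option autoImplicit false

universe u

open CategoryTheory Limits AlgebraicGeometry TensorProduct

noncomputable section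

namespace Groth.Agent.Deform85

/-- The structure map on global sections of a scheme over an affine base. -/
abbrev baseMap {R : Type u} [CommRing R] {Y : Scheme.{u}} (g : Y ⟶ Spec (CommRingCat.of R)) :
    R →+* Γ(Y, ⊤) :=
  ((Scheme.ΓSpecIso (CommRingCat.of R)).inv ≫ g.appTop).hom

theorem baseMap_comp {R : Type u} [CommRing R] {Y Z : Scheme.{u}} (f : Y ⟶ Z)
    (g : Z ⟶ Spec (CommRingCat.of R)) (a : R) : baseMap (f ≫ g) a = f.appTop (baseMap g a) := by
  simp [baseMap]

theorem baseMap_SpecMap_comp {R S : Type u} [CommRing R] [CommRing S] {Y : Scheme.{u}}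
    (g : Y ⟶ Spec (CommRingCat.of S)) (f : R →+* S) (a : R) :
    baseMap (g ≫ Spec.map (CommRingCat.ofHom f)) a = baseMap g (f a) := by
  have h := congr($(Scheme.ΓSpecIso_inv_naturality (CommRingCat.ofHom f)) a)
  rw [baseMap_comp]
  exact congrArg g.appTop.hom h.symm

theorem baseMap_ext {R : Type u} [CommRing R] {Y : Scheme.{u}} {g g' : Y ⟶ Spec (CommRingCat.of R)}
    (h : ∀ a, baseMap g a = baseMap g' a) : g = g' := by
  refine ext_of_isAffine ?_
  rw [← cancel_epi (Scheme.ΓSpecIso (CommRingCat.of R)).inv]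
  exact CommRingCat.hom_ext (RingHom.ext h)

theorem isoSpec_hom_SpecMap_baseMap {R : Type u} [CommRing R] {Y : Scheme.{u}} [IsAffine Y]
    (g : Y ⟶ Spec (CommRingCat.of R)) :
    Y.isoSpec.hom ≫ Spec.map (CommRingCat.ofHom (baseMap g)) = g := by
  rw [CommRingCat.ofHom_hom, Spec.map_comp, Scheme.isoSpec_hom_naturality_assoc,
    ← Scheme.isoSpec_Spec_inv, Iso.hom_inv_id, Category.comp_id]

/-- A ring map between global sections of affine schemes comes from a morphism. -/
theorem exists_hom_appTop {X Y : Scheme.{u}} [IsAffine X] [IsAffine Y] (s : Γ(X, ⊤) ⟶ Γ(Y, ⊤)) :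
    ∃ q : Y ⟶ X, q.appTop = s := by
  refine ⟨Y.isoSpec.hom ≫ Spec.map s ≫ X.isoSpec.inv, ?_⟩
  apply Spec.map_injective
  rw [← cancel_epi Y.isoSpec.hom, Scheme.isoSpec_hom_naturality]
  simp

variable {k : Type u} [Field k] {A : Type u} [CommRing A] [IsLocalRing A] [IsArtinianRing A] [Algebra k A]
  (e : A →ₐ[k] k)

omit [IsArtinianRing A] in
theorem algHom_residue_surjective : Function.Surjective e := fun c => ⟨algebraMap k A c, e.commutes c⟩

omit [IsArtinianRing A] in
theorem maximalIdeal_eq_ker : IsLocalRing.maximalIdeal A = RingHom.ker e.toRingHom :=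
  (IsLocalRing.eq_maximalIdeal (RingHom.ker_isMaximal_of_surjective _ (algHom_residue_surjective e))).symm

omit [IsArtinianRing A] in
theorem sub_mem_maximalIdeal (a : A) : a - algebraMap k A (e a) ∈ IsLocalRing.maximalIdeal A := by
  rw [maximalIdeal_eq_ker e, RingHom.mem_ker, map_sub]
  simp

include e in
omit [IsArtinianRing A] in
theorem exists_residue (a : A) : ∃ c : k, a - algebraMap k A c ∈ IsLocalRing.maximalIdeal A :=
  ⟨e a, sub_mem_maximalIdeal e a⟩

theorem surjective_SpecMap_residue : Surjective (Spec.map (CommRingCat.ofHom e.toRingHom)) := by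
  refine ⟨fun x => ⟨(default : PrimeSpectrum k), ?_⟩⟩
  apply PrimeSpectrum.ext
  have h1 := IsLocalRing.eq_maximalIdeal
    (IsArtinianRing.isMaximal_of_isPrime (x : PrimeSpectrum A).asIdeal)
  rw [h1]
  exact IsLocalRing.eq_maximalIdeal (IsArtinianRing.isMaximal_of_isPrime _)

variable {X X' : Scheme.{u}} {hX : X ⟶ Spec (CommRingCat.of k)} {g : X' ⟶ Spec (CommRingCat.of A)}
  {i : X ⟶ X'}

theorem isClosedImmersion_fibre
    (hsq : IsPullback i hX g (Spec.map (CommRingCat.ofHom e.toRingHom))) : IsClosedImmersion i :=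
  MorphismProperty.of_isPullback hsq.flip (IsClosedImmersion.spec_of_surjective _ (algHom_residue_surjective e))

/-- The total space of an infinitesimal deformation of an affine scheme is affine. -/
theorem isAffine_total [IsAffine X]
    (hsq : IsPullback i hX g (Spec.map (CommRingCat.ofHom e.toRingHom))) : IsAffine X' := by
  have := isClosedImmersion_fibre e hsq
  have : Surjective i := MorphismProperty.of_isPullback hsq.flip (surjective_SpecMap_residue e)
  exact VarGal.isAffine_of_thickening i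

omit [IsArtinianRing A] [IsLocalRing A] in
theorem appTop_baseMap (hsq : IsPullback i hX g (Spec.map (CommRingCat.ofHom e.toRingHom))) (a : A) :
    i.appTop (baseMap g a) = baseMap hX (e a) := by
  rw [← baseMap_comp, hsq.w, baseMap_SpecMap_comp]
  rfl

theorem appTop_surjective_fibre [IsAffine X] [IsAffine X']
    (hsq : IsPullback i hX g (Spec.map (CommRingCat.ofHom e.toRingHom))) :
    Function.Surjective i.appTop := by
  have := isClosedImmersion_fibre e hsq
  exact i.app_surjective ⊤ (isAffineOpen_top X')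

/-- The ideal of the closed fibre on global sections is the extended maximal ideal. -/
theorem ker_appTop_fibre [IsAffine X] [IsAffine X']
    (hsq : IsPullback i hX g (Spec.map (CommRingCat.ofHom e.toRingHom))) :
    RingHom.ker i.appTop.hom = (IsLocalRing.maximalIdeal A).map (baseMap g) := by
  refine le_antisymm (fun b hb => ?_) (Ideal.map_le_iff_le_comap.2 fun a ha => ?_)
  · have hpo := isPushout_appTop_of_isPullback hsq
    let J := (IsLocalRing.maximalIdeal A).map (baseMap g)
    let h : Γ(X', ⊤) ⟶ CommRingCat.of (Γ(X', ⊤) ⧸ J) := CommRingCat.ofHom (Ideal.Quotient.mk J)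
    let h' : Γ(Spec (CommRingCat.of k), ⊤) ⟶ CommRingCat.of (Γ(X', ⊤) ⧸ J) :=
      (Scheme.ΓSpecIso (CommRingCat.of k)).hom ≫
        CommRingCat.ofHom ((Ideal.Quotient.mk J).comp ((baseMap g).comp (algebraMap k A)))
    have hw : g.appTop ≫ h = (Spec.map (CommRingCat.ofHom e.toRingHom)).appTop ≫ h' := by
      rw [← cancel_epi (Scheme.ΓSpecIso (CommRingCat.of A)).inv]
      dsimp only [h']
      rw [← Scheme.ΓSpecIso_inv_naturality_assoc, Iso.inv_hom_id_assoc]
      refine CommRingCat.hom_ext (RingHom.ext fun a => ?_)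
      change Ideal.Quotient.mk J (baseMap g a) = Ideal.Quotient.mk J (baseMap g (algebraMap k A (e a)))
      rw [Ideal.Quotient.eq, ← map_sub]
      exact Ideal.mem_map_of_mem _ (sub_mem_maximalIdeal e a)
    have h3 : h b = hpo.desc h h' hw (i.appTop b) := congr($(hpo.inl_desc h h' hw).hom b).symm
    rw [show i.appTop b = 0 from hb, map_zero] at h3
    exact Ideal.Quotient.eq_zero_iff_mem.1 h3
  · rw [Ideal.mem_comap, RingHom.mem_ker]
    rw [maximalIdeal_eq_ker e, RingHom.mem_ker] at ha
    change i.appTop (baseMap g a) = 0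
    rw [appTop_baseMap e hsq, show e a = 0 from ha, map_zero]

theorem flat_baseMap [IsAffine X'] [Flat g] : (baseMap g).Flat :=
  RingHom.Flat.comp (RingHom.Flat.of_bijective
    (ConcreteCategory.bijective_of_isIso (Scheme.ΓSpecIso (CommRingCat.of A)).inv)) g.flat_appTop

theorem isNilpotent_ker_appTop [IsAffine X] [IsAffine X']
    (hsq : IsPullback i hX g (Spec.map (CommRingCat.ofHom e.toRingHom))) :
    IsNilpotent (RingHom.ker i.appTop.hom) := by
  letI : Algebra A Γ(X', ⊤) := (baseMap g).toAlgebra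
  rw [ker_appTop_fibre e hsq]
  exact exists_pow_map_maximalIdeal Γ(X', ⊤)

/-- A section of a surjection with kernel the extended maximal ideal trivialises a flat algebra. -/
theorem bijective_lift_of_section (hres : ∀ a : A, ∃ c : k, a - algebraMap k A c ∈ IsLocalRing.maximalIdeal A)
    {B B₀ : Type u} [CommRing B] [CommRing B₀] [Algebra A B] [Module.Flat A B] [Algebra k B]
    [IsScalarTower k A B] [Algebra k B₀] (r : B →ₐ[k] B₀) (hr : Function.Surjective r)
    (hker : RingHom.ker r = (IsLocalRing.maximalIdeal A).map (algebraMap A B))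
    (σ : B₀ →ₐ[k] B) (hσ : ∀ x, r (σ x) = x) :
    Function.Bijective (Algebra.TensorProduct.lift (Algebra.ofId A B) σ (fun _ _ => Commute.all _ _) :
      A ⊗[k] B₀ →ₐ[A] B) := by
  let ε := (Ideal.quotientEquivAlgOfEq k hker.symm).trans (Ideal.quotientKerAlgEquivOfSurjective hr)
  have hε : ∀ b, ε (Ideal.Quotient.mk _ b) = r b := fun b => rfl
  have hbij := bijective_lift_section hres (σ.comp ε.toAlgHom) fun x => by
    obtain ⟨b, rfl⟩ := Ideal.Quotient.mk_surjective x
    apply ε.injective
    rw [hε]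
    exact hσ _
  let E := Algebra.TensorProduct.congr (AlgEquiv.refl : A ≃ₐ[A] A) ε.symm
  have : ∀ z, (Algebra.TensorProduct.lift (Algebra.ofId A B) σ (fun _ _ => Commute.all _ _) :
      A ⊗[k] B₀ →ₐ[A] B) z = Algebra.TensorProduct.lift (Algebra.ofId A B) (σ.comp ε.toAlgHom)
      (fun _ _ => Commute.all _ _) (E z) := fun z => by
    induction z with
    | zero => simp
    | tmul a x => simp [E]
    | add z w hz hw => simp only [map_add, hz, hw]
  rw [show ⇑(Algebra.TensorProduct.lift (Algebra.ofId A B) σ (fun _ _ => Commute.all _ _) :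
      A ⊗[k] B₀ →ₐ[A] B) = _ ∘ ⇑E from funext this]
  exact hbij.comp E.bijective

/-- A section of the restriction to the closed fibre trivialises the deformation. -/
theorem exists_trivialisation [IsAffine X] [IsAffine X'] [Flat g]
    (hsq : IsPullback i hX g (Spec.map (CommRingCat.ofHom e.toRingHom)))
    (s : Γ(X, ⊤) →+* Γ(X', ⊤)) (hs1 : ∀ x, i.appTop (s x) = x)
    (hs2 : ∀ c, s (baseMap hX c) = baseMap g (algebraMap k A c)) :
    ∃ q : X' ⟶ X, q.appTop = CommRingCat.ofHom s ∧ i ≫ q = 𝟙 X ∧
      IsPullback q g hX (Spec.map (CommRingCat.ofHom (algebraMap k A))) := by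
  obtain ⟨q, hq⟩ := exists_hom_appTop (CommRingCat.ofHom s)
  have hq' : ∀ x, q.appTop x = s x := fun x => by rw [hq]; rfl
  refine ⟨q, hq, ext_of_isAffine ?_, ?_⟩
  · refine CommRingCat.hom_ext (RingHom.ext fun x => ?_)
    simp only [Scheme.Hom.comp_appTop, Scheme.Hom.id_appTop, CommRingCat.comp_apply, hq']
    exact hs1 x
  letI : Algebra A Γ(X', ⊤) := (baseMap g).toAlgebra
  letI : Algebra k Γ(X', ⊤) := ((baseMap g).comp (algebraMap k A)).toAlgebra
  letI : Algebra k Γ(X, ⊤) := (baseMap hX).toAlgebra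
  haveI : IsScalarTower k A Γ(X', ⊤) := IsScalarTower.of_algebraMap_eq fun c => rfl
  haveI : Module.Flat A Γ(X', ⊤) := flat_baseMap (g := g)
  have hker : RingHom.ker i.appTop.hom =
      (IsLocalRing.maximalIdeal A).map (algebraMap A Γ(X', ⊤)) := ker_appTop_fibre e hsq
  let σ : Γ(X, ⊤) →ₐ[k] Γ(X', ⊤) := { s with commutes' := hs2 }
  let r : Γ(X', ⊤) →ₐ[k] Γ(X, ⊤) := { i.appTop.hom with
    commutes' := fun c => (appTop_baseMap e hsq _).trans (congrArg (baseMap hX) (e.commutes c)) }
  have hr : Function.Surjective r := appTop_surjective_fibre e hsq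
  let Ψ : A ⊗[k] Γ(X, ⊤) →ₐ[A] Γ(X', ⊤) :=
    Algebra.TensorProduct.lift (Algebra.ofId A _) σ fun _ _ => Commute.all _ _
  have hΨ : Function.Bijective Ψ := bijective_lift_of_section (exists_residue e) r hr hker σ hs1
  have hpo : IsPushout (CommRingCat.ofHom (baseMap hX)) (CommRingCat.ofHom (algebraMap k A))
      (CommRingCat.ofHom s) (CommRingCat.ofHom (baseMap g)) := by
    refine ((CommRingCat.isPushout_tensorProduct k A Γ(X, ⊤)).flip).of_iso (Iso.refl _) (Iso.refl _)
      (Iso.refl _) (RingEquiv.ofBijective Ψ hΨ).toCommRingCatIso ?_ ?_ ?_ ?_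
    · simp only [Iso.refl_hom, Category.comp_id, Category.id_comp]
    · simp only [Iso.refl_hom, Category.comp_id, Category.id_comp]
    · refine CommRingCat.hom_ext (RingHom.ext fun x => ?_)
      change Ψ (1 ⊗ₜ x) = s x
      simp [Ψ]; rfl
    · refine CommRingCat.hom_ext (RingHom.ext fun a => ?_)
      change Ψ (a ⊗ₜ 1) = baseMap g a
      simp [Ψ]; rfl
  refine (isPullback_SpecMap_of_isPushout _ _ _ _ hpo).of_iso X'.isoSpec.symm X.isoSpec.symm
    (Iso.refl _) (Iso.refl _) ?_ ?_ ?_ ?_
  · rw [← hq, Iso.symm_hom, Iso.symm_hom, Scheme.isoSpec_inv_naturality]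
  · rw [Iso.symm_hom, Iso.refl_hom, Category.comp_id, Iso.eq_inv_comp, isoSpec_hom_SpecMap_baseMap]
  · rw [Iso.symm_hom, Iso.refl_hom, Category.comp_id, Iso.eq_inv_comp, isoSpec_hom_SpecMap_baseMap]
  · simp

/-- A deformation of an affine scheme with formally smooth coordinate ring has a section. -/
theorem exists_section_of_formallySmooth [IsAffine X] [IsAffine X']
    (hsq : IsPullback i hX g (Spec.map (CommRingCat.ofHom e.toRingHom)))
    (hsm : (baseMap hX).FormallySmooth) :
    ∃ s : Γ(X, ⊤) →+* Γ(X', ⊤), (∀ x, i.appTop (s x) = x) ∧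
      ∀ c, s (baseMap hX c) = baseMap g (algebraMap k A c) := by
  letI : Algebra k Γ(X', ⊤) := ((baseMap g).comp (algebraMap k A)).toAlgebra
  letI : Algebra k Γ(X, ⊤) := (baseMap hX).toAlgebra
  haveI : Algebra.FormallySmooth k Γ(X, ⊤) := hsm
  let r : Γ(X', ⊤) →ₐ[k] Γ(X, ⊤) := { i.appTop.hom with
    commutes' := fun c => (appTop_baseMap e hsq _).trans (congrArg (baseMap hX) (e.commutes c)) }
  have hr : Function.Surjective r := appTop_surjective_fibre e hsq
  let s := Algebra.FormallySmooth.liftOfSurjective (AlgHom.id k Γ(X, ⊤)) r hr (isNilpotent_ker_appTop e hsq)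
  exact ⟨s.toRingHom,
    fun x => Algebra.FormallySmooth.liftOfSurjective_apply (AlgHom.id k Γ(X, ⊤)) r hr _ x, s.commutes⟩

end Groth.Agent.Deform85
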