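import Groth.Agent.EGA4Alg4.Exal
import Groth.Agent.Helper62.FlatNilCrit

/-!
# Flat extensions along a semismall surjection form a torsor under classes of square-zero extensions

`C'` is a `k`-algebra augmented to `k`, `J` an ideal killed by the augmentation ideal and `B` a `C'`-algebra with
closed fibre `B₀`.  Flat `C'`-algebras `E` with a surjection onto `B` with kernel `J E` are, as soon as one exists,
in bijection with the classes of `k`-extensions of `B₀` by `B₀ ⊗ J`.
-/

set_option autoImplicit false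

universe u

open TensorProduct

noncomputable section

namespace Groth.Agent.Deform85.ExtTorsor

variable {k : Type u} [CommRing k] {C' : Type u} [CommRing C'] [Algebra k C'] {res : C' →ₐ[k] k} {J : Ideal C'}
variable {B : Type u} [CommRing B] [Algebra C' B] {B₀ : Type u} [CommRing B₀] [Algebra k B₀] {τ : B →+* B₀}

/-- The hypotheses on `C'`, `J`, `B` and its closed fibre `B₀`. -/
structure IsSetup (res : C' →ₐ[k] k) (J : Ideal C') (τ : B →+* B₀) : Prop where
  le : J ≤ RingHom.ker res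
  mul_eq : ∀ a, res a = 0 → ∀ t ∈ J, a * t = 0
  surj : Function.Surjective τ
  map : ∀ c, τ (algebraMap C' B c) = algebraMap k B₀ (res c)
  ker : RingHom.ker τ = (RingHom.ker res).map (algebraMap C' B)

/-- A `C'`-algebra lifting `B` (without flatness). -/
structure PExt (J : Ideal C') (B : Type u) [CommRing B] [Algebra C' B] : Type (u + 1) where
  E : Type u
  [commRing : CommRing E]
  [algebra : Algebra C' E]
  π : E →ₐ[C'] B
  surj : Function.Surjective π
  ker : RingHom.ker π = J.map (algebraMap C' E)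

instance (X : PExt J B) : CommRing X.E := X.commRing
instance (X : PExt J B) : Algebra C' X.E := X.algebra

/-- A flat `C'`-algebra lifting `B`. -/
structure AExt (J : Ideal C') (B : Type u) [CommRing B] [Algebra C' B] : Type (u + 1) extends PExt J B where
  flat : Module.Flat C' toPExt.E

instance (X : AExt J B) : Module.Flat C' X.E := X.flat

/-- Morphisms of lifts (automatically isomorphisms). -/
def Rel (X X' : AExt J B) : Prop := ∃ f : X.E →ₐ[C'] X'.E, ∀ x, X'.π (f x) = X.π x

variable (hS : IsSetup res J τ)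

include hS

theorem mk_mul_eq {c : C'} (t : C') (ht : t ∈ J) : c * t = algebraMap k C' (res c) * t := by
  rw [← sub_eq_zero, ← sub_mul]
  exact hS.mul_eq _ (by simp) t ht

theorem smul_mem_J (c : C') (t : ↥J) : c • t = res c • t := Subtype.ext (by
  change c * (t : C') = res c • (t : C')
  rw [Algebra.smul_def, mk_mul_eq hS (t : C') t.2])

/-- The composite to the closed fibre. -/
abbrev fibre (_ : IsSetup res J τ) (X : PExt J B) : X.E →+* B₀ := τ.comp X.π.toRingHom

theorem fibre_surjective (X : PExt J B) : Function.Surjective (fibre hS X) := hS.surj.comp X.surj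

theorem fibre_algebraMap (X : PExt J B) (c : C') :
    fibre hS X (algebraMap C' X.E c) = algebraMap k B₀ (res c) :=
  (congrArg τ (X.π.commutes c)).trans (hS.map c)

theorem ker_fibre (X : PExt J B) :
    RingHom.ker (fibre hS X) = (RingHom.ker res).map (algebraMap C' X.E) := by
  rw [← RingHom.comap_ker, hS.ker, ← X.π.comp_algebraMap, ← Ideal.map_map]
  refine (Ideal.comap_map_of_surjective _ X.surj _).trans (sup_eq_left.2 ?_)
  rw [← RingHom.ker_eq_comap_bot]
  exact X.ker.trans_le (Ideal.map_mono hS.le)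

theorem mul_eq_zero_of_fibre (X : PExt J B) {y : X.E} (hy : fibre hS X y = 0) (t : C') (ht : t ∈ J) :
    algebraMap C' X.E t * y = 0 := by
  have hy' : y ∈ (RingHom.ker res).map (algebraMap C' X.E) := ker_fibre hS X ▸ hy
  refine (Ideal.map_le_iff_le_comap.2 (fun a ha => ?_) hy' :
    y ∈ (LinearMap.ker (LinearMap.mulLeft X.E (algebraMap C' X.E t)) : Ideal X.E))
  change algebraMap C' X.E t * algebraMap C' X.E a = 0
  rw [← map_mul, mul_comm, hS.mul_eq a ha t ht, map_zero]

theorem mul_congr (X : PExt J B) {x y : X.E} (h : fibre hS X x = fibre hS X y) (t : C') (ht : t ∈ J) :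
    algebraMap C' X.E t * x = algebraMap C' X.E t * y := by
  rw [← sub_eq_zero, ← mul_sub]
  exact mul_eq_zero_of_fibre hS X (by rw [map_sub, h, sub_self]) t ht

/-- A set-theoretic section of the map to the closed fibre. -/
def sec (X : PExt J B) (b : B₀) : X.E := (fibre_surjective hS X b).choose

theorem fibre_sec (X : PExt J B) (b : B₀) : fibre hS X (sec hS X b) = b :=
  (fibre_surjective hS X b).choose_spec

/-- The inclusion of `B₀ ⊗ J` as the kernel of a lift. -/
def μ (X : PExt J B) : B₀ ⊗[k] ↥J →+ X.E :=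
  TensorProduct.liftAddHom
    (AddMonoidHom.mk' (fun b : B₀ => AddMonoidHom.mk' (fun t : ↥J => algebraMap C' X.E t.1 * sec hS X b)
        (fun t t' => by simp [add_mul]))
      (fun b b' => AddMonoidHom.ext fun t => by
        change algebraMap C' X.E t.1 * _ = algebraMap C' X.E t.1 * _ + algebraMap C' X.E t.1 * _
        rw [← mul_add]
        exact mul_congr hS X (by rw [map_add, fibre_sec, fibre_sec, fibre_sec]) t.1 t.2))
    (fun r b t => by
      change algebraMap C' X.E t.1 * sec hS X (r • b) = algebraMap C' X.E (r • (t : C')) * sec hS X b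
      rw [Algebra.smul_def r (t : C'), map_mul, mul_comm (algebraMap C' X.E (algebraMap k C' r)), mul_assoc]
      refine mul_congr hS X ?_ t.1 t.2
      rw [map_mul, fibre_sec, fibre_sec, fibre_algebraMap, AlgHom.commutes, Algebra.smul_def]
      rfl)

theorem μ_tmul_sec (X : PExt J B) (b : B₀) (t : ↥J) :
    μ hS X (b ⊗ₜ t) = algebraMap C' X.E t.1 * sec hS X b :=
  TensorProduct.liftAddHom_tmul ..

theorem μ_tmul (X : PExt J B) (x : X.E) (t : ↥J) :
    μ hS X (fibre hS X x ⊗ₜ t) = algebraMap C' X.E t.1 * x := by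
  rw [μ_tmul_sec]
  exact mul_congr hS X (fibre_sec hS X _) t.1 t.2

theorem π_μ (X : PExt J B) (m : B₀ ⊗[k] ↥J) : X.π (μ hS X m) = 0 := by
  induction m with
  | zero => simp
  | tmul b t =>
    rw [μ_tmul_sec]
    exact (X.ker.ge (Ideal.mul_mem_right _ _ (Ideal.mem_map_of_mem _ t.2)) :)
  | add a b ha hb => rw [map_add, map_add, ha, hb, add_zero]

theorem fibre_μ (X : PExt J B) (m : B₀ ⊗[k] ↥J) : fibre hS X (μ hS X m) = 0 :=
  (congrArg τ (π_μ hS X m)).trans (map_zero τ)

theorem mul_μ (X : PExt J B) (x : X.E) (m : B₀ ⊗[k] ↥J) : x * μ hS X m = μ hS X (fibre hS X x • m) := by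
  induction m with
  | zero => simp
  | tmul b t =>
    obtain ⟨y, rfl⟩ := fibre_surjective hS X b
    rw [TensorProduct.smul_tmul', smul_eq_mul, ← map_mul, μ_tmul, μ_tmul]
    ring
  | add a b ha hb => rw [map_add, mul_add, ha, hb, smul_add, map_add]

theorem exists_μ_eq (X : PExt J B) {x : X.E} (hx : X.π x = 0) : ∃ m, μ hS X m = x := by
  have hx' : x ∈ J • (⊤ : Submodule C' X.E) := by
    rw [Ideal.smul_top_eq_map]
    exact X.ker.le hx
  clear hx
  induction hx' using Submodule.smul_induction_on' with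
  | smul t ht y _ => exact ⟨fibre hS X y ⊗ₜ ⟨t, ht⟩, by rw [μ_tmul, Algebra.smul_def]⟩
  | add p _ q _ hp hq =>
    obtain ⟨m, rfl⟩ := hp
    obtain ⟨n, rfl⟩ := hq
    exact ⟨m + n, map_add _ _ _⟩

/-- The comparison `J ⊗ E → B₀ ⊗ J`. -/
def Ξ (X : PExt J B) : ↥J ⊗[C'] X.E →+ B₀ ⊗[k] ↥J :=
  TensorProduct.liftAddHom
    (AddMonoidHom.mk' (fun t : ↥J => AddMonoidHom.mk' (fun x : X.E => fibre hS X x ⊗ₜ[k] t)
        (fun x x' => by rw [map_add, add_tmul]))
      (fun t t' => AddMonoidHom.ext fun x => tmul_add _ _ _))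
    (fun c t x => by
      change fibre hS X x ⊗ₜ[k] (c • t) = fibre hS X (c • x) ⊗ₜ[k] t
      rw [smul_mem_J hS, TensorProduct.tmul_smul, Algebra.smul_def c x, map_mul, fibre_algebraMap,
        TensorProduct.smul_tmul', Algebra.smul_def])

theorem Ξ_tmul (X : PExt J B) (t : ↥J) (x : X.E) : Ξ hS X (t ⊗ₜ x) = fibre hS X x ⊗ₜ t :=
  TensorProduct.liftAddHom_tmul ..

theorem μ_Ξ (X : PExt J B) (z : ↥J ⊗[C'] X.E) :
    μ hS X (Ξ hS X z) = TensorProduct.lid C' X.E (J.subtype.rTensor X.E z) := by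
  induction z with
  | zero => simp
  | tmul t x => rw [Ξ_tmul, μ_tmul, LinearMap.rTensor_tmul, TensorProduct.lid_tmul, Algebra.smul_def]; rfl
  | add a b ha hb => simp only [map_add, ha, hb]

theorem Ξ_surjective (X : PExt J B) : Function.Surjective (Ξ hS X) := fun m => by
  induction m with
  | zero => exact ⟨0, map_zero _⟩
  | tmul b t => exact ⟨t ⊗ₜ sec hS X b, by rw [Ξ_tmul, fibre_sec]⟩
  | add a b ha hb =>
    obtain ⟨z, rfl⟩ := ha
    obtain ⟨w, rfl⟩ := hb
    exact ⟨z + w, map_add _ _ _⟩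

theorem μ_injective (X : AExt J B) : Function.Injective (μ hS X.toPExt) := by
  refine (injective_iff_map_eq_zero _).2 fun m hm => ?_
  obtain ⟨z, rfl⟩ := Ξ_surjective hS X.toPExt m
  rw [μ_Ξ, LinearEquiv.map_eq_zero_iff] at hm
  have := Module.Flat.rTensor_preserves_injective_linearMap (M := X.E) J.subtype J.injective_subtype
  rw [this (hm.trans (map_zero _).symm), map_zero]

theorem tmul_eq_zero_of_fibre (X : PExt J B) (t : ↥J) {y : X.E} (hy : fibre hS X y = 0) :
    t ⊗ₜ[C'] y = 0 := by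
  have hy' : y ∈ RingHom.ker res • (⊤ : Submodule C' X.E) := by
    rw [Ideal.smul_top_eq_map]
    exact (ker_fibre hS X).le hy
  clear hy
  induction hy' using Submodule.smul_induction_on' with
  | smul c hc z _ =>
    rw [TensorProduct.tmul_smul, TensorProduct.smul_tmul', smul_mem_J hS, show res c = 0 from hc,
      zero_smul, zero_tmul]
  | add p _ q _ hp hq => rw [tmul_add, hp, hq, add_zero]

theorem Ξ_injective (X : PExt J B) : Function.Injective (Ξ hS X) := by
  let Ω : B₀ ⊗[k] ↥J →+ ↥J ⊗[C'] X.E :=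
    TensorProduct.liftAddHom
      (AddMonoidHom.mk' (fun b : B₀ => AddMonoidHom.mk' (fun t : ↥J => t ⊗ₜ[C'] sec hS X b)
          (fun t t' => add_tmul _ _ _))
        (fun b b' => AddMonoidHom.ext fun t => by
          change t ⊗ₜ[C'] _ = t ⊗ₜ[C'] _ + t ⊗ₜ[C'] _
          rw [← tmul_add, ← sub_eq_zero, ← tmul_sub]
          exact tmul_eq_zero_of_fibre hS X t (by
            simp only [map_sub, map_add, fibre_sec, sub_self])))
      (fun r b t => by
        change t ⊗ₜ[C'] sec hS X (r • b) = (r • t) ⊗ₜ[C'] sec hS X b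
        rw [show r • t = algebraMap k C' r • t from (algebraMap_smul C' r t).symm, TensorProduct.smul_tmul,
          ← sub_eq_zero, ← tmul_sub]
        refine tmul_eq_zero_of_fibre hS X t ?_
        rw [map_sub, Algebra.smul_def (algebraMap k C' r), map_mul, fibre_sec, fibre_sec, fibre_algebraMap,
          AlgHom.commutes, sub_eq_zero, Algebra.smul_def]
        rfl)
  have h : ∀ z, Ω (Ξ hS X z) = z := fun z => by
    induction z with
    | zero => simp
    | tmul t x =>
      rw [Ξ_tmul]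
      refine (TensorProduct.liftAddHom_tmul ..).trans ?_
      change t ⊗ₜ[C'] sec hS X (fibre hS X x) = t ⊗ₜ[C'] x
      rw [← sub_eq_zero, ← tmul_sub]
      exact tmul_eq_zero_of_fibre hS X t (by rw [map_sub, fibre_sec, sub_self])
    | add a b ha hb => rw [map_add, map_add, ha, hb]
  exact Function.LeftInverse.injective h

omit hS in
theorem nonempty_tensor_equiv (X : PExt J B) : Nonempty (((C' ⧸ J) ⊗[C'] X.E) ≃ₗ[C'] B) :=
  ⟨(TensorProduct.quotTensorEquivQuotSMul X.E J).trans ((Submodule.quotEquivOfEq _ _ (by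
      rw [Ideal.smul_top_eq_map]
      ext x
      exact (SetLike.ext_iff.1 X.ker x).symm)).trans
    (X.π.toLinearMap.quotKerEquivOfSurjective X.surj))⟩

/-- The flatness criterion for a lift, knowing flatness modulo `J`. -/
theorem flat_of_μ_injective' (X : PExt J B) (hflat : Module.Flat (C' ⧸ J) ((C' ⧸ J) ⊗[C'] X.E))
    (hX : Function.Injective (μ hS X)) : Module.Flat C' X.E := by
  refine Groth.Agent.FlatNilCrit62.flat_of_nilpotent_injective (J := J) ⟨2, ?_⟩ X.E ?_
  · rw [pow_two, Ideal.zero_eq_bot, eq_bot_iff, Ideal.mul_le]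
    exact fun a ha t ht => hS.mul_eq a (hS.le ha) t ht
  · refine (injective_iff_map_eq_zero _).2 fun z hz => ?_
    refine Ξ_injective hS X ((hX ?_).trans (map_zero _).symm)
    rw [μ_Ξ, hz, map_zero, map_zero]

/-- The flatness criterion for a lift. -/
theorem flat_of_μ_injective (Y : AExt J B) (X : PExt J B) (hX : Function.Injective (μ hS X)) :
    Module.Flat C' X.E := by
  obtain ⟨e⟩ := nonempty_tensor_equiv X
  obtain ⟨e'⟩ := nonempty_tensor_equiv Y.toPExt
  exact flat_of_μ_injective' hS X (Module.Flat.of_linearEquiv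
    ((e.trans e'.symm).extendScalarsOfSurjective (S := C' ⧸ J) Ideal.Quotient.mk_surjective)) hX

omit hS in
/-- The fibre product of two lifts over `B`. -/
abbrev fib (X Y : PExt J B) : Subalgebra C' (X.E × Y.E) :=
  AlgHom.equalizer (X.π.comp (AlgHom.fst C' X.E Y.E)) (Y.π.comp (AlgHom.snd C' X.E Y.E))

omit hS in
/-- Multiplication `𝔪 ⊗ M → M`. -/
abbrev mulMap (res : C' →ₐ[k] k) (M : Type u) [AddCommGroup M] [Module C' M] :
    ↥(RingHom.ker res) ⊗[C'] M →ₗ[C'] M :=
  TensorProduct.lift ((LinearMap.lsmul C' M).comp (RingHom.ker res).subtype)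

omit hS in
theorem mulMap_lTensor {M N : Type u} [AddCommGroup M] [Module C' M] [AddCommGroup N] [Module C' N]
    (f : M →ₗ[C'] N) (u : ↥(RingHom.ker res) ⊗[C'] M) :
    mulMap res N (f.lTensor _ u) = f (mulMap res M u) := by
  induction u with
  | zero => simp
  | tmul c x => simp
  | add a b ha hb => simp only [map_add, ha, hb]

omit hS in
theorem mulMap_injective {M : Type u} [AddCommGroup M] [Module C' M] [Module.Flat C' M] :
    Function.Injective (mulMap res M) := by
  have h : mulMap res M =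
      (TensorProduct.lid C' M).toLinearMap ∘ₗ (RingHom.ker res).subtype.rTensor M := by
    refine TensorProduct.ext' fun c x => ?_
    simp
  rw [h]
  exact (TensorProduct.lid C' M).injective.comp
    (Module.Flat.rTensor_preserves_injective_linearMap _ (RingHom.ker res).injective_subtype)

theorem lTensor_π_injective (Y : PExt J B) :
    Function.Injective (Y.π.toLinearMap.lTensor ↥(RingHom.ker res)) := by
  refine (injective_iff_map_eq_zero _).2 fun z hz => ?_
  obtain ⟨w, rfl⟩ := (lTensor_exact ↥(RingHom.ker res) (LinearMap.exact_subtype_ker_map Y.π.toLinearMap)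
    Y.surj z).1 hz
  have h0 : (LinearMap.ker Y.π.toLinearMap).subtype.lTensor ↥(RingHom.ker res) = 0 := by
    refine TensorProduct.ext' fun c y => ?_
    change c ⊗ₜ[C'] (y : Y.E) = 0
    have hy : (y : Y.E) ∈ J • (⊤ : Submodule C' Y.E) := by
      rw [Ideal.smul_top_eq_map]
      exact Y.ker.le y.2
    generalize (y : Y.E) = w at hy ⊢
    induction hy using Submodule.smul_induction_on' with
    | smul t ht x _ =>
      rw [TensorProduct.tmul_smul, TensorProduct.smul_tmul',
        show t • c = 0 from Subtype.ext (by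
          change t * (c : C') = 0
          rw [mul_comm]
          exact hS.mul_eq c.1 c.2 t ht), zero_tmul]
    | add p _ q _ hp hq => rw [tmul_add, hp, hq, add_zero]
  rw [h0, LinearMap.zero_apply]

/-- An element of `𝔪 D` whose first component lies in the kernel has the matching second component. -/
theorem key (X Y : AExt J B) (z : fib X.toPExt Y.toPExt)
    (hz : z ∈ (RingHom.ker res).map (algebraMap C' (fib X.toPExt Y.toPExt))) (a : B₀ ⊗[k] ↥J)
    (h : z.1.1 = μ hS X.toPExt a) : z.1.2 = μ hS Y.toPExt a := by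
  let D := fib X.toPExt Y.toPExt
  let p₁ : D →ₗ[C'] X.E := ((AlgHom.fst C' X.E Y.E).comp D.val).toLinearMap
  let p₂ : D →ₗ[C'] Y.E := ((AlgHom.snd C' X.E Y.E).comp D.val).toLinearMap
  obtain ⟨u, rfl⟩ : ∃ u, mulMap res D u = z := by
    have hz' : z ∈ RingHom.ker res • (⊤ : Submodule C' D) := by
      rw [Ideal.smul_top_eq_map]
      exact hz
    clear hz h
    induction hz' using Submodule.smul_induction_on' with
    | smul c hc y _ => exact ⟨⟨c, hc⟩ ⊗ₜ y, by simp⟩
    | add p _ q _ hp hq =>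
      obtain ⟨u, rfl⟩ := hp
      obtain ⟨v, rfl⟩ := hq
      exact ⟨u + v, map_add _ _ _⟩
  obtain ⟨v, hv₁, hv₂⟩ : ∃ v, p₁ (mulMap res D v) = μ hS X.toPExt a ∧
      p₂ (mulMap res D v) = μ hS Y.toPExt a := by
    clear h
    induction a with
    | zero => exact ⟨0, by simp, by simp⟩
    | tmul b t =>
      obtain ⟨x, hx⟩ := fibre_surjective hS X.toPExt b
      obtain ⟨y, hy⟩ := Y.surj (X.π x)
      refine ⟨⟨t.1, hS.le t.2⟩ ⊗ₜ (⟨(x, y), hy.symm⟩ : D), ?_, ?_⟩
      · rw [← hx, μ_tmul, TensorProduct.lift.tmul, ← Algebra.smul_def]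
        rfl
      · rw [← hx, show fibre hS X.toPExt x = fibre hS Y.toPExt y from congrArg τ hy.symm, μ_tmul,
          TensorProduct.lift.tmul, ← Algebra.smul_def]
        rfl
    | add a b ha hb =>
      obtain ⟨v, h1, h2⟩ := ha
      obtain ⟨w, h1', h2'⟩ := hb
      exact ⟨v + w, by simp only [map_add, h1, h1'], by simp only [map_add, h2, h2']⟩
  have e₁ : p₁.lTensor ↥(RingHom.ker res) u = p₁.lTensor ↥(RingHom.ker res) v := by
    apply mulMap_injective (res := res)
    rw [mulMap_lTensor, mulMap_lTensor, hv₁]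
    exact h
  have hpp : X.π.toLinearMap ∘ₗ p₁ = Y.π.toLinearMap ∘ₗ p₂ := LinearMap.ext fun d => d.2
  have e₂ : p₂.lTensor ↥(RingHom.ker res) u = p₂.lTensor ↥(RingHom.ker res) v := by
    apply lTensor_π_injective hS Y.toPExt
    rw [← LinearMap.lTensor_comp_apply, ← LinearMap.lTensor_comp_apply, ← hpp,
      LinearMap.lTensor_comp_apply, LinearMap.lTensor_comp_apply, e₁]
  change p₂ (mulMap res D u) = μ hS Y.toPExt a
  rw [← mulMap_lTensor, e₂, mulMap_lTensor, hv₂]

/-- The diagonal `B₀ ⊗ J` in a fibre product. -/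
def diag (X Y : PExt J B) : Ideal (fib X Y) where
  carrier := {d | ∃ a, d.1.1 = μ hS X a ∧ d.1.2 = μ hS Y a}
  zero_mem' := ⟨0, by simp, by simp⟩
  add_mem' := by
    rintro p q ⟨a, ha, ha'⟩ ⟨b, hb, hb'⟩
    exact ⟨a + b, by simp [ha, hb], by simp [ha', hb']⟩
  smul_mem' := by
    rintro x d ⟨a, ha, ha'⟩
    refine ⟨fibre hS X x.1.1 • a, ?_, ?_⟩
    · change x.1.1 * d.1.1 = _
      rw [ha, mul_μ]
    · change x.1.2 * d.1.2 = _
      rw [ha', mul_μ, show fibre hS X x.1.1 = fibre hS Y x.1.2 from congrArg τ x.2]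

/-- The ideal cutting out the difference extension. -/
def diffIdeal (X Y : PExt J B) : Ideal (fib X Y) :=
  diag hS X Y ⊔ (RingHom.ker res).map (algebraMap C' (fib X Y))

theorem algebraMap_sub_mem (X Y : PExt J B) (c : C') :
    algebraMap C' (fib X Y) c - algebraMap C' (fib X Y) (algebraMap k C' (res c)) ∈ diffIdeal hS X Y := by
  rw [← map_sub]
  exact Ideal.mem_sup_right (Ideal.mem_map_of_mem _ (by simp))

omit hS in
/-- The middle ring of the difference of two lifts. -/
def DiffCarrier (hS : IsSetup res J τ) (X Y : PExt J B) : Type u := fib X Y ⧸ diffIdeal hS X Y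

omit hS in
instance (hS : IsSetup res J τ) (X Y : PExt J B) : CommRing (DiffCarrier hS X Y) :=
  inferInstanceAs (CommRing (fib X Y ⧸ diffIdeal hS X Y))

omit hS in
instance (hS : IsSetup res J τ) (X Y : PExt J B) : Algebra k (DiffCarrier hS X Y) :=
  (((Ideal.Quotient.mk (diffIdeal hS X Y)).comp (algebraMap C' (fib X Y))).comp (algebraMap k C') :
    k →+* DiffCarrier hS X Y).toAlgebra

/-- The class of a pair in the difference extension. -/
def dmk (X Y : PExt J B) : fib X Y →+* DiffCarrier hS X Y := Ideal.Quotient.mk _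

theorem dmk_surjective (X Y : PExt J B) : Function.Surjective (dmk hS X Y) := Ideal.Quotient.mk_surjective

theorem dmk_algebraMap (X Y : PExt J B) (c : C') :
    dmk hS X Y (algebraMap C' (fib X Y) c) = algebraMap k (DiffCarrier hS X Y) (res c) :=
  Ideal.Quotient.eq.2 (algebraMap_sub_mem hS X Y c)

theorem dmk_eq_zero {X Y : PExt J B} {d : fib X Y} (a : B₀ ⊗[k] ↥J) (h₁ : d.1.1 = μ hS X a)
    (h₂ : d.1.2 = μ hS Y a) : dmk hS X Y d = 0 :=
  Ideal.Quotient.eq_zero_iff_mem.2 (Ideal.mem_sup_left ⟨a, h₁, h₂⟩)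

/-- The inclusion `(μ m, 0)`. -/
def leftIncl (X Y : PExt J B) : B₀ ⊗[k] ↥J →+ fib X Y :=
  AddMonoidHom.mk' (fun a => ⟨(μ hS X a, 0), (π_μ hS X a).trans (map_zero Y.π).symm⟩)
    (fun a b => Subtype.ext (Prod.ext (map_add _ _ _) (add_zero _).symm))

theorem fibre_fst_eq_zero {X Y : PExt J B} {d : fib X Y} (hd : d ∈ diffIdeal hS X Y) :
    fibre hS X d.1.1 = 0 := by
  have : diffIdeal hS X Y ≤
      RingHom.ker ((fibre hS X).comp ((RingHom.fst X.E Y.E).comp (fib X Y).val.toRingHom)) := by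
    refine sup_le ?_ (Ideal.map_le_iff_le_comap.2 fun c hc => ?_)
    · rintro z ⟨a, ha, -⟩
      change fibre hS X z.1.1 = 0
      rw [ha, fibre_μ]
    · change fibre hS X (algebraMap C' X.E c) = 0
      rw [fibre_algebraMap, show res c = 0 from hc, map_zero]
  exact this hd

/-- The projection of the difference extension to `B₀`. -/
def diffProj (X Y : PExt J B) : DiffCarrier hS X Y →ₐ[k] B₀ :=
  { Ideal.Quotient.lift (diffIdeal hS X Y)
      ((fibre hS X).comp ((RingHom.fst X.E Y.E).comp (fib X Y).val.toRingHom))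
      (fun _ hd => fibre_fst_eq_zero hS hd) with
    commutes' := fun r => by
      change fibre hS X (algebraMap C' X.E (algebraMap k C' r)) = algebraMap k B₀ r
      rw [fibre_algebraMap, AlgHom.commutes]
      rfl }

theorem diffProj_dmk (X Y : PExt J B) (d : fib X Y) :
    diffProj hS X Y (dmk hS X Y d) = fibre hS X d.1.1 := rfl

/-- The difference of two lifts, as an extension of `B₀` by `B₀ ⊗ J`. -/
def diff (X Y : AExt J B) : Exal.Ext k B₀ (B₀ ⊗[k] ↥J) where
  E := DiffCarrier hS X.toPExt Y.toPExt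
  proj := diffProj hS X.toPExt Y.toPExt
  incl := (dmk hS X.toPExt Y.toPExt).toAddMonoidHom.comp (leftIncl hS X.toPExt Y.toPExt)
  isExtension :=
    { proj_surjective := fun b => by
        obtain ⟨x, hx⟩ := fibre_surjective hS X.toPExt b
        obtain ⟨y, hy⟩ := Y.surj (X.π x)
        exact ⟨dmk hS _ _ ⟨(x, y), hy.symm⟩, hx⟩
      incl_injective := by
        refine (injective_iff_map_eq_zero _).2 fun m hm => ?_
        obtain ⟨d₁, ⟨a, ha₁, ha₂⟩, z, hz, hsum⟩ := Submodule.mem_sup.1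
          (Ideal.Quotient.eq_zero_iff_mem.1 hm : leftIncl hS X.toPExt Y.toPExt m ∈ _)
        have e₁ : μ hS X.toPExt a + z.1.1 = μ hS X.toPExt m := by
          rw [← ha₁]
          exact congrArg (fun d : fib X.toPExt Y.toPExt => d.1.1) hsum
        have e₂ : μ hS Y.toPExt a + z.1.2 = 0 := by
          rw [← ha₂]
          exact congrArg (fun d : fib X.toPExt Y.toPExt => d.1.2) hsum
        rw [key hS X Y z hz (m - a) (by rw [map_sub, ← e₁]; abel), ← map_add, add_sub_cancel] at e₂
        exact μ_injective hS Y (e₂.trans (map_zero _).symm)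
      exact := fun q => by
        constructor
        · intro hq
          obtain ⟨d, rfl⟩ := dmk_surjective hS _ _ q
          have hd : d.1.1 ∈ RingHom.ker res • (⊤ : Submodule C' X.E) := by
            rw [Ideal.smul_top_eq_map]
            exact (ker_fibre hS X.toPExt).le hq
          have hlift : ∃ z : fib X.toPExt Y.toPExt,
              z ∈ RingHom.ker res • (⊤ : Submodule C' (fib X.toPExt Y.toPExt)) ∧ z.1.1 = d.1.1 := by
            generalize d.1.1 = w at hd ⊢
            induction hd using Submodule.smul_induction_on' with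
            | smul c hc x _ =>
              obtain ⟨y, hy⟩ := Y.surj (X.π x)
              exact ⟨c • (⟨(x, y), hy.symm⟩ : fib X.toPExt Y.toPExt), Submodule.smul_mem_smul hc trivial, rfl⟩
            | add p _ q _ hp hq =>
              obtain ⟨z, hz, rfl⟩ := hp
              obtain ⟨w, hw, rfl⟩ := hq
              exact ⟨z + w, add_mem hz hw, rfl⟩
          obtain ⟨z, hz, hz₁⟩ := hlift
          rw [Ideal.smul_top_eq_map] at hz
          obtain ⟨a, ha⟩ := exists_μ_eq hS Y.toPExt (x := (d - z).1.2) (by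
            refine ((d - z).2 : X.π (d - z).1.1 = Y.π (d - z).1.2).symm.trans ?_
            change X.π (d.1.1 - z.1.1) = 0
            rw [hz₁, sub_self, map_zero])
          refine ⟨-a, ?_⟩
          change dmk hS _ _ (leftIncl hS _ _ (-a)) = dmk hS _ _ d
          refine Ideal.Quotient.eq.2 ?_
          have : leftIncl hS X.toPExt Y.toPExt (-a) - d =
              (leftIncl hS X.toPExt Y.toPExt (-a) - (d - z)) + -z := by ring
          rw [this]
          refine add_mem (Ideal.mem_sup_left ⟨-a, ?_, ?_⟩) (neg_mem (Ideal.mem_sup_right hz))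
          · change μ hS X.toPExt (-a) - (d.1.1 - z.1.1) = _
            rw [hz₁, sub_self, sub_zero]
          · change 0 - (d - z).1.2 = _
            rw [map_neg, ha, zero_sub]
        · rintro ⟨m, rfl⟩
          exact fibre_μ hS X.toPExt m
      mul_incl := fun q m => by
        obtain ⟨d, rfl⟩ := dmk_surjective hS _ _ q
        change dmk hS _ _ d * dmk hS _ _ (leftIncl hS _ _ m) =
          dmk hS _ _ (leftIncl hS _ _ (fibre hS X.toPExt d.1.1 • m))
        rw [← map_mul]
        refine congrArg _ (Subtype.ext (Prod.ext ?_ (mul_zero _)))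
        exact mul_μ hS X.toPExt _ _ }

theorem fibre_comp {X X' : PExt J B} (f : X.E →ₐ[C'] X'.E) (hf : ∀ x, X'.π (f x) = X.π x) (x : X.E) :
    fibre hS X' (f x) = fibre hS X x := congrArg τ (hf x)

theorem map_μ {X X' : PExt J B} (f : X.E →ₐ[C'] X'.E) (hf : ∀ x, X'.π (f x) = X.π x) (m : B₀ ⊗[k] ↥J) :
    f (μ hS X m) = μ hS X' m := by
  induction m with
  | zero => simp
  | tmul b t =>
    obtain ⟨x, rfl⟩ := fibre_surjective hS X b
    rw [μ_tmul, map_mul, AlgHom.commutes]
    conv_rhs => rw [← fibre_comp hS f hf x, μ_tmul]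
  | add a b ha hb => rw [map_add, map_add, ha, hb, map_add]

theorem diff_congr {X X' : AExt J B} (Y : AExt J B) (h : Rel X X') :
    Nonempty ((diff hS X Y).Equiv (diff hS X' Y)) := by
  obtain ⟨f, hf⟩ := h
  let F : fib X.toPExt Y.toPExt →ₐ[C'] fib X'.toPExt Y.toPExt :=
    (((f.comp (AlgHom.fst C' X.E Y.E)).prod (AlgHom.snd C' X.E Y.E)).comp
      (fib X.toPExt Y.toPExt).val).codRestrict _ fun d => (hf _).trans d.2
  have hF : diffIdeal hS X.toPExt Y.toPExt ≤ Ideal.comap F.toRingHom (diffIdeal hS X'.toPExt Y.toPExt) := by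
    refine sup_le ?_ (Ideal.map_le_iff_le_comap.2 fun c hc => ?_)
    · rintro d ⟨a, ha₁, ha₂⟩
      exact Ideal.mem_sup_left ⟨a, (congrArg f ha₁).trans (map_μ hS f hf a), ha₂⟩
    · change F (algebraMap C' (fib X.toPExt Y.toPExt) c) ∈ diffIdeal hS X'.toPExt Y.toPExt
      rw [AlgHom.commutes]
      exact Ideal.mem_sup_right (Ideal.mem_map_of_mem _ hc)
  let g : (diff hS X Y).E →ₐ[k] (diff hS X' Y).E :=
    { (Ideal.quotientMap _ F.toRingHom hF :
        DiffCarrier hS X.toPExt Y.toPExt →+* DiffCarrier hS X'.toPExt Y.toPExt) with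
      commutes' := fun r => by
        change dmk hS X'.toPExt Y.toPExt (F (algebraMap C' _ (algebraMap k C' r))) = _
        rw [AlgHom.commutes]
        rfl }
  refine ⟨Groth.Agent.EGA4Alg4.Exal13.equivOfHom g (fun q => ?_) fun m => ?_⟩
  · obtain ⟨d, rfl⟩ := dmk_surjective hS _ _ q
    exact congrArg τ (hf d.1.1)
  · exact congrArg (dmk hS X'.toPExt Y.toPExt) (Subtype.ext (Prod.ext (map_μ hS f hf m) rfl))

/-- Pairs `(y, e)` over `B₀`. -/
abbrev prodFib (Y : PExt J B) (Z : Exal.Ext k B₀ (B₀ ⊗[k] ↥J)) : Subring (Y.E × Z.E) :=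
  RingHom.eqLocus ((fibre hS Y).comp (RingHom.fst Y.E Z.E))
    ((Z.proj : Z.E →+* B₀).comp (RingHom.snd Y.E Z.E))

/-- The structure map of the fibre product. -/
def prodFibMap (Y : PExt J B) (Z : Exal.Ext k B₀ (B₀ ⊗[k] ↥J)) : C' →+* prodFib hS Y Z :=
  ((algebraMap C' Y.E).prod ((algebraMap k Z.E).comp res.toRingHom)).codRestrict _ fun c => by
    change fibre hS Y (algebraMap C' Y.E c) = Z.proj (algebraMap k Z.E (res c))
    rw [fibre_algebraMap, AlgHom.commutes]

/-- The antidiagonal `B₀ ⊗ J`. -/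
def antiDiag (Y : PExt J B) (Z : Exal.Ext k B₀ (B₀ ⊗[k] ↥J)) : Ideal (prodFib hS Y Z) where
  carrier := {g | ∃ a, g.1.1 = μ hS Y a ∧ g.1.2 = -Z.incl a}
  zero_mem' := ⟨0, by simp, by simp⟩
  add_mem' := by
    rintro p q ⟨a, ha, ha'⟩ ⟨b, hb, hb'⟩
    refine ⟨a + b, by simp [ha, hb], ?_⟩
    change p.1.2 + q.1.2 = _
    rw [ha', hb', map_add, neg_add]
  smul_mem' := by
    rintro x g ⟨a, ha, ha'⟩
    refine ⟨fibre hS Y x.1.1 • a, ?_, ?_⟩
    · change x.1.1 * g.1.1 = _
      rw [ha, mul_μ]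
    · change x.1.2 * g.1.2 = _
      rw [ha', mul_neg, Z.isExtension.mul_incl,
        show fibre hS Y x.1.1 = Z.proj x.1.2 from x.2]

omit hS in
/-- The middle ring of a translated lift. -/
def TrCarrier (hS : IsSetup res J τ) (Y : PExt J B) (Z : Exal.Ext k B₀ (B₀ ⊗[k] ↥J)) : Type u :=
  prodFib hS Y Z ⧸ antiDiag hS Y Z

omit hS in
instance (hS : IsSetup res J τ) (Y : PExt J B) (Z : Exal.Ext k B₀ (B₀ ⊗[k] ↥J)) :
    CommRing (TrCarrier hS Y Z) :=
  inferInstanceAs (CommRing (prodFib hS Y Z ⧸ antiDiag hS Y Z))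

omit hS in
instance (hS : IsSetup res J τ) (Y : PExt J B) (Z : Exal.Ext k B₀ (B₀ ⊗[k] ↥J)) :
    Algebra C' (TrCarrier hS Y Z) :=
  ((Ideal.Quotient.mk (antiDiag hS Y Z)).comp (prodFibMap hS Y Z) : C' →+* TrCarrier hS Y Z).toAlgebra

/-- The class of a pair in a translated lift. -/
def tmk (Y : PExt J B) (Z : Exal.Ext k B₀ (B₀ ⊗[k] ↥J)) : prodFib hS Y Z →+* TrCarrier hS Y Z :=
  Ideal.Quotient.mk _

theorem tmk_surjective (Y : PExt J B) (Z : Exal.Ext k B₀ (B₀ ⊗[k] ↥J)) :
    Function.Surjective (tmk hS Y Z) := Ideal.Quotient.mk_surjective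

theorem tmk_prodFibMap (Y : PExt J B) (Z : Exal.Ext k B₀ (B₀ ⊗[k] ↥J)) (c : C') :
    tmk hS Y Z (prodFibMap hS Y Z c) = algebraMap C' (TrCarrier hS Y Z) c := rfl

theorem tmk_eq_zero {Y : PExt J B} {Z : Exal.Ext k B₀ (B₀ ⊗[k] ↥J)} {g : prodFib hS Y Z}
    (a : B₀ ⊗[k] ↥J) (h₁ : g.1.1 = μ hS Y a) (h₂ : g.1.2 = -Z.incl a) : tmk hS Y Z g = 0 :=
  Ideal.Quotient.eq_zero_iff_mem.2 ⟨a, h₁, h₂⟩

/-- The projection of a translated lift. -/
def trProj (Y : PExt J B) (Z : Exal.Ext k B₀ (B₀ ⊗[k] ↥J)) : TrCarrier hS Y Z →ₐ[C'] B :=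
  { Ideal.Quotient.lift (antiDiag hS Y Z)
      (Y.π.toRingHom.comp ((RingHom.fst Y.E Z.E).comp (prodFib hS Y Z).subtype))
      (fun g ⟨a, ha, _⟩ => (congrArg Y.π ha).trans (π_μ hS Y a)) with
    commutes' := fun c => Y.π.commutes c }

theorem trProj_tmk (Y : PExt J B) (Z : Exal.Ext k B₀ (B₀ ⊗[k] ↥J)) (g : prodFib hS Y Z) :
    trProj hS Y Z (tmk hS Y Z g) = Y.π g.1.1 := rfl

/-- The inclusion `(μ m, 0)` into the fibre product. -/
def trIncl (Y : PExt J B) (Z : Exal.Ext k B₀ (B₀ ⊗[k] ↥J)) : B₀ ⊗[k] ↥J →+ prodFib hS Y Z :=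
  AddMonoidHom.mk' (fun a => ⟨(μ hS Y a, 0), (fibre_μ hS Y a).trans (map_zero Z.proj).symm⟩)
    (fun a b => Subtype.ext (Prod.ext (map_add _ _ _) (add_zero _).symm))

theorem algebraMap_mul_tmk (Y : PExt J B) (Z : Exal.Ext k B₀ (B₀ ⊗[k] ↥J)) (t : ↥J)
    (g : prodFib hS Y Z) :
    algebraMap C' (TrCarrier hS Y Z) t.1 * tmk hS Y Z g =
      tmk hS Y Z (trIncl hS Y Z (fibre hS Y g.1.1 ⊗ₜ t)) := by
  rw [← tmk_prodFibMap, ← map_mul]
  refine congrArg _ (Subtype.ext (Prod.ext (μ_tmul hS Y g.1.1 t).symm ?_))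
  change algebraMap k Z.E (res t.1) * g.1.2 = 0
  rw [show res t.1 = 0 from hS.le t.2, map_zero, zero_mul]

/-- The translate of a lift by an extension, before flatness. -/
def trP (Y : PExt J B) (Z : Exal.Ext k B₀ (B₀ ⊗[k] ↥J)) : PExt J B where
  E := TrCarrier hS Y Z
  π := trProj hS Y Z
  surj b := by
    obtain ⟨y, rfl⟩ := Y.surj b
    obtain ⟨e, he⟩ := Z.isExtension.proj_surjective (fibre hS Y y)
    exact ⟨tmk hS Y Z ⟨(y, e), he.symm⟩, rfl⟩
  ker := by
    refine le_antisymm (fun q hq => ?_) (Ideal.map_le_iff_le_comap.2 fun t ht => ?_)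
    · obtain ⟨⟨⟨y, e⟩, hg⟩, rfl⟩ := tmk_surjective hS Y Z q
      have hy : Y.π y = 0 := hq
      obtain ⟨a, ha⟩ := exists_μ_eq hS Y hy
      obtain ⟨a', ha'⟩ := (Z.isExtension.exact e).1
        ((hg : fibre hS Y y = Z.proj e).symm.trans ((congrArg τ hy).trans (map_zero τ)))
      have : tmk hS Y Z ⟨(y, e), hg⟩ = tmk hS Y Z (trIncl hS Y Z (a + a')) := by
        refine Ideal.Quotient.eq.2 ⟨-a', ?_, ?_⟩
        · change y - μ hS Y (a + a') = _
          rw [← ha, map_add, map_neg]
          abel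
        · change e - 0 = _
          rw [← ha', map_neg, neg_neg, sub_zero]
      rw [this]
      generalize a + a' = m
      induction m with
      | zero => simp
      | tmul b t =>
        obtain ⟨y', rfl⟩ := fibre_surjective hS Y b
        obtain ⟨e', he'⟩ := Z.isExtension.proj_surjective (fibre hS Y y')
        rw [← algebraMap_mul_tmk hS Y Z t ⟨(y', e'), he'.symm⟩]
        exact Ideal.mul_mem_right _ _ (Ideal.mem_map_of_mem _ t.2)
      | add p q hp hq => rw [map_add, map_add]; exact add_mem hp hq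
    · change trProj hS Y Z (algebraMap C' _ t) = 0
      rw [AlgHom.commutes, ← Y.π.commutes]
      exact (Y.ker.ge (Ideal.mem_map_of_mem _ ht) :)

theorem μ_trP (Y : PExt J B) (Z : Exal.Ext k B₀ (B₀ ⊗[k] ↥J)) (m : B₀ ⊗[k] ↥J) :
    μ hS (trP hS Y Z) m = tmk hS Y Z (trIncl hS Y Z m) := by
  induction m with
  | zero => simp; rfl
  | tmul b t =>
    obtain ⟨y, rfl⟩ := fibre_surjective hS Y b
    obtain ⟨e, he⟩ := Z.isExtension.proj_surjective (fibre hS Y y)
    exact (μ_tmul hS (trP hS Y Z) (tmk hS Y Z ⟨(y, e), he.symm⟩) t).trans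
      (algebraMap_mul_tmk hS Y Z t ⟨(y, e), he.symm⟩)
  | add p q hp hq => rw [map_add, map_add, map_add, hp, hq]; rfl

theorem μ_trP_injective (Y : AExt J B) (Z : Exal.Ext k B₀ (B₀ ⊗[k] ↥J)) :
    Function.Injective (μ hS (trP hS Y.toPExt Z)) := by
  refine (injective_iff_map_eq_zero _).2 fun m hm => ?_
  rw [μ_trP] at hm
  obtain ⟨a, ha, ha'⟩ := Ideal.Quotient.eq_zero_iff_mem.1 hm
  have : a = 0 := Z.isExtension.incl_injective ((neg_eq_zero.1 ha'.symm).trans (map_zero _).symm)
  rw [this] at ha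
  exact μ_injective hS Y ha

/-- The translate of a lift by an extension. -/
def tr (Y : AExt J B) (Z : Exal.Ext k B₀ (B₀ ⊗[k] ↥J)) : AExt J B where
  toPExt := trP hS Y.toPExt Z
  flat := flat_of_μ_injective hS Y _ (μ_trP_injective hS Y Z)

theorem tr_congr (Y : AExt J B) {Z Z' : Exal.Ext k B₀ (B₀ ⊗[k] ↥J)} (e : Z.Equiv Z') :
    Rel (tr hS Y Z) (tr hS Y Z') := by
  let G : prodFib hS Y.toPExt Z →+* prodFib hS Y.toPExt Z' :=
    (((RingHom.fst Y.E Z.E).prod ((e.toAlgEquiv : Z.E →+* Z'.E).comp (RingHom.snd Y.E Z.E))).comp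
      (prodFib hS Y.toPExt Z).subtype).codRestrict _ fun g => by
        change fibre hS Y.toPExt g.1.1 = Z'.proj (e.toAlgEquiv g.1.2)
        rw [e.proj_apply]
        exact g.2
  have hG : antiDiag hS Y.toPExt Z ≤ Ideal.comap G (antiDiag hS Y.toPExt Z') := by
    rintro g ⟨a, ha, ha'⟩
    refine ⟨a, ha, ?_⟩
    change e.toAlgEquiv g.1.2 = _
    rw [ha', map_neg, e.apply_incl]
  refine ⟨{ (Ideal.quotientMap _ G hG : TrCarrier hS Y.toPExt Z →+* TrCarrier hS Y.toPExt Z') with
    commutes' := fun c => ?_ }, fun q => ?_⟩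
  · change tmk hS Y.toPExt Z' (G (prodFibMap hS Y.toPExt Z c)) = _
    refine congrArg _ (Subtype.ext (Prod.ext rfl ?_))
    exact e.toAlgEquiv.commutes _
  · obtain ⟨g, rfl⟩ := tmk_surjective hS _ _ q
    rfl

/-- The translate by the difference is the lift. -/
theorem rel_tr_diff (X Y : AExt J B) : Rel X (tr hS Y (diff hS X Y)) := by
  let D := fib X.toPExt Y.toPExt
  let Z := diff hS X Y
  let h : D →+* prodFib hS Y.toPExt Z :=
    (((RingHom.snd X.E Y.E).comp D.val.toRingHom).prod (dmk hS X.toPExt Y.toPExt)).codRestrict _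
      fun d => (congrArg τ d.2).symm
  let H : D →+* (tr hS Y Z).E := (tmk hS Y.toPExt Z).comp h
  let f₁ : D →+* X.E := (RingHom.fst X.E Y.E).comp D.val.toRingHom
  have hf₁ : Function.Surjective f₁ := fun x => by
    obtain ⟨y, hy⟩ := Y.surj (X.π x)
    exact ⟨⟨(x, y), hy.symm⟩, rfl⟩
  have hker : RingHom.ker f₁ ≤ RingHom.ker H := by
    intro d hd
    have hd₁ : d.1.1 = 0 := hd
    obtain ⟨a, ha⟩ := exists_μ_eq hS Y.toPExt (x := d.1.2)
      ((d.2 : X.π d.1.1 = Y.π d.1.2).symm.trans ((congrArg X.π hd₁).trans (map_zero X.π)))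
    refine tmk_eq_zero hS a ha.symm ?_
    change dmk hS _ _ d = -dmk hS _ _ (leftIncl hS _ _ a)
    rw [← sub_eq_zero, sub_neg_eq_add, ← map_add]
    refine dmk_eq_zero hS a ?_ ?_
    · change d.1.1 + μ hS X.toPExt a = _
      rw [hd₁, zero_add]
    · change d.1.2 + 0 = _
      rw [ha, add_zero]
  let f : X.E →+* (tr hS Y Z).E := f₁.liftOfSurjective hf₁ ⟨H, hker⟩
  have hf : ∀ d, f (f₁ d) = H d := fun d => RingHom.liftOfRightInverse_comp_apply _ _ _ _ d
  refine ⟨{ f with commutes' := fun c => ?_ }, fun x => ?_⟩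
  · refine (hf (algebraMap C' D c)).trans (congrArg (tmk hS Y.toPExt Z) (Subtype.ext (Prod.ext rfl ?_)))
    exact dmk_algebraMap hS X.toPExt Y.toPExt c
  · obtain ⟨d, rfl⟩ := hf₁ x
    exact (congrArg (tr hS Y Z).π (hf d)).trans d.2.symm

/-- The difference of a translate is the extension. -/
theorem equiv_diff_tr (Y : AExt J B) (Z : Exal.Ext k B₀ (B₀ ⊗[k] ↥J)) :
    Nonempty (Z.Equiv (diff hS (tr hS Y Z) Y)) := by
  let G := prodFib hS Y.toPExt Z
  let D := fib (tr hS Y Z).toPExt Y.toPExt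
  let h : G →+* D :=
    ((tmk hS Y.toPExt Z).prod ((RingHom.fst Y.E Z.E).comp G.subtype)).codRestrict D fun g => rfl
  let H : G →+* (diff hS (tr hS Y Z) Y).E := (dmk hS (tr hS Y Z).toPExt Y.toPExt).comp h
  have hh : ∀ c, h (prodFibMap hS Y.toPExt Z c) = algebraMap C' D c := fun c => rfl
  let s₂ : G →+* Z.E := (RingHom.snd Y.E Z.E).comp G.subtype
  have hs₂ : Function.Surjective s₂ := fun e => by
    obtain ⟨y, hy⟩ := fibre_surjective hS Y.toPExt (Z.proj e)
    exact ⟨⟨(y, e), hy⟩, rfl⟩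
  have hker : RingHom.ker s₂ ≤ RingHom.ker H := by
    rintro ⟨⟨y, e⟩, hg⟩ (he : e = 0)
    subst he
    have hy : y ∈ RingHom.ker res • (⊤ : Submodule C' Y.E) := by
      rw [Ideal.smul_top_eq_map]
      exact (ker_fibre hS Y.toPExt).le ((hg : fibre hS Y.toPExt y = Z.proj 0).trans (map_zero Z.proj))
    induction hy using Submodule.smul_induction_on' with
    | smul c hc y' _ =>
      obtain ⟨e', he'⟩ := Z.isExtension.proj_surjective (fibre hS Y.toPExt y')
      have he : (⟨(c • y', 0), hg⟩ : G) = prodFibMap hS Y.toPExt Z c * ⟨(y', e'), he'.symm⟩ := by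
        refine Subtype.ext (Prod.ext (Algebra.smul_def c y') ?_)
        change 0 = algebraMap k Z.E (res c) * e'
        rw [show res c = 0 from hc, map_zero, zero_mul]
      rw [he, RingHom.mem_ker, map_mul]
      refine mul_eq_zero_of_left ?_ _
      change dmk hS _ _ (h (prodFibMap hS Y.toPExt Z c)) = 0
      rw [hh]
      exact Ideal.Quotient.eq_zero_iff_mem.2 (Ideal.mem_sup_right (Ideal.mem_map_of_mem _ hc))
    | add p hp' q hq' hp hq =>
      have hfp : ∀ w ∈ RingHom.ker res • (⊤ : Submodule C' Y.E), ((w, (0 : Z.E)) : Y.E × Z.E) ∈ G :=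
        fun w hw => by
          rw [Ideal.smul_top_eq_map] at hw
          exact ((ker_fibre hS Y.toPExt).ge hw :).trans (map_zero Z.proj).symm
      rw [show (⟨(p + q, 0), hg⟩ : G) = ⟨(p, 0), hfp p hp'⟩ + ⟨(q, 0), hfp q hq'⟩ from
        Subtype.ext (Prod.ext rfl (add_zero _).symm)]
      exact add_mem (hp (hfp p hp')) (hq (hfp q hq'))
  let f : Z.E →+* (diff hS (tr hS Y Z) Y).E := s₂.liftOfSurjective hs₂ ⟨H, hker⟩
  have hf : ∀ g, f (s₂ g) = H g := fun g => RingHom.liftOfRightInverse_comp_apply _ _ _ _ g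
  refine ⟨Groth.Agent.EGA4Alg4.Exal13.equivOfHom { f with commutes' := fun r => ?_ }
    (fun e => ?_) fun m => ?_⟩
  · have e₁ : algebraMap k Z.E r = s₂ (prodFibMap hS Y.toPExt Z (algebraMap k C' r)) :=
      congrArg (algebraMap k Z.E) (res.commutes r).symm
    change f (algebraMap k Z.E r) = _
    rw [e₁, hf]
    exact congrArg (dmk hS _ _) (hh _)
  · obtain ⟨g, rfl⟩ := hs₂ e
    exact (congrArg (diff hS (tr hS Y Z) Y).proj (hf g)).trans g.2
  · let g : G := ⟨(0, Z.incl m),
      (map_zero (fibre hS Y.toPExt)).trans (Groth.Agent.EGA4Alg4.Exal13.proj_incl Z m).symm⟩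
    refine (hf g).trans (congrArg (dmk hS _ _) (Subtype.ext (Prod.ext ?_ rfl)))
    change tmk hS Y.toPExt Z g = μ hS (trP hS Y.toPExt Z) m
    rw [μ_trP]
    refine Ideal.Quotient.eq.2 ⟨-m, ?_, ?_⟩
    · change 0 - μ hS Y.toPExt m = _
      rw [map_neg, zero_sub]
    · change Z.incl m - 0 = _
      rw [map_neg, neg_neg, sub_zero]

/-- Lifts, as soon as one exists, correspond to classes of extensions of `B₀` by `B₀ ⊗ J`. -/
theorem nonempty_equiv_exalcom (Y : AExt J B) :
    Nonempty (Quot (Rel (J := J) (B := B)) ≃ Exal.Exalcom k B₀ (B₀ ⊗[k] ↥J)) := by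
  refine ⟨{
    toFun := Quot.lift (fun X => (diff hS X Y).cl) fun X X' h => Quotient.sound (diff_congr hS Y h)
    invFun := Quotient.lift (s := Exal.Ext.setoid k B₀ (B₀ ⊗[k] ↥J)) (fun Z => Quot.mk _ (tr hS Y Z))
      fun Z Z' ⟨e⟩ => Quot.sound (tr_congr hS Y e)
    left_inv := fun q => ?_
    right_inv := fun q => ?_ }⟩
  · induction q using Quot.ind with
    | _ X => exact (Quot.sound (rel_tr_diff hS X Y)).symm
  · induction q using Quotient.ind with
    | _ Z => exact (Quotient.sound (equiv_diff_tr hS Y Z)).symm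

end Groth.Agent.Deform85.ExtTorsor
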