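import Groth.Prelude.Def_ArtFun4
import Groth.Prelude.Def_CotT
import Groth.Agent.Deform85.AffineTriv
import Groth.Agent.Deform85.ExtTorsor
import Groth.Agent.CotT85.ExalT1

/-!
# Extensions of deformations of an affine scheme along a semismall surjection
-/

set_option autoImplicit false

universe u

open CategoryTheory CategoryTheory.Limits AlgebraicGeometry TensorProduct

noncomputable section

namespace Groth.Agent.Deform85.AffineDefExt

theorem baseMap_SpecMap {R S : Type u} [CommRing R] [CommRing S] (φ : R →+* S) (a : R) :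
    baseMap (Spec.map (CommRingCat.ofHom φ)) a = (Scheme.ΓSpecIso (CommRingCat.of S)).inv (φ a) :=
  congr($(Scheme.ΓSpecIso_inv_naturality (CommRingCat.ofHom φ)) a).symm

/-- Global sections of a base change along a surjection of rings. -/
theorem appTop_of_surjective {R S : Type u} [CommRing R] [CommRing S] (φ : R →+* S) (hφ : Function.Surjective φ)
    {X X' : Scheme.{u}} [IsAffine X] [IsAffine X'] {g : X' ⟶ Spec (CommRingCat.of R)}
    {h : X ⟶ Spec (CommRingCat.of S)} {j : X ⟶ X'}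
    (hsq : IsPullback j h g (Spec.map (CommRingCat.ofHom φ))) :
    Function.Surjective j.appTop ∧ RingHom.ker j.appTop.hom = (RingHom.ker φ).map (baseMap g) := by
  have : IsClosedImmersion j :=
    MorphismProperty.of_isPullback hsq.flip (IsClosedImmersion.spec_of_surjective _ hφ)
  refine ⟨j.app_surjective ⊤ (isAffineOpen_top X'),
    le_antisymm (fun b hb => ?_) (Ideal.map_le_iff_le_comap.2 fun a ha => ?_)⟩
  · have hpo := isPushout_appTop_of_isPullback hsq
    let I := (RingHom.ker φ).map (baseMap g)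
    let ψ : S →+* Γ(X', ⊤) ⧸ I := φ.liftOfSurjective hφ ⟨(Ideal.Quotient.mk I).comp (baseMap g),
      fun a ha => Ideal.Quotient.eq_zero_iff_mem.2 (Ideal.mem_map_of_mem _ ha)⟩
    have hψ : ∀ a, ψ (φ a) = Ideal.Quotient.mk I (baseMap g a) :=
      fun a => RingHom.liftOfRightInverse_comp_apply _ _ _ _ a
    let q : Γ(X', ⊤) ⟶ CommRingCat.of (Γ(X', ⊤) ⧸ I) := CommRingCat.ofHom (Ideal.Quotient.mk I)
    let q' : Γ(Spec (CommRingCat.of S), ⊤) ⟶ CommRingCat.of (Γ(X', ⊤) ⧸ I) :=
      (Scheme.ΓSpecIso (CommRingCat.of S)).hom ≫ CommRingCat.ofHom ψ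
    have hw : g.appTop ≫ q = (Spec.map (CommRingCat.ofHom φ)).appTop ≫ q' := by
      rw [← cancel_epi (Scheme.ΓSpecIso (CommRingCat.of R)).inv]
      dsimp only [q']
      rw [← Scheme.ΓSpecIso_inv_naturality_assoc, Iso.inv_hom_id_assoc]
      exact CommRingCat.hom_ext (RingHom.ext fun a => (hψ a).symm)
    have h3 : q b = hpo.desc q q' hw (j.appTop b) := congr($(hpo.inl_desc q q' hw).hom b).symm
    rw [show j.appTop b = 0 from hb, map_zero] at h3
    exact Ideal.Quotient.eq_zero_iff_mem.1 h3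
  · change j.appTop (baseMap g a) = 0
    rw [← baseMap_comp, hsq.w, baseMap_SpecMap_comp, show φ a = 0 from ha, map_zero]

open ArtFun ArtFun.Art Groth.Agent.Deform85.ExtTorsor

variable {k : Type u} [Field k] {B₀ : Type u} [CommRing B₀] [Algebra k B₀]

/-- The structure map of `Spec B₀`. -/
abbrev str (k B₀ : Type u) [Field k] [CommRing B₀] [Algebra k B₀] :
    Spec (CommRingCat.of B₀) ⟶ specPt k :=
  Spec.map (CommRingCat.ofHom (algebraMap k B₀))

/-- The kernel of a morphism of test objects. -/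
abbrev kerI {C' C : ArtFun.Art k k} (p : C' ⟶ C) : Ideal C'.carrier := RingHom.ker p.toAlgHom

variable {C' C : ArtFun.Art k k} (p : C' ⟶ C) (𝒳 : DefSch (Spec (CommRingCat.of B₀)) (str k B₀) C)

/-- The coordinate ring of a deformation, as an algebra over the source of `p`. -/
def Ring0 (_ : C' ⟶ C) (𝒳 : DefSch (Spec (CommRingCat.of B₀)) (str k B₀) C) : Type u := Γ(𝒳.total, ⊤)

instance : CommRing (Ring0 p 𝒳) := inferInstanceAs (CommRing Γ(𝒳.total, ⊤))

instance : Algebra C'.carrier (Ring0 p 𝒳) :=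
  ((baseMap 𝒳.f).comp p.toAlgHom.toRingHom : C'.carrier →+* Ring0 p 𝒳).toAlgebra

/-- Restriction to the closed fibre. -/
def τ0 : Ring0 p 𝒳 →+* B₀ :=
  (Scheme.ΓSpecIso (CommRingCat.of B₀)).hom.hom.comp 𝒳.i.appTop.hom

theorem res_apply (c : C'.carrier) : C.res (p.toAlgHom c) = C'.res c := AlgHom.congr_fun p.res_comp c

theorem isAffine_def {A : ArtFun.Art k k} (ξ : DefSch (Spec (CommRingCat.of B₀)) (str k B₀) A) :
    IsAffine ξ.total := isAffine_total A.res ξ.isPullback

theorem isSetup (hp : IsSemismallExt p) : IsSetup C'.res (kerI p) (τ0 p 𝒳) := by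
  have : IsAffine 𝒳.total := isAffine_def 𝒳
  have hiso := ConcreteCategory.bijective_of_isIso (Scheme.ΓSpecIso (CommRingCat.of B₀)).hom
  refine ⟨fun t ht => ?_, fun a ha t ht => ?_, hiso.2.comp (appTop_surjective_fibre C.res 𝒳.isPullback),
    fun c => ?_, ?_⟩
  · rw [RingHom.mem_ker, ← res_apply p, show p.toAlgHom t = 0 from ht, map_zero]
  · have ha' : a ∈ IsLocalRing.maximalIdeal C'.carrier := by
      rw [maximalIdeal_eq_ker C'.res]
      exact ha
    have h := Ideal.mul_mem_mul ha' ht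
    rwa [hp.2, Ideal.mem_bot] at h
  · change (Scheme.ΓSpecIso (CommRingCat.of B₀)).hom (𝒳.i.appTop (baseMap 𝒳.f (p.toAlgHom c))) = _
    rw [appTop_baseMap C.res 𝒳.isPullback, baseMap_SpecMap, ← CommRingCat.comp_apply, Iso.inv_hom_id,
      res_apply]
    rfl
  · have h1 : RingHom.ker (τ0 p 𝒳) = RingHom.ker 𝒳.i.appTop.hom := by
      ext b
      exact map_eq_zero_iff _ hiso.1
    have h2 : (RingHom.ker C'.res).map p.toAlgHom.toRingHom = IsLocalRing.maximalIdeal C.carrier := by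
      rw [maximalIdeal_eq_ker C.res, show RingHom.ker C'.res =
        (RingHom.ker C.res.toRingHom).comap p.toAlgHom.toRingHom from
          Ideal.ext fun c => by rw [Ideal.mem_comap, RingHom.mem_ker, RingHom.mem_ker, ← res_apply p]; rfl]
      exact Ideal.map_comap_of_surjective _ hp.1 _
    rw [h1, ker_appTop_fibre C.res 𝒳.isPullback, ← h2, Ideal.map_map]
    rfl

/-- The type of extensions of `𝒳` along `p`. -/
abbrev ExtT : Type (u + 1) :=
  Σ 𝒳' : DefSch (Spec (CommRingCat.of B₀)) (str k B₀) C', (𝒳'.baseChange p).Iso 𝒳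

/-- The relation of equivalence of extensions. -/
abbrev extRel (a b : ExtT p 𝒳) : Prop :=
  ∃ ψ : a.1.Iso b.1, ((ψ.baseChange p).trans b.2).iso = a.2.iso

variable {p 𝒳}

/-- The closed immersion of `𝒳` in an extension. -/
def jmor (a : ExtT p 𝒳) : 𝒳.total ⟶ a.1.total := a.2.iso.inv ≫ pullback.fst a.1.f (specMap p)

theorem isPullback_jmor (a : ExtT p 𝒳) : IsPullback (jmor a) 𝒳.f a.1.f (specMap p) :=
  (IsPullback.of_hasPullback a.1.f (specMap p)).of_iso a.2.iso (Iso.refl _) (Iso.refl _) (Iso.refl _)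
    (by simp [jmor]) (by simpa using a.2.hom_f.symm) (by simp) (by simp)

theorem i_jmor (a : ExtT p 𝒳) : 𝒳.i ≫ jmor a = a.1.i := by
  rw [jmor, ← a.2.i_hom, Category.assoc, Iso.hom_inv_id_assoc]
  exact DefSch.baseChange_i_fst _ _

theorem jmor_appTop_baseMap (a : ExtT p 𝒳) (c : C'.carrier) :
    (jmor a).appTop (baseMap a.1.f c) = baseMap 𝒳.f (p.toAlgHom c) := by
  rw [← baseMap_comp, (isPullback_jmor a).w, baseMap_SpecMap_comp]
  rfl

/-- The coordinate ring of an extension, as a flat lift. -/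
def toAExt (hp : IsSemismallExt p) (a : ExtT p 𝒳) : AExt (kerI p) (Ring0 p 𝒳) :=
  have := isAffine_def 𝒳
  have := isAffine_def a.1
  { E := Γ(a.1.total, ⊤)
    algebra := (baseMap a.1.f).toAlgebra
    π :=
      letI : Algebra C'.carrier Γ(a.1.total, ⊤) := (baseMap a.1.f).toAlgebra
      { ((jmor a).appTop.hom : Γ(a.1.total, ⊤) →+* Ring0 p 𝒳) with commutes' := jmor_appTop_baseMap a }
    surj := (appTop_of_surjective p.toAlgHom.toRingHom hp.1 (isPullback_jmor a)).1
    ker := (appTop_of_surjective p.toAlgHom.toRingHom hp.1 (isPullback_jmor a)).2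
    flat := flat_baseMap (g := a.1.f) }

theorem bijective_of_rel (hp : IsSemismallExt p) {X X' : AExt (kerI p) (Ring0 p 𝒳)}
    (f : X.E →ₐ[C'.carrier] X'.E) (hf : ∀ x, X'.π (f x) = X.π x) : Function.Bijective f := by
  have hS := isSetup p 𝒳 hp
  refine ⟨(injective_iff_map_eq_zero f).2 fun x hx => ?_, fun y => ?_⟩
  · obtain ⟨m, rfl⟩ := exists_μ_eq hS X.toPExt (x := x) (by rw [← hf, hx, map_zero])
    rw [map_μ hS f hf] at hx
    rw [μ_injective hS X' (hx.trans (map_zero _).symm), map_zero]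
  · obtain ⟨x, hx⟩ := X.surj (X'.π y)
    obtain ⟨m, hm⟩ := exists_μ_eq hS X'.toPExt (x := y - f x) (by rw [map_sub, hf, hx, sub_self])
    exact ⟨x + μ hS X.toPExt m, by rw [map_add, map_μ hS f hf, hm, add_sub_cancel]⟩

theorem rel_of_extRel (hp : IsSemismallExt p) {a b : ExtT p 𝒳} (h : extRel p 𝒳 a b) :
    Rel (toAExt hp a) (toAExt hp b) := by
  obtain ⟨ψ, hψ⟩ := h
  have hcomp : DefSch.pullMap ψ.iso.hom ψ.hom_f p ≫ b.2.iso.hom = a.2.iso.hom := congrArg CategoryTheory.Iso.hom hψ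
  have hj : jmor b ≫ ψ.iso.inv = jmor a := by
    have e : a.2.iso.inv ≫ DefSch.pullMap ψ.iso.hom ψ.hom_f p = b.2.iso.inv := by
      rw [← cancel_mono b.2.iso.hom, Category.assoc, hcomp, Iso.inv_hom_id, Iso.inv_hom_id]
    rw [Iso.comp_inv_eq, jmor, jmor, ← e, Category.assoc, Category.assoc, DefSch.pullMap_fst]
  have hf : ψ.iso.inv ≫ a.1.f = b.1.f := by rw [Iso.inv_comp_eq, ψ.hom_f]
  refine ⟨?_, ?_⟩
  · exact
      letI : Algebra C'.carrier Γ(a.1.total, ⊤) := (baseMap a.1.f).toAlgebra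
      letI : Algebra C'.carrier Γ(b.1.total, ⊤) := (baseMap b.1.f).toAlgebra
      { (ψ.iso.inv.appTop.hom : Γ(a.1.total, ⊤) →+* Γ(b.1.total, ⊤)) with
        commutes' := fun c => (baseMap_comp ψ.iso.inv a.1.f c).symm.trans (by rw [hf]; rfl) }
  · intro x
    exact congr($(congrArg Scheme.Hom.appTop hj) x)

theorem extRel_of_rel (hp : IsSemismallExt p) {a b : ExtT p 𝒳} (h : Rel (toAExt hp a) (toAExt hp b)) :
    extRel p 𝒳 a b := by
  have := isAffine_def 𝒳
  have := isAffine_def a.1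
  have := isAffine_def b.1
  obtain ⟨f, hf⟩ := h
  let φ : Γ(a.1.total, ⊤) ⟶ Γ(b.1.total, ⊤) :=
    CommRingCat.ofHom (f.toRingHom : Γ(a.1.total, ⊤) →+* Γ(b.1.total, ⊤))
  have : IsIso φ := (ConcreteCategory.isIso_iff_bijective φ).2 (bijective_of_rel hp f hf)
  obtain ⟨q, hq⟩ := exists_hom_appTop φ
  obtain ⟨q', hq'⟩ := exists_hom_appTop (inv φ)
  let ι : a.1.total ≅ b.1.total := ⟨q', q, ext_of_isAffine (by rw [Scheme.Hom.comp_appTop, hq, hq',
      IsIso.hom_inv_id, Scheme.Hom.id_appTop]),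
    ext_of_isAffine (by rw [Scheme.Hom.comp_appTop, hq, hq', IsIso.inv_hom_id, Scheme.Hom.id_appTop])⟩
  have hqf : q ≫ a.1.f = b.1.f := baseMap_ext fun c => by
    rw [baseMap_comp, hq]
    exact f.commutes c
  have hjq : jmor b ≫ q = jmor a := ext_of_isAffine (by
    rw [Scheme.Hom.comp_appTop, hq]
    exact CommRingCat.hom_ext (RingHom.ext hf))
  have hq'f : ι.hom ≫ b.1.f = a.1.f := by rw [← hqf, ι.hom_inv_id_assoc]
  have hjq' : jmor a ≫ ι.hom = jmor b := by rw [← hjq, Category.assoc, ι.inv_hom_id, Category.comp_id]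
  let ψ : a.1.Iso b.1 := ⟨ι, hq'f, by rw [← i_jmor a, Category.assoc, hjq', i_jmor]⟩
  refine ⟨ψ, CategoryTheory.Iso.ext ?_⟩
  change DefSch.pullMap ι.hom hq'f p ≫ b.2.iso.hom = a.2.iso.hom
  have e : a.2.iso.inv ≫ DefSch.pullMap ι.hom hq'f p = b.2.iso.inv := by
    refine pullback.hom_ext ?_ ?_
    · rw [Category.assoc, DefSch.pullMap_fst, ← Category.assoc]
      exact hjq'
    · rw [Category.assoc, DefSch.pullMap_snd]
      exact a.2.symm.hom_f.trans b.2.symm.hom_f.symm
  rw [← cancel_epi a.2.iso.inv, ← Category.assoc, e, Iso.inv_hom_id, Iso.inv_hom_id]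

/-- The closed immersion attached to an algebraic lift. -/
def jAlg (X : AExt (kerI p) (Ring0 p 𝒳)) [IsAffine 𝒳.total] : 𝒳.total ⟶ Spec (CommRingCat.of X.E) :=
  𝒳.total.isoSpec.hom ≫ Spec.map (CommRingCat.ofHom (X.π.toRingHom : X.E →+* Γ(𝒳.total, ⊤)))

theorem jAlg_appTop (X : AExt (kerI p) (Ring0 p 𝒳)) [IsAffine 𝒳.total]
    (z : Γ(Spec (CommRingCat.of X.E), ⊤)) :
    (jAlg X).appTop z = X.π ((Scheme.ΓSpecIso (CommRingCat.of X.E)).hom z) := by
  rw [jAlg, Scheme.Hom.comp_appTop, Scheme.isoSpec_hom, Scheme.toSpecΓ_appTop, Scheme.ΓSpecIso_naturality]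
  rfl

theorem isPullback_jAlg (hp : IsSemismallExt p) (X : AExt (kerI p) (Ring0 p 𝒳)) [IsAffine 𝒳.total] :
    IsPullback (jAlg X) 𝒳.f (Spec.map (CommRingCat.ofHom (algebraMap C'.carrier X.E))) (specMap p) := by
  have hπ : ∀ c, X.π (algebraMap C'.carrier X.E c) = baseMap 𝒳.f (p.toAlgHom c) := X.π.commutes
  have w : CommRingCat.ofHom (algebraMap C'.carrier X.E) ≫
      CommRingCat.ofHom (X.π.toRingHom : X.E →+* Γ(𝒳.total, ⊤)) =
      CommRingCat.ofHom p.toAlgHom.toRingHom ≫ CommRingCat.ofHom (baseMap 𝒳.f) :=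
    CommRingCat.hom_ext (RingHom.ext hπ)
  have hker : ∀ (T : CommRingCat.{u}) (a : X.E →+* T) (b : C.carrier →+* T),
      (∀ c, a (algebraMap C'.carrier X.E c) = b (p.toAlgHom c)) → RingHom.ker X.π.toRingHom ≤ RingHom.ker a :=
    fun T a b h => X.ker.le.trans (Ideal.map_le_iff_le_comap.2 fun t ht => by
      rw [Ideal.mem_comap, RingHom.mem_ker, h, show p.toAlgHom t = 0 from ht, map_zero])
  have hpo : IsPushout (CommRingCat.ofHom (algebraMap C'.carrier X.E)) (CommRingCat.ofHom p.toAlgHom.toRingHom)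
      (CommRingCat.ofHom (X.π.toRingHom : X.E →+* Γ(𝒳.total, ⊤))) (CommRingCat.ofHom (baseMap 𝒳.f)) := by
    have hw : ∀ (s : PushoutCocone (CommRingCat.ofHom (algebraMap C'.carrier X.E))
        (CommRingCat.ofHom p.toAlgHom.toRingHom)) (c : C'.carrier),
        s.inl (algebraMap C'.carrier X.E c) = s.inr (p.toAlgHom c) := fun s c => congr($(s.condition) c)
    let D : ∀ s : PushoutCocone (CommRingCat.ofHom (algebraMap C'.carrier X.E))
        (CommRingCat.ofHom p.toAlgHom.toRingHom), Ring0 p 𝒳 →+* s.pt := fun s =>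
      X.π.toRingHom.liftOfSurjective X.surj ⟨s.inl.hom, hker _ _ s.inr.hom (hw s)⟩
    have hD : ∀ s x, D s (X.π x) = s.inl x := fun s x =>
      RingHom.liftOfRightInverse_comp_apply X.π.toRingHom _ _ _ x
    refine IsPushout.of_isColimit' ⟨w⟩ (PushoutCocone.isColimitAux _
      (fun s => CommRingCat.ofHom (D s))
      (fun s => CommRingCat.hom_ext (RingHom.ext (hD s)))
      (fun s => CommRingCat.hom_ext (RingHom.ext fun c => ?_))
      (fun s m hm => CommRingCat.hom_ext (RingHom.ext fun b => ?_)))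
    · obtain ⟨c', rfl⟩ := hp.1 c
      refine (congrArg (D s) (hπ c').symm :).trans ?_
      exact (hD s _).trans (hw s c')
    · obtain ⟨x, rfl⟩ := X.surj b
      exact (congr($(hm WalkingSpan.left) x)).trans (hD s x).symm
  refine (isPullback_SpecMap_of_isPushout _ _ _ _ hpo).of_iso 𝒳.total.isoSpec.symm (Iso.refl _) (Iso.refl _)
    (Iso.refl _) ?_ ?_ (by simp) (by simp only [Iso.refl_hom, Category.comp_id, Category.id_comp])
  · rw [Iso.symm_hom, Iso.refl_hom, Category.comp_id, jAlg]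
    exact (Iso.inv_hom_id_assoc _ _).symm
  · rw [Iso.symm_hom, Iso.refl_hom, Category.comp_id, Iso.eq_inv_comp]
    exact isoSpec_hom_SpecMap_baseMap 𝒳.f

/-- The extension attached to an algebraic lift. -/
def ofAExt (hp : IsSemismallExt p) (X : AExt (kerI p) (Ring0 p 𝒳)) : ExtT p 𝒳 :=
  have := isAffine_def 𝒳
  have hsq := isPullback_jAlg hp X
  ⟨{ total := Spec (CommRingCat.of X.E)
     f := Spec.map (CommRingCat.ofHom (algebraMap C'.carrier X.E))
     flat := (HasRingHomProperty.Spec_iff (P := @Flat)).mpr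
       (RingHom.flat_algebraMap_iff.mpr X.flat)
     i := 𝒳.i ≫ jAlg X
     isPullback := by
       rw [← specRes_comp p]
       exact 𝒳.isPullback.paste_horiz hsq },
   { iso := hsq.isoPullback.symm
     hom_f := IsPullback.isoPullback_inv_snd hsq
     i_hom := by
       rw [Iso.symm_hom, Iso.comp_inv_eq]
       refine pullback.hom_ext ?_ ?_
       · rw [Category.assoc, IsPullback.isoPullback_hom_fst]
         exact pullback.lift_fst _ _ _
       · rw [Category.assoc, IsPullback.isoPullback_hom_snd, 𝒳.i_f]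
         exact pullback.lift_snd _ _ _ }⟩

theorem jmor_ofAExt (hp : IsSemismallExt p) (X : AExt (kerI p) (Ring0 p 𝒳)) [IsAffine 𝒳.total] :
    jmor (ofAExt hp X) = jAlg X :=
  IsPullback.isoPullback_hom_fst (isPullback_jAlg hp X)

theorem rel_round (hp : IsSemismallExt p) (X : AExt (kerI p) (Ring0 p 𝒳)) :
    Rel (toAExt hp (ofAExt hp X)) X ∧ Rel X (toAExt hp (ofAExt hp X)) := by
  have := isAffine_def 𝒳
  letI : Algebra C'.carrier Γ(Spec (CommRingCat.of X.E), ⊤) :=
    (baseMap (Spec.map (CommRingCat.ofHom (algebraMap C'.carrier X.E)))).toAlgebra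
  let e := Scheme.ΓSpecIso (CommRingCat.of X.E)
  have hπ : ∀ z, (toAExt hp (ofAExt hp X)).π z = X.π (e.hom z) := fun z =>
    (congr($(congrArg Scheme.Hom.appTop (jmor_ofAExt hp X)) z)).trans (jAlg_appTop X z)
  refine ⟨⟨({ (e.hom.hom : Γ(Spec (CommRingCat.of X.E), ⊤) →+* X.E) with commutes' := fun c => ?_ } :
      Γ(Spec (CommRingCat.of X.E), ⊤) →ₐ[C'.carrier] X.E), fun z => (hπ z).symm⟩,
    ⟨({ (e.inv.hom : X.E →+* Γ(Spec (CommRingCat.of X.E), ⊤)) with commutes' := fun c => ?_ } :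
      X.E →ₐ[C'.carrier] Γ(Spec (CommRingCat.of X.E), ⊤)),
      fun x => (hπ _).trans (congrArg X.π (Iso.inv_hom_id_apply e x))⟩⟩
  · exact (congrArg e.hom (baseMap_SpecMap _ c)).trans (Iso.inv_hom_id_apply e _)
  · exact (baseMap_SpecMap _ c).symm

theorem rel_trans {X X' X'' : AExt (kerI p) (Ring0 p 𝒳)} (h : Rel X X') (h' : Rel X' X'') : Rel X X'' := by
  obtain ⟨f, hf⟩ := h
  obtain ⟨g, hg⟩ := h'
  exact ⟨g.comp f, fun x => (hg _).trans (hf x)⟩

/-- Extensions of a deformation of an affine scheme correspond to `T¹(B₀/k, B₀ ⊗ J)` as soon as one exists. -/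
theorem nonempty_equiv_T1 (hp : IsSemismallExt p) (hne : Nonempty (ExtT p 𝒳)) :
    Nonempty (Quot (extRel p 𝒳) ≃ CotT.T1 (CotT.canon k B₀) (B₀ ⊗[k] ↥(kerI p))) := by
  obtain ⟨e⟩ := nonempty_equiv_exalcom (isSetup p 𝒳 hp) (toAExt hp hne.some)
  obtain ⟨e', -⟩ := CotT85.exists_equiv_exalcom (CotT.canon k B₀) (M := B₀ ⊗[k] ↥(kerI p))
  refine ⟨Equiv.trans
    { toFun := Quot.map (toAExt hp) fun a b h => rel_of_extRel hp h
      invFun := Quot.lift (fun X => Quot.mk _ (ofAExt hp X)) fun X X' h => Quot.sound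
        (extRel_of_rel hp (rel_trans (rel_trans (rel_round hp X).1 h) (rel_round hp X').2))
      left_inv := fun q => ?_
      right_inv := fun q => ?_ } (e.trans e')⟩
  · induction q using Quot.ind with
    | _ a => exact Quot.sound (extRel_of_rel hp (rel_round hp (toAExt hp a)).1)
  · induction q using Quot.ind with
    | _ X => exact Quot.sound (rel_round hp X).1

end Groth.Agent.Deform85.AffineDefExt
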