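import Groth.Agent.Deform85.AffineTriv
import Mathlib.AlgebraicGeometry.Morphisms.Smooth
import Mathlib.RingTheory.DualNumber
import Mathlib.RingTheory.Artinian.Module
import Mathlib.RingTheory.Ideal.Quotient.Operations

/-!
# Sections of first-order deformations of affine schemes respecting marked points
-/

set_option autoImplicit false

universe u v

open CategoryTheory Limits AlgebraicGeometry TensorProduct Function

noncomputable section

namespace Groth.Agent.Deform85

variable {k : Type u} [Field k]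

/-- The map on functions of a point with values in an affine scheme. -/
abbrev pointMap {R : Type u} [CommRing R] {Y : Scheme.{u}} (p : Spec (CommRingCat.of R) ⟶ Y) :
    Γ(Y, ⊤) →+* R :=
  (p.appTop ≫ (Scheme.ΓSpecIso (CommRingCat.of R)).hom).hom

theorem pointMap_baseMap {R S : Type u} [CommRing R] [CommRing S] {Y : Scheme.{u}}
    (p : Spec (CommRingCat.of R) ⟶ Y) (g : Y ⟶ Spec (CommRingCat.of S)) (a : S) :
    pointMap p (baseMap g a) = (Scheme.ΓSpecIso (CommRingCat.of R)).hom (baseMap (p ≫ g) a) := by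
  rw [baseMap_comp]
  rfl

theorem baseMap_id {R : Type u} [CommRing R] (a : R) :
    baseMap (𝟙 (Spec (CommRingCat.of R))) a = (Scheme.ΓSpecIso (CommRingCat.of R)).inv a := by
  simp [baseMap]

theorem pointMap_baseMap_of_section {R : Type u} [CommRing R] {Y : Scheme.{u}}
    (p : Spec (CommRingCat.of R) ⟶ Y) (g : Y ⟶ Spec (CommRingCat.of R)) (h : p ≫ g = 𝟙 _) (a : R) :
    pointMap p (baseMap g a) = a := by
  rw [pointMap_baseMap, h, baseMap_id, ← CommRingCat.comp_apply, Iso.inv_hom_id]
  rfl

theorem pointMap_SpecMap_comp {R S : Type u} [CommRing R] [CommRing S] {Y : Scheme.{u}}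
    (p : Spec (CommRingCat.of R) ⟶ Y) (f : R →+* S) (x : Γ(Y, ⊤)) :
    pointMap (Spec.map (CommRingCat.ofHom f) ≫ p) x = f (pointMap p x) := by
  have h : (Spec.map (CommRingCat.ofHom f)).appTop ≫ (Scheme.ΓSpecIso (CommRingCat.of S)).hom =
      (Scheme.ΓSpecIso (CommRingCat.of R)).hom ≫ CommRingCat.ofHom f :=
    Scheme.ΓSpecIso_naturality (CommRingCat.ofHom f)
  exact congr($h (p.appTop x))

theorem pointMap_comp {R : Type u} [CommRing R] {Y Z : Scheme.{u}}
    (p : Spec (CommRingCat.of R) ⟶ Y) (f : Y ⟶ Z) (x : Γ(Z, ⊤)) :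
    pointMap (p ≫ f) x = pointMap p (f.appTop x) := by
  simp [pointMap]

theorem pointMap_injective {R : Type u} [CommRing R] {Y : Scheme.{u}} [IsAffine Y]
    {p p' : Spec (CommRingCat.of R) ⟶ Y} (h : ∀ x, pointMap p x = pointMap p' x) : p = p' := by
  refine ext_of_isAffine ?_
  rw [← cancel_mono (Scheme.ΓSpecIso (CommRingCat.of R)).hom]
  exact CommRingCat.hom_ext (RingHom.ext h)

theorem formallySmooth_baseMap {X : Scheme.{u}} [IsAffine X] (hX : X ⟶ Spec (CommRingCat.of k))
    [Smooth hX] : (baseMap hX).FormallySmooth := by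
  have h : (baseMap hX).Smooth :=
    RingHom.Smooth.comp (RingHom.Smooth.of_bijective
      (ConcreteCategory.bijective_of_isIso (Scheme.ΓSpecIso (CommRingCat.of k)).inv))
      (HasRingHomProperty.appTop (P := @Smooth) hX inferInstance)
  exact h.formallySmooth

/-- A first-order deformation of a smooth affine scheme with marked points has a section through which
the marked sections are constant. -/
theorem exists_section_marked {X X' : Scheme.{u}} [IsAffine X] [IsAffine X']
    (hX : X ⟶ Spec (CommRingCat.of k)) [Smooth hX]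
    (g : X' ⟶ Spec (CommRingCat.of (DualNumber k))) (i : X ⟶ X')
    [IsLocalRing (DualNumber k)] [IsArtinianRing (DualNumber k)]
    (hsq : IsPullback i hX g (Spec.map (CommRingCat.ofHom (TrivSqZeroExt.fstHom k k k).toRingHom)))
    {ι : Type v} [Finite ι] (p : ι → (Spec (CommRingCat.of k) ⟶ X)) (hp : ∀ j, p j ≫ hX = 𝟙 _)
    (hinj : Function.Injective p)
    (p' : ι → (Spec (CommRingCat.of (DualNumber k)) ⟶ X')) (hp' : ∀ j, p' j ≫ g = 𝟙 _)
    (hpp' : ∀ j, p j ≫ i = Spec.map (CommRingCat.ofHom (TrivSqZeroExt.fstHom k k k).toRingHom) ≫ p' j) :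
    ∃ s : Γ(X, ⊤) →+* Γ(X', ⊤), (∀ x, i.appTop (s x) = x) ∧
      (∀ c, s (baseMap hX c) = baseMap g (algebraMap k (DualNumber k) c)) ∧
      ∀ j x, (p' j).appTop (s x) =
        (Spec.map (CommRingCat.ofHom (algebraMap k (DualNumber k)))).appTop ((p j).appTop x) := by
  let e : DualNumber k →ₐ[k] k := TrivSqZeroExt.fstHom k k k
  have hsq' : IsPullback i hX g (Spec.map (CommRingCat.ofHom e.toRingHom)) := hsq
  letI : Algebra k Γ(X', ⊤) := ((baseMap g).comp (algebraMap k (DualNumber k))).toAlgebra
  letI : Algebra k Γ(X, ⊤) := (baseMap hX).toAlgebra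
  haveI : Algebra.FormallySmooth k Γ(X, ⊤) := formallySmooth_baseMap hX
  let r : Γ(X', ⊤) →ₐ[k] Γ(X, ⊤) := { i.appTop.hom with
    commutes' := fun c => (appTop_baseMap e hsq' _).trans (congrArg (baseMap hX) (e.commutes c)) }
  have hr : Function.Surjective r := appTop_surjective_fibre e hsq'
  let π : ι → Γ(X, ⊤) →ₐ[k] k := fun j => { pointMap (p j) with
    commutes' := fun c => pointMap_baseMap_of_section (p j) hX (hp j) c }
  let π' : ι → Γ(X', ⊤) →ₐ[k] DualNumber k := fun j => { pointMap (p' j) with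
    commutes' := fun c => pointMap_baseMap_of_section (p' j) g (hp' j) _ }
  have hfst : ∀ j b, (π' j b).fst = π j (r b) := fun j b => by
    have h1 : pointMap (p j ≫ i) b =
        pointMap (Spec.map (CommRingCat.ofHom e.toRingHom) ≫ p' j) b := by rw [hpp' j]
    rw [pointMap_comp, pointMap_SpecMap_comp] at h1
    exact h1.symm
  have hπ : Pairwise (IsCoprime on fun j => RingHom.ker (π j).toRingHom) := fun a b hab => by
    have hm : ∀ c, (RingHom.ker (π c).toRingHom).IsMaximal := fun c =>
      RingHom.ker_isMaximal_of_surjective _ fun z => ⟨algebraMap k _ z, (π c).commutes z⟩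
    refine Ideal.isCoprime_iff_sup_eq.2 ((hm a).coprime_of_ne (hm b) fun hker => hab (hinj ?_))
    refine pointMap_injective fun x => ?_
    have hmem : x - algebraMap k _ (π a x) ∈ RingHom.ker (π a).toRingHom := by
      change π a (x - algebraMap k _ (π a x)) = 0
      simp
    rw [hker] at hmem
    have h0 : π b (x - algebraMap k _ (π a x)) = 0 := hmem
    simp only [map_sub, AlgHom.commutes, Algebra.algebraMap_self, RingHom.id_apply, sub_eq_zero] at h0
    exact h0.symm
  let Ψ : Γ(X', ⊤) →ₐ[k] Γ(X, ⊤) × (ι → DualNumber k) := r.prod (AlgHom.pi π')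
  let f : Γ(X, ⊤) →ₐ[k] Γ(X, ⊤) × (ι → DualNumber k) :=
    (AlgHom.id k _).prod (AlgHom.pi fun j => (Algebra.ofId k (DualNumber k)).comp (π j))
  have hf : ∀ x, f x ∈ Ψ.range := fun x => by
    obtain ⟨b, hb⟩ := hr x
    obtain ⟨y, hy⟩ := Ideal.pi_quotient_surjective hπ
      fun j => Ideal.Quotient.mk (RingHom.ker (π j).toRingHom) (algebraMap k Γ(X, ⊤) (π' j b).snd)
    obtain ⟨y', hy'⟩ := hr y
    refine ⟨b - baseMap g DualNumber.eps * y', Prod.ext ?_ (funext fun j => ?_)⟩
    · change r (b - baseMap g DualNumber.eps * y') = x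
      have : r (baseMap g DualNumber.eps) = 0 := by
        refine (appTop_baseMap e hsq' _).trans ?_
        rw [show e DualNumber.eps = 0 from DualNumber.fst_eps, map_zero]
      rw [map_sub, map_mul, this, zero_mul, sub_zero, hb]
    · change π' j (b - baseMap g DualNumber.eps * y') = algebraMap k (DualNumber k) (π j x)
      have heps : π' j (baseMap g DualNumber.eps) = DualNumber.eps :=
        pointMap_baseMap_of_section (p' j) g (hp' j) _
      have hyj : π j y = (π' j b).snd := by
        have h := Ideal.Quotient.eq.1 (hy j)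
        have h0 : π j (y - algebraMap k Γ(X, ⊤) (π' j b).snd) = 0 := h
        simpa [sub_eq_zero] using h0
      rw [map_sub, map_mul, heps]
      refine TrivSqZeroExt.ext ?_ ?_
      · simp [hfst, hb, TrivSqZeroExt.algebraMap_eq_inl]
      · simp [hfst, hy', hyj, TrivSqZeroExt.algebraMap_eq_inl]
  have hnil : IsNilpotent (RingHom.ker (Ψ.rangeRestrict : Γ(X', ⊤) →+* Ψ.range)) := by
    obtain ⟨n, hn⟩ := isNilpotent_ker_appTop e hsq'
    refine ⟨n, le_bot_iff.1 ((Ideal.pow_right_mono (fun b hb => ?_) n).trans hn.le)⟩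
    exact congrArg (fun z : Ψ.range => (z : Γ(X, ⊤) × (ι → DualNumber k)).1) hb
  let s := Algebra.FormallySmooth.liftOfSurjective (f.codRestrict Ψ.range hf) Ψ.rangeRestrict
    Ψ.rangeRestrict_surjective hnil
  have hs : ∀ x, Ψ (s x) = f x := fun x => congrArg Subtype.val
    (Algebra.FormallySmooth.liftOfSurjective_apply (f.codRestrict Ψ.range hf) Ψ.rangeRestrict
      Ψ.rangeRestrict_surjective hnil x)
  refine ⟨s.toRingHom, fun x => congrArg Prod.fst (hs x), s.commutes, fun j x => ?_⟩
  refine (ConcreteCategory.bijective_of_isIso (Scheme.ΓSpecIso (CommRingCat.of (DualNumber k))).hom).1 ?_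
  have h := congrFun (congrArg Prod.snd (hs x)) j
  refine Eq.trans h ?_
  change algebraMap k (DualNumber k) (pointMap (p j) x) = _
  rw [← pointMap_SpecMap_comp, pointMap, Scheme.Hom.comp_appTop]
  rfl

end Groth.Agent.Deform85
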