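import Groth.Prelude.Def_CotT
import Groth.Agent.CotT85.Basic
import Groth.Agent.Deform85.ExtTorsor
import Groth.Agent.Helper62.FlatNil
import Groth.Agent.CAlg8.NilFlat
import Mathlib.RingTheory.MvPolynomial.Basic

/-!
# The obstruction to lifting a flat deformation of an algebra, in `T²`

`p : C' → C` is a surjection of augmented `k`-algebras with kernel `J` killed by the augmentation ideal, `B` a flat
`C`-algebra with closed fibre `B₀` and `P` a presentation of `B₀`.  Lifting the generators and relations of `P` to `B`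
and then to `C'` gives a class in `T²(P, B₀ ⊗ J)` which vanishes exactly when `B` lifts flatly to `C'`.
-/

set_option autoImplicit false

universe u

open TensorProduct MvPolynomial

noncomputable section

namespace Groth.Agent.Deform85.ObsT2

open Groth.Agent.Deform85.ExtTorsor

variable {k : Type u} [Field k] {C : Type u} [CommRing C] [Algebra k C] {res : C →ₐ[k] k}
  {B : Type u} [CommRing B] [Algebra C B] {B₀ : Type u} [CommRing B₀] [Algebra k B₀] {τ : B →+* B₀}
  {ι σ : Type u} {P : Algebra.Presentation k B₀ ι σ}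

/-- `B` has closed fibre `B₀` and `C` is infinitesimal. -/
structure IsBase (res : C →ₐ[k] k) (τ : B →+* B₀) : Prop where
  nil : IsNilpotent (RingHom.ker res)
  surj : Function.Surjective τ
  map : ∀ c, τ (algebraMap C B c) = algebraMap k B₀ (res c)
  ker : RingHom.ker τ = (RingHom.ker res).map (algebraMap C B)

/-- Reduction of polynomials over `C` to the ring of the presentation. -/
def red (res : C →ₐ[k] k) (P : Algebra.Presentation k B₀ ι σ) : MvPolynomial ι C →+* P.toExtension.Ring :=
  MvPolynomial.map res.toRingHom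

theorem red_surjective : Function.Surjective (red res P) :=
  MvPolynomial.map_surjective _ fun c => ⟨algebraMap k C c, res.commutes c⟩

theorem ker_red : RingHom.ker (red res P) = (RingHom.ker res).map (algebraMap C (MvPolynomial ι C)) :=
  MvPolynomial.ker_map _

theorem red_C (c : C) : red res P (MvPolynomial.C c) = algebraMap k P.toExtension.Ring (res c) :=
  MvPolynomial.map_C _ _

theorem red_X (i : ι) : red res P (X i) = CotT85.rX P i := MvPolynomial.map_X _ _

theorem red_monomial (m : ι →₀ ℕ) (c : C) :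
    red res P (monomial m c) = (monomial m (res c) : MvPolynomial ι k) := MvPolynomial.map_monomial _ _ _

theorem coeff_red (m : ι →₀ ℕ) (f : MvPolynomial ι C) :
    MvPolynomial.coeff m (red res P f : MvPolynomial ι k) = res (MvPolynomial.coeff m f) :=
  MvPolynomial.coeff_map _ _ _

theorem τ_aeval (hB : IsBase res τ) {x : ι → B} (hx : ∀ i, τ (x i) = P.val i) (f : MvPolynomial ι C) :
    τ (aeval x f) = algebraMap P.toExtension.Ring B₀ (red res P f) := by
  induction f using MvPolynomial.induction_on with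
  | C c => rw [aeval_C, hB.map, red_C, ← IsScalarTower.algebraMap_apply]
  | add p q hp hq => simp only [map_add, hp, hq]
  | mul_X p i hp => rw [map_mul, map_mul, hp, aeval_X, hx, map_mul, map_mul, red_X, CotT85.algebraMap_rX]

theorem smul_top_eq_ker {A : Type u} [CommRing A] [Algebra C A] {x : A} :
    x ∈ RingHom.ker res • (⊤ : Submodule C A) ↔ x ∈ (RingHom.ker res).map (algebraMap C A) := by
  rw [Ideal.smul_top_eq_map]
  rfl

theorem aeval_surjective (hB : IsBase res τ) {x : ι → B} (hx : ∀ i, τ (x i) = P.val i) :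
    Function.Surjective (aeval x : MvPolynomial ι C →ₐ[C] B) := by
  refine (LinearMap.range_eq_top (f := (aeval x : MvPolynomial ι C →ₐ[C] B).toLinearMap)).1 ?_
  refine FlatNil62.eq_top_of_sup_smul_eq_top hB.nil (top_le_iff.1 fun b _ => ?_)
  obtain ⟨y, hy⟩ := CotT85.algebraMap_surjective P (τ b)
  obtain ⟨f, rfl⟩ := red_surjective (res := res) (P := P) y
  refine Submodule.mem_sup.2 ⟨aeval x f, ⟨f, rfl⟩, b - aeval x f, ?_, add_sub_cancel _ _⟩
  rw [smul_top_eq_ker, ← hB.ker, RingHom.mem_ker, map_sub, τ_aeval hB hx, hy, sub_self]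

theorem mem_smul_top_of_coe {M : Type*} [AddCommGroup M] [Module C M] {I : Ideal C} {N : Submodule C M}
    {x : N} (h : (x : M) ∈ I • N) : x ∈ I • (⊤ : Submodule C N) := by
  have h' : N.subtype x ∈ Submodule.map N.subtype (I • ⊤) := by
    rw [Submodule.map_smul'', Submodule.map_subtype_top]
    exact h
  obtain ⟨e, he, he'⟩ := h'
  rwa [← Subtype.ext (he' : (e : M) = x)]

/-- Lifts to `B` of the generators, and to `C` of the relations, of the presentation. -/
structure Sys (res : C →ₐ[k] k) (τ : B →+* B₀) (P : Algebra.Presentation k B₀ ι σ) : Type u where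
  x : ι → B
  hx : ∀ i, τ (x i) = P.val i
  g : σ → MvPolynomial ι C
  hg : ∀ s, aeval x (g s) = 0
  hred : ∀ s, red res P (g s) = CotT.rel P s

theorem nonempty_sys (hB : IsBase res τ) : Nonempty (Sys res τ P) := by
  choose x hx using fun i => hB.surj (P.val i)
  have key : ∀ s, ∃ g : MvPolynomial ι C, aeval x g = 0 ∧ red res P g = CotT.rel P s := fun s => by
    obtain ⟨f, hf⟩ := red_surjective (res := res) (P := P) (CotT.rel P s)
    have h : aeval x f ∈ RingHom.ker res • (⊤ : Submodule C B) := by
      rw [smul_top_eq_ker, ← hB.ker, RingHom.mem_ker, τ_aeval hB hx, hf]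
      exact CotT.algebraMap_rel P s
    rw [← (LinearMap.range_eq_top (f := (aeval x : MvPolynomial ι C →ₐ[C] B).toLinearMap)).2
      (aeval_surjective hB hx), LinearMap.range_eq_map, ← Submodule.map_smul''] at h
    obtain ⟨e, he, he'⟩ := h
    refine ⟨f - e, by rw [map_sub, ← he']; exact sub_self _, ?_⟩
    rw [map_sub, hf, show red res P e = 0 by
      rw [← RingHom.mem_ker, ker_red]; exact smul_top_eq_ker.1 he, sub_zero]
  choose g hg hred using key
  exact ⟨⟨x, hx, g, hg, hred⟩⟩

variable (S : Sys res τ P)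

/-- The relation map. -/
def jg : (σ →₀ MvPolynomial ι C) →ₗ[MvPolynomial ι C] MvPolynomial ι C :=
  Finsupp.linearCombination (MvPolynomial ι C) S.g

theorem jg_single (s : σ) (f : MvPolynomial ι C) : jg S (Finsupp.single s f) = f * S.g s := by
  simp [jg]

/-- Reduction of vectors of polynomials. -/
def redF (res : C →ₐ[k] k) (P : Algebra.Presentation k B₀ ι σ) :
    (σ →₀ MvPolynomial ι C) →+ CotT.relMod P :=
  Finsupp.mapRange.addMonoidHom (red res P).toAddMonoidHom

theorem redF_single (s : σ) (f : MvPolynomial ι C) :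
    redF res P (Finsupp.single s f) = Finsupp.single s (red res P f) :=
  Finsupp.mapRange_single (hf := map_zero _)

theorem redF_smul (f : MvPolynomial ι C) (r : σ →₀ MvPolynomial ι C) :
    redF res P (f • r) = red res P f • redF res P r := by
  ext s
  simp [redF]

theorem redF_surjective : Function.Surjective (redF res P) :=
  Finsupp.mapRange_surjective _ (map_zero _) red_surjective

theorem mem_smul_of_redF_eq_zero {r : σ →₀ MvPolynomial ι C} (hr : redF res P r = 0) :
    r ∈ RingHom.ker res • (⊤ : Submodule C (σ →₀ MvPolynomial ι C)) := by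
  classical
  rw [← Finsupp.sum_single r]
  refine Submodule.sum_mem _ fun s _ => ?_
  have h : r s ∈ RingHom.ker res • (⊤ : Submodule C (MvPolynomial ι C)) := by
    rw [smul_top_eq_ker, ← ker_red (P := P), RingHom.mem_ker]
    exact congr($hr s)
  have h2 := Submodule.mem_map_of_mem (f := (Finsupp.lsingle s : MvPolynomial ι C →ₗ[C] _)) h
  rw [Submodule.map_smul''] at h2
  exact Submodule.smul_mono le_rfl le_top h2

theorem jg_redF (r : σ →₀ MvPolynomial ι C) :
    red res P (jg S r) = CotT.jmap P (redF res P r) := by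
  induction r using Finsupp.induction_linear with
  | zero => simp
  | add p q hp hq => simp only [map_add, hp, hq]
  | single s f => rw [jg_single, map_mul, S.hred, redF_single, CotT.jmap_single]

variable [Module.Flat C B]

/-- The ideal of `B` in the polynomial ring, as a `C`-module. -/
abbrev kerAeval : Submodule C (MvPolynomial ι C) :=
  LinearMap.ker (aeval S.x : MvPolynomial ι C →ₐ[C] B).toLinearMap

/-- The relation map with values in the ideal. -/
def jgI : (σ →₀ MvPolynomial ι C) →ₗ[C] kerAeval S :=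
  ((jg S).restrictScalars C).codRestrict _ fun r => by
    change aeval S.x (jg S r) = 0
    induction r using Finsupp.induction_linear with
    | zero => simp
    | add p q hp hq => rw [map_add, map_add, hp, hq, add_zero]
    | single s f => rw [jg_single, map_mul, S.hg, mul_zero]

theorem mem_smul_kerAeval (hB : IsBase res τ) {f : MvPolynomial ι C} (h0 : aeval S.x f = 0)
    (hr : red res P f = 0) : f ∈ RingHom.ker res • kerAeval S :=
  FlatNil62.mem_smul_of_flat_range (aeval S.x : MvPolynomial ι C →ₐ[C] B).toLinearMap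
    (aeval_surjective hB S.hx) _ h0 (smul_top_eq_ker.2 (ker_red.le hr))

theorem jgI_surjective (hB : IsBase res τ) : Function.Surjective (jgI S) := by
  rw [← LinearMap.range_eq_top]
  refine FlatNil62.eq_top_of_sup_smul_eq_top hB.nil (top_le_iff.1 fun f _ => ?_)
  have hf : red res P (f : MvPolynomial ι C) ∈ P.toExtension.ker := by
    change algebraMap P.toExtension.Ring B₀ (red res P f) = 0
    rw [← τ_aeval hB S.hx, show aeval S.x (f : MvPolynomial ι C) = 0 from f.2, map_zero]
  obtain ⟨w, hw⟩ := CotT85.exists_jmap_eq P hf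
  obtain ⟨r, rfl⟩ := redF_surjective (res := res) (P := P) w
  refine Submodule.mem_sup.2 ⟨jgI S r, ⟨r, rfl⟩, f - jgI S r, ?_, add_sub_cancel _ _⟩
  have h := mem_smul_kerAeval S hB (f := (f : MvPolynomial ι C) - jg S r)
    (f - jgI S r).2 (by rw [map_sub, jg_redF, hw, sub_self])
  exact mem_smul_top_of_coe h

theorem exists_jg_eq (hB : IsBase res τ) {f : MvPolynomial ι C} (hf : aeval S.x f = 0) :
    ∃ r, jg S r = f := by
  obtain ⟨r, hr⟩ := jgI_surjective S hB ⟨f, hf⟩
  exact ⟨r, congrArg Subtype.val hr⟩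

theorem flat_kerAeval (hB : IsBase res τ) : Module.Flat C (kerAeval S) :=
  CAlg8.NilFlat.flat_kernel (kerAeval S).subtype _ (kerAeval S).subtype_injective
    (aeval_surjective hB S.hx) (LinearMap.exact_subtype_ker_map _)

theorem mem_smul_ker_jgI (hB : IsBase res τ) {r : σ →₀ MvPolynomial ι C} (h0 : jg S r = 0)
    (hr : redF res P r = 0) : r ∈ RingHom.ker res • LinearMap.ker (jgI S) := by
  have := flat_kerAeval S hB
  exact FlatNil62.mem_smul_of_flat_range (jgI S) (jgI_surjective S hB) _
    (LinearMap.mem_ker.2 (Subtype.ext h0)) (mem_smul_of_redF_eq_zero hr)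

/-- Relations of the presentation lift to relations over `C`. -/
theorem exists_relLift (hB : IsBase res τ) (q : CotT.relKer P) :
    ∃ r, jg S r = 0 ∧ redF res P r = q := by
  obtain ⟨r₀, hr₀⟩ := redF_surjective (res := res) (P := P) (q : CotT.relMod P)
  have h := mem_smul_kerAeval S hB (f := jg S r₀) (jgI S r₀).2 (by rw [jg_redF, hr₀]; exact q.2)
  have h' : jgI S r₀ ∈ RingHom.ker res • (⊤ : Submodule C (kerAeval S)) := mem_smul_top_of_coe h
  rw [← LinearMap.range_eq_top.2 (jgI_surjective S hB), LinearMap.range_eq_map,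
    ← Submodule.map_smul''] at h'
  obtain ⟨z, hz, hz'⟩ := h'
  refine ⟨r₀ - z, ?_, ?_⟩
  · rw [map_sub]
    exact sub_eq_zero.2 (congrArg Subtype.val hz').symm
  · have hz0 : redF res P z = 0 := by
      clear hz'
      induction hz using Submodule.smul_induction_on' with
      | smul c hc w _ =>
        rw [algebra_compatible_smul (MvPolynomial ι C) c w, redF_smul, MvPolynomial.algebraMap_eq, red_C,
          show res c = 0 from hc, map_zero, zero_smul]
      | add a _ b _ ha hb => rw [map_add, ha, hb, add_zero]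
    rw [map_sub, hr₀, hz0, sub_zero]

section Lift

variable {C' : Type u} [CommRing C'] [Algebra k C'] (p : C' →ₐ[k] C)

/-- The kernel of `p`. -/
abbrev J : Ideal C' := RingHom.ker p

/-- The polynomial map induced by `p`. -/
abbrev mp : MvPolynomial ι C' →+* MvPolynomial ι C := MvPolynomial.map p.toRingHom

/-- `p` is a surjection with kernel killed by the augmentation ideal. -/
structure IsSemi (res : C →ₐ[k] k) (p : C' →ₐ[k] C) : Prop where
  surj : Function.Surjective p
  le : J p ≤ RingHom.ker (res.comp p)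
  mul_eq : ∀ a, res (p a) = 0 → ∀ t ∈ J p, a * t = 0

/-- A `k`-linear retraction onto `J`. -/
def retr : C' →ₗ[k] ↥(J p) :=
  (LinearMap.exists_leftInverse_of_injective ((J p).subtype.restrictScalars k)
    (LinearMap.ker_eq_bot.2 Subtype.val_injective)).choose

theorem retr_apply (t : ↥(J p)) : retr p t.1 = t :=
  LinearMap.congr_fun (LinearMap.exists_leftInverse_of_injective ((J p).subtype.restrictScalars k)
    (LinearMap.ker_eq_bot.2 Subtype.val_injective)).choose_spec t

/-- The class in `B₀ ⊗ J` of a polynomial over `C'` (meaningful on those reducing to `0` over `C`). -/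
def κ (P : Algebra.Presentation k B₀ ι σ) : MvPolynomial ι C' →ₗ[k] B₀ ⊗[k] ↥(J p) :=
  (Finsupp.lsum k fun m : ι →₀ ℕ =>
      (TensorProduct.mk k B₀ ↥(J p) (aeval P.val (monomial m (1 : k)))).comp (retr p)).comp
    ((basisMonomials ι C').repr.restrictScalars k).toLinearMap

theorem κ_monomial (m : ι →₀ ℕ) (c : C') :
    κ p P (monomial m c) = aeval P.val (monomial m (1 : k)) ⊗ₜ retr p c := by
  have h : (basisMonomials ι C').repr (monomial m c) = Finsupp.single m c := by
    rw [show monomial m c = c • basisMonomials ι C' m by simp [smul_monomial], map_smul,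
      Module.Basis.repr_self, Finsupp.smul_single, smul_eq_mul, mul_one]
  simp only [κ, LinearMap.comp_apply, LinearEquiv.coe_coe, LinearEquiv.restrictScalars_apply, h,
    Finsupp.lsum_single]
  rfl

variable {p} (hp : IsSemi res p)

include hp

omit [Module.Flat C B] in
theorem C_mul_eq_zero (t : ↥(J p)) {y : MvPolynomial ι C'} (hy : red res P (mp p y) = 0) :
    MvPolynomial.C t.1 * y = 0 := by
  ext m
  rw [coeff_C_mul, coeff_zero, mul_comm]
  refine hp.mul_eq _ ?_ _ t.2
  have h := congrArg (fun f : P.toExtension.Ring => MvPolynomial.coeff m (f : MvPolynomial ι k)) hy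
  exact ((congrArg res (MvPolynomial.coeff_map _ _ _)).symm.trans
    ((coeff_red (P := P) m (mp p y)).symm.trans h)).trans (coeff_zero m)

omit [Module.Flat C B] in
theorem red_mp_surjective : Function.Surjective fun y => red res P (mp p y) :=
  red_surjective.comp (MvPolynomial.map_surjective _ hp.surj)

/-- A section of the reduction. -/
def lift0 (P : Algebra.Presentation k B₀ ι σ) (y : P.toExtension.Ring) : MvPolynomial ι C' :=
  (red_mp_surjective (P := P) hp y).choose

omit [Module.Flat C B] in
theorem red_lift0 (y : P.toExtension.Ring) : red res P (mp p (lift0 hp P y)) = y :=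
  (red_mp_surjective (P := P) hp y).choose_spec

/-- The inclusion of `k[X] ⊗ J` as the polynomials over `C'` reducing to `0` over `C`. -/
def ν (P : Algebra.Presentation k B₀ ι σ) : P.toExtension.Ring ⊗[k] ↥(J p) →+ MvPolynomial ι C' :=
  TensorProduct.liftAddHom
    (AddMonoidHom.mk' (fun y : P.toExtension.Ring => AddMonoidHom.mk' (fun t : ↥(J p) =>
        MvPolynomial.C t.1 * lift0 hp P y)
        (fun t t' => by rw [Submodule.coe_add, map_add, add_mul]))
      (fun y y' => AddMonoidHom.ext fun t => by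
        change MvPolynomial.C t.1 * _ = MvPolynomial.C t.1 * _ + MvPolynomial.C t.1 * _
        rw [← mul_add, ← sub_eq_zero, ← mul_sub]
        refine C_mul_eq_zero (P := P) hp t ?_
        simp only [map_sub, map_add, red_lift0, sub_self]))
    (fun r y t => by
      change MvPolynomial.C t.1 * _ = MvPolynomial.C (r • t.1) * _
      rw [Algebra.smul_def r t.1, map_mul, mul_comm (MvPolynomial.C (algebraMap k C' r)), mul_assoc,
        ← sub_eq_zero, ← mul_sub]
      refine C_mul_eq_zero (P := P) hp t ?_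
      rw [map_sub, map_mul, map_sub, map_mul, red_lift0, red_lift0, MvPolynomial.map_C, red_C]
      change _ - algebraMap k _ (res (p (algebraMap k C' r))) * y = 0
      rw [AlgHom.commutes, AlgHom.commutes, Algebra.smul_def, sub_eq_zero]
      rfl)

omit [Module.Flat C B] in
theorem ν_tmul (y : MvPolynomial ι C') (t : ↥(J p)) :
    ν hp P (red res P (mp p y) ⊗ₜ t) = MvPolynomial.C t.1 * y := by
  refine (TensorProduct.liftAddHom_tmul ..).trans ?_
  change MvPolynomial.C t.1 * _ = _
  rw [← sub_eq_zero, ← mul_sub]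
  refine C_mul_eq_zero (P := P) hp t ?_
  rw [map_sub, map_sub, red_lift0, sub_self]

omit [Module.Flat C B] in
theorem mp_ν (z : P.toExtension.Ring ⊗[k] ↥(J p)) : mp p (ν hp P z) = 0 := by
  induction z with
  | zero => simp
  | tmul y t =>
    obtain ⟨y', rfl⟩ := red_mp_surjective (P := P) hp y
    rw [ν_tmul, map_mul, MvPolynomial.map_C, show p.toRingHom t.1 = 0 from t.2, map_zero, zero_mul]
  | add a b ha hb => rw [map_add, map_add, ha, hb, add_zero]

omit [Module.Flat C B] in
theorem mul_ν (f : MvPolynomial ι C') (z : P.toExtension.Ring ⊗[k] ↥(J p)) :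
    f * ν hp P z = ν hp P (red res P (mp p f) • z) := by
  induction z with
  | zero => simp
  | tmul y t =>
    obtain ⟨y', rfl⟩ := red_mp_surjective (P := P) hp y
    rw [TensorProduct.smul_tmul', smul_eq_mul, ← map_mul, ← map_mul, ν_tmul, ν_tmul]
    ring
  | add a b ha hb => rw [map_add, mul_add, ha, hb, smul_add, map_add]

omit [Module.Flat C B] in
theorem exists_ν_eq {f : MvPolynomial ι C'} (hf : mp p f = 0) :
    ∃ z : P.toExtension.Ring ⊗[k] ↥(J p), ν hp P z = f := by
  have h : f ∈ J p • (⊤ : Submodule C' (MvPolynomial ι C')) := by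
    rw [Ideal.smul_top_eq_map]
    exact (MvPolynomial.ker_map p.toRingHom).le hf
  clear hf
  induction h using Submodule.smul_induction_on' with
  | smul t ht y _ =>
    exact ⟨red res P (mp p y) ⊗ₜ ⟨t, ht⟩, by rw [ν_tmul, Algebra.smul_def, MvPolynomial.algebraMap_eq]⟩
  | add a _ b _ ha hb =>
    obtain ⟨z, rfl⟩ := ha
    obtain ⟨w, rfl⟩ := hb
    exact ⟨z + w, map_add _ _ _⟩

/-- `k[X] ⊗ J → B₀ ⊗ J`. -/
abbrev img (_ : IsSemi res p) (P : Algebra.Presentation k B₀ ι σ) :
    P.toExtension.Ring ⊗[k] ↥(J p) →ₗ[k] B₀ ⊗[k] ↥(J p) :=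
  LinearMap.rTensor _ (IsScalarTower.toAlgHom k P.toExtension.Ring B₀).toLinearMap

omit [Module.Flat C B] in
theorem κ_ν (z : P.toExtension.Ring ⊗[k] ↥(J p)) : κ p P (ν hp P z) = img hp P z := by
  induction z with
  | zero => simp
  | tmul y t =>
    have key : ∀ y : MvPolynomial ι C', κ p P (MvPolynomial.C t.1 * y) =
        img hp P (red res P (mp p y) ⊗ₜ t) := fun y => by
      induction y using MvPolynomial.induction_on' with
      | add a b ha hb => simp only [mul_add, map_add, TensorProduct.add_tmul, ha, hb]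
      | monomial m c =>
        rw [C_mul_monomial, κ_monomial, MvPolynomial.map_monomial, red_monomial]
        have h1 : t.1 * c = res (p c) • t.1 := by
          rw [mul_comm, Algebra.smul_def, ← sub_eq_zero, ← sub_mul]
          exact hp.mul_eq _ (by simp) _ t.2
        rw [h1, map_smul, retr_apply, LinearMap.rTensor_tmul, TensorProduct.tmul_smul,
          TensorProduct.smul_tmul', ← map_smul, smul_monomial, smul_eq_mul, mul_one]
        exact congrArg (· ⊗ₜ[k] t) (P.algebraMap_apply _).symm
    obtain ⟨y', rfl⟩ := red_mp_surjective (P := P) hp y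
    rw [ν_tmul, key]
  | add a b ha hb => simp only [map_add, ha, hb]

omit [Module.Flat C B] in
theorem img_smul (f : P.toExtension.Ring) (z : P.toExtension.Ring ⊗[k] ↥(J p)) :
    img hp P (f • z) = algebraMap P.toExtension.Ring B₀ f • img hp P z := by
  induction z with
  | zero => simp
  | tmul y t =>
    rw [TensorProduct.smul_tmul', LinearMap.rTensor_tmul, LinearMap.rTensor_tmul, TensorProduct.smul_tmul',
      smul_eq_mul, smul_eq_mul]
    exact congrArg (· ⊗ₜ[k] t) (map_mul (algebraMap P.toExtension.Ring B₀) _ _)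
  | add a b ha hb => simp only [smul_add, map_add, ha, hb]

omit [Module.Flat C B] in
theorem κ_mul (f : MvPolynomial ι C') {x : MvPolynomial ι C'} (hx : mp p x = 0) :
    κ p P (f * x) = algebraMap P.toExtension.Ring B₀ (red res P (mp p f)) • κ p P x := by
  obtain ⟨z, rfl⟩ := exists_ν_eq (P := P) hp hx
  rw [mul_ν, κ_ν, κ_ν, img_smul]

omit [Module.Flat C B] in
theorem exists_κ_eq (m : B₀ ⊗[k] ↥(J p)) : ∃ x, mp p x = 0 ∧ κ p P x = m := by
  obtain ⟨z, hz⟩ := LinearMap.rTensor_surjective (g := (IsScalarTower.toAlgHom k P.toExtension.Ring B₀).toLinearMap)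
    ↥(J p) (CotT85.algebraMap_surjective P) m
  exact ⟨ν hp P z, mp_ν hp z, (κ_ν hp z).trans hz⟩

omit hp in
/-- The relation map over `C'`. -/
abbrev jp (gp : σ → MvPolynomial ι C') : (σ →₀ MvPolynomial ι C') →ₗ[MvPolynomial ι C'] MvPolynomial ι C' :=
  Finsupp.linearCombination (MvPolynomial ι C') gp

omit hp in
/-- Reduction of vectors from `C'` to `C`. -/
def mpF (p : C' →ₐ[k] C) : (σ →₀ MvPolynomial ι C') →+ (σ →₀ MvPolynomial ι C) :=
  Finsupp.mapRange.addMonoidHom (mp p).toAddMonoidHom

omit hp [Module.Flat C B] in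
theorem mpF_single (s : σ) (f : MvPolynomial ι C') :
    mpF p (Finsupp.single s f) = Finsupp.single s (mp p f) :=
  Finsupp.mapRange_single (hf := map_zero _)

omit hp [Module.Flat C B] in
theorem mpF_smul (f : MvPolynomial ι C') (r : σ →₀ MvPolynomial ι C') :
    mpF p (f • r) = mp p f • mpF p r := by
  ext1 s
  simp [mpF]

omit [Module.Flat C B] in
theorem mpF_surjective : Function.Surjective (mpF (σ := σ) (ι := ι) p) :=
  Finsupp.mapRange_surjective _ (map_zero _) (MvPolynomial.map_surjective _ hp.surj)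

omit hp in
/-- Lifts to `C'` of the relations. -/
def IsLift (S : Sys res τ P) (p : C' →ₐ[k] C) (gp : σ → MvPolynomial ι C') : Prop :=
  ∀ s, mp p (gp s) = S.g s

omit [Module.Flat C B] in
theorem exists_isLift : ∃ gp, IsLift S p gp := by
  choose gp h using fun s => MvPolynomial.map_surjective _ hp.surj (S.g s)
  exact ⟨gp, h⟩

omit hp [Module.Flat C B] in
theorem mp_jp {gp : σ → MvPolynomial ι C'} (hg : IsLift S p gp) (r : σ →₀ MvPolynomial ι C') :
    mp p (jp gp r) = jg S (mpF p r) := by
  induction r using Finsupp.induction_linear with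
  | zero => simp
  | add a b ha hb => simp only [map_add, ha, hb]
  | single s f => rw [Finsupp.linearCombination_single, smul_eq_mul, map_mul, hg, mpF_single, jg_single]

omit [Module.Flat C B] in
theorem κ_jp_of_mpF_eq_zero {gp : σ → MvPolynomial ι C'} (hg : IsLift S p gp)
    {r : σ →₀ MvPolynomial ι C'} (hr : mpF p r = 0) : κ p P (jp gp r) = 0 := by
  classical
  rw [Finsupp.linearCombination_apply, Finsupp.sum, map_sum]
  refine Finset.sum_eq_zero fun s _ => ?_
  have h0 : mp p (r s) = 0 := congr($hr s)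
  rw [smul_eq_mul, mul_comm, κ_mul hp _ h0, hg, S.hred, CotT.algebraMap_rel, zero_smul]

theorem κ_jp_eq_zero (hB : IsBase res τ) {gp : σ → MvPolynomial ι C'} (hg : IsLift S p gp)
    {r : σ →₀ MvPolynomial ι C'} (h0 : jg S (mpF p r) = 0) (hr : redF res P (mpF p r) = 0) :
    κ p P (jp gp r) = 0 := by
  have h := mem_smul_ker_jgI S hB h0 hr
  have key : ∀ w ∈ RingHom.ker res • LinearMap.ker (jgI S), ∀ r', mpF p r' = w → κ p P (jp gp r') = 0 := by
    intro w hw
    induction hw using Submodule.smul_induction_on' with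
    | smul c hc v hv =>
      intro r' hr'
      obtain ⟨c', rfl⟩ := hp.surj c
      obtain ⟨v', rfl⟩ := mpF_surjective hp v
      have h1 : mpF p ((MvPolynomial.C c' : MvPolynomial ι C') • v') = mpF p r' := by
        rw [mpF_smul, MvPolynomial.map_C, hr', ← MvPolynomial.algebraMap_eq, algebraMap_smul]
        rfl
      have hv0 : mp p (jp gp v') = 0 := (mp_jp S hg v').trans (congrArg Subtype.val hv)
      have h2 := κ_jp_of_mpF_eq_zero S hp hg (r := r' - (MvPolynomial.C c' : MvPolynomial ι C') • v') (by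
        rw [map_sub, h1, sub_self])
      rw [map_sub, map_sub, sub_eq_zero] at h2
      rw [h2, map_smul, smul_eq_mul, κ_mul hp _ hv0, MvPolynomial.map_C, red_C,
        show res (p.toRingHom c') = 0 from hc, map_zero, map_zero, zero_smul]
    | add a _ b _ ha hb =>
      intro r' hr'
      obtain ⟨a', rfl⟩ := mpF_surjective hp a
      have := hb (r' - a') (by rw [map_sub, hr', add_sub_cancel_left])
      rw [map_sub, map_sub, ha a' rfl, sub_zero] at this
      exact this
  exact key _ h r rfl

/-- A relation over `C'` lifting a relation of the presentation. -/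
def relLift' (hB : IsBase res τ) (q : CotT.relKer P) : σ →₀ MvPolynomial ι C' :=
  (mpF_surjective hp (exists_relLift S hB q).choose).choose

theorem relLift'_spec (hB : IsBase res τ) (q : CotT.relKer P) :
    jg S (mpF p (relLift' S hp hB q)) = 0 ∧ redF res P (mpF p (relLift' S hp hB q)) = q := by
  rw [relLift', (mpF_surjective hp (exists_relLift S hB q).choose).choose_spec]
  exact (exists_relLift S hB q).choose_spec

/-- The obstruction cochain on relations. -/
def obsVal (hB : IsBase res τ) (gp : σ → MvPolynomial ι C') (q : CotT.relKer P) : B₀ ⊗[k] ↥(J p) :=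
  κ p P (jp gp (relLift' S hp hB q))

theorem obsVal_eq (hB : IsBase res τ) {gp : σ → MvPolynomial ι C'} (hg : IsLift S p gp)
    (q : CotT.relKer P) {r : σ →₀ MvPolynomial ι C'} (h0 : jg S (mpF p r) = 0)
    (hr : redF res P (mpF p r) = q) : obsVal S hp hB gp q = κ p P (jp gp r) := by
  obtain ⟨h0', hr'⟩ := relLift'_spec S hp hB q
  have := κ_jp_eq_zero S hp hB hg (r := relLift' S hp hB q - r)
    (by rw [map_sub, map_sub, h0', h0, sub_self]) (by rw [map_sub, map_sub, hr', hr, sub_self])
  rw [map_sub, map_sub, sub_eq_zero] at this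
  exact this

theorem obsVal_add (hB : IsBase res τ) {gp : σ → MvPolynomial ι C'} (hg : IsLift S p gp)
    (q q' : CotT.relKer P) :
    obsVal S hp hB gp (q + q') = obsVal S hp hB gp q + obsVal S hp hB gp q' := by
  obtain ⟨h0, hr⟩ := relLift'_spec S hp hB q
  obtain ⟨h0', hr'⟩ := relLift'_spec S hp hB q'
  rw [obsVal_eq S hp hB hg (q + q') (r := relLift' S hp hB q + relLift' S hp hB q')
    (by rw [map_add, map_add, h0, h0', add_zero]) (by rw [map_add, map_add, hr, hr']; rfl), map_add, map_add]
  rfl

theorem obsVal_smul (hB : IsBase res τ) {gp : σ → MvPolynomial ι C'} (hg : IsLift S p gp)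
    (y : P.toExtension.Ring) (q : CotT.relKer P) :
    obsVal S hp hB gp (y • q) = algebraMap P.toExtension.Ring B₀ y • obsVal S hp hB gp q := by
  obtain ⟨h0, hr⟩ := relLift'_spec S hp hB q
  obtain ⟨y', rfl⟩ := red_mp_surjective (P := P) hp y
  rw [obsVal_eq S hp hB hg (_ • q) (r := y' • relLift' S hp hB q)
    (by rw [mpF_smul, map_smul, h0, smul_zero]) (by rw [mpF_smul, redF_smul, hr]; rfl), map_smul, smul_eq_mul,
    κ_mul hp _ ((mp_jp S hg _).trans h0)]
  rfl

omit [Module.Flat C B] in
theorem exists_lift_trivRel {gp : σ → MvPolynomial ι C'} (hg : IsLift S p gp) {y : CotT.relMod P}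
    (hy : y ∈ CotT.trivRel P) : ∃ r, redF res P (mpF p r) = y ∧ jp gp r = 0 := by
  induction hy using Submodule.span_induction with
  | mem y hy =>
    obtain ⟨a, b, rfl⟩ := hy
    obtain ⟨a₁, rfl⟩ := redF_surjective (res := res) (P := P) a
    obtain ⟨b₁, rfl⟩ := redF_surjective (res := res) (P := P) b
    obtain ⟨a', rfl⟩ := mpF_surjective hp a₁
    obtain ⟨b', rfl⟩ := mpF_surjective hp b₁
    refine ⟨jp gp a' • b' - jp gp b' • a', ?_, ?_⟩
    · rw [map_sub, map_sub, mpF_smul, mpF_smul, mp_jp S hg, mp_jp S hg, redF_smul, redF_smul, jg_redF, jg_redF]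
    · rw [map_sub, map_smul, map_smul, smul_eq_mul, smul_eq_mul, mul_comm, sub_self]
  | zero => exact ⟨0, by simp, map_zero _⟩
  | add a b _ _ ha hb =>
    obtain ⟨r, h1, h2⟩ := ha
    obtain ⟨r', h1', h2'⟩ := hb
    exact ⟨r + r', by simp only [map_add, h1, h1'], by rw [map_add, h2, h2', add_zero]⟩
  | smul c a _ ha =>
    obtain ⟨r, h1, h2⟩ := ha
    obtain ⟨c', rfl⟩ := red_mp_surjective (P := P) hp c
    exact ⟨c' • r, by rw [mpF_smul, redF_smul, h1], by rw [map_smul, h2, smul_zero]⟩

theorem obsVal_trivRel (hB : IsBase res τ) {gp : σ → MvPolynomial ι C'} (hg : IsLift S p gp)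
    (q : CotT.relKer P) (hq : (q : CotT.relMod P) ∈ CotT.trivRel P) : obsVal S hp hB gp q = 0 := by
  obtain ⟨r, h1, h2⟩ := exists_lift_trivRel S hp hg hq
  rw [obsVal_eq S hp hB hg q (r := r) (by rw [← mp_jp S hg, h2, map_zero]) h1, h2, map_zero]

/-- The obstruction cochain `L₂ → B₀ ⊗ J`. -/
def obsHom (hB : IsBase res τ) {gp : σ → MvPolynomial ι C'} (hg : IsLift S p gp) :
    CotT.L2 P →ₗ[B₀] B₀ ⊗[k] ↥(J p) :=
  let ψ : CotT.relKer P →ₗ[P.toExtension.Ring] B₀ ⊗[k] ↥(J p) :=
    { toFun := obsVal S hp hB gp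
      map_add' := obsVal_add S hp hB hg
      map_smul' := fun y q => (obsVal_smul S hp hB hg y q).trans (algebraMap_smul B₀ y _) }
  Submodule.liftQ _ (ψ.liftBaseChange B₀) (by
    rw [LinearMap.range_le_ker_iff]
    refine TensorProduct.AlgebraTensorModule.ext fun b z => ?_
    change (ψ.liftBaseChange B₀) (b ⊗ₜ[P.toExtension.Ring] z.1) = 0
    rw [LinearMap.liftBaseChange_tmul, show ψ z.1 = 0 from obsVal_trivRel S hp hB hg z.1 z.2, smul_zero])

theorem obsHom_mk2 (hB : IsBase res τ) {gp : σ → MvPolynomial ι C'} (hg : IsLift S p gp) (q : CotT.relKer P) :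
    obsHom S hp hB hg (Submodule.Quotient.mk ((1 : B₀) ⊗ₜ q)) = obsVal S hp hB gp q := by
  simp only [obsHom, Submodule.liftQ_apply, LinearMap.liftBaseChange_tmul, one_smul]
  rfl

omit hp [Module.Flat C B] in
theorem hom_ext_L2 {M : Type u} [AddCommGroup M] [Module B₀ M] {f g : CotT.L2 P →ₗ[B₀] M}
    (h : ∀ q : CotT.relKer P, f (Submodule.Quotient.mk ((1 : B₀) ⊗ₜ q)) =
      g (Submodule.Quotient.mk ((1 : B₀) ⊗ₜ q))) : f = g := by
  refine Submodule.linearMap_qext _ (LinearMap.ext fun z => ?_)
  induction z with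
  | zero => simp
  | add a b ha hb => rw [map_add, map_add, ha, hb]
  | tmul b q =>
  simp only [LinearMap.comp_apply, Submodule.mkQ_apply]
  rw [show b ⊗ₜ[P.toExtension.Ring] q = b • ((1 : B₀) ⊗ₜ q) by rw [TensorProduct.smul_tmul', smul_eq_mul, mul_one],
    Submodule.Quotient.mk_smul, map_smul, map_smul, h]

omit hp in
/-- The cochain on `L₁` of a change of lifts. -/
def delta (p : C' →ₐ[k] C) (P : Algebra.Presentation k B₀ ι σ) (d : σ → MvPolynomial ι C') :
    CotT.L1 P →ₗ[B₀] B₀ ⊗[k] ↥(J p) :=
  (CotT.L1basis P).constr B₀ fun s => κ p P (d s)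

omit [Module.Flat C B] in
theorem delta_eq {d : σ → MvPolynomial ι C'} (hd : ∀ s, mp p (d s) = 0) (r : σ →₀ MvPolynomial ι C') :
    delta p P d ((1 : B₀) ⊗ₜ redF res P (mpF p r)) = κ p P (jp d r) := by
  induction r using Finsupp.induction_linear with
  | zero => simp
  | add a b ha hb => simp only [map_add, tmul_add, ha, hb]
  | single s f =>
    rw [mpF_single, redF_single, Finsupp.linearCombination_single, smul_eq_mul, κ_mul hp _ (hd s),
      show (Finsupp.single s (red res P (mp p f)) : CotT.relMod P) =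
        red res P (mp p f) • Finsupp.single s 1 by rw [Finsupp.smul_single, smul_eq_mul, mul_one],
      TensorProduct.tmul_smul, ← algebraMap_smul B₀ (red res P (mp p f)), ← CotT.L1basis_apply, map_smul,
      delta, Module.Basis.constr_basis]

/-- The obstruction class. -/
def ob (hB : IsBase res τ) {gp : σ → MvPolynomial ι C'} (hg : IsLift S p gp) :
    CotT.T2 P (B₀ ⊗[k] ↥(J p)) :=
  CotT.toT2 P _ (obsHom S hp hB hg)

theorem obsHom_add (hB : IsBase res τ) {gp : σ → MvPolynomial ι C'} (hg : IsLift S p gp)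
    {d : σ → MvPolynomial ι C'} (hd : ∀ s, mp p (d s) = 0) (hg' : IsLift S p (gp + d)) :
    obsHom S hp hB hg' = obsHom S hp hB hg + delta p P d ∘ₗ CotT.d2 P := by
  refine hom_ext_L2 fun q => ?_
  obtain ⟨h0, hr⟩ := relLift'_spec S hp hB q
  rw [LinearMap.add_apply, obsHom_mk2, obsHom_mk2, LinearMap.comp_apply, CotT.d2_mk_tmul, ← hr,
    delta_eq hp hd, obsVal, obsVal, ← map_add, Finsupp.linearCombination_apply,
    Finsupp.linearCombination_apply, Finsupp.linearCombination_apply, ← Finsupp.sum_add]
  simp only [Pi.add_apply, smul_add]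

theorem ob_congr (hB : IsBase res τ) {gp gp' : σ → MvPolynomial ι C'} (hg : IsLift S p gp)
    (hg' : IsLift S p gp') : ob S hp hB hg = ob S hp hB hg' := by
  have hd : ∀ s, mp p ((gp' - gp) s) = 0 := fun s => by rw [Pi.sub_apply, map_sub, hg', hg, sub_self]
  have h := obsHom_add S hp hB hg hd (by rw [add_sub_cancel]; exact hg')
  simp only [add_sub_cancel] at h
  rw [ob, ob, h, map_add, left_eq_add]
  exact (Submodule.Quotient.mk_eq_zero _).2 ⟨delta p P (gp' - gp), CotT.d2Star_apply P _⟩

theorem exists_exact_lift (hB : IsBase res τ) {gp : σ → MvPolynomial ι C'} (hg : IsLift S p gp)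
    (h : ob S hp hB hg = 0) :
    ∃ (gp' : σ → MvPolynomial ι C') (hg' : IsLift S p gp'), obsHom S hp hB hg' = 0 := by
  obtain ⟨ψ, hψ⟩ := (Submodule.Quotient.mk_eq_zero _).1 h
  choose d hd hκ using fun s => exists_κ_eq (P := P) hp (-(ψ (CotT.L1basis P s)))
  have hg' : IsLift S p (gp + d) := fun s => by rw [Pi.add_apply, map_add, hg, hd, add_zero]
  refine ⟨gp + d, hg', ?_⟩
  have hΔ : delta p P d = -ψ := (CotT.L1basis P).ext fun s => by
    rw [delta, Module.Basis.constr_basis, hκ, LinearMap.neg_apply]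
  rw [obsHom_add S hp hB hg hd hg', hΔ, ← hψ, CotT.d2Star_apply, ← LinearMap.add_comp]
  rw [show ψ + -ψ = 0 from LinearMap.ext fun z => by simp, LinearMap.zero_comp]

variable [Algebra C' B] (halg : ∀ c, algebraMap C' B c = algebraMap C B (p c))

include halg

omit [Module.Flat C B] in
theorem isSetup (hB : IsBase res τ) : ExtTorsor.IsSetup (res.comp p) (J p) τ := by
  refine ⟨hp.le, hp.mul_eq, hB.surj, fun c => by rw [halg, hB.map]; rfl, ?_⟩
  have h2 : (RingHom.ker (res.comp p)).map p.toRingHom = RingHom.ker res :=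
    Ideal.map_comap_of_surjective p.toRingHom hp.surj (RingHom.ker res)
  rw [hB.ker, ← h2, Ideal.map_map]
  exact congrArg (Ideal.map · _) (RingHom.ext fun c => (halg c).symm)

omit hp [Module.Flat C B] in
theorem aeval_mp (f : MvPolynomial ι C') : aeval S.x f = aeval S.x (mp p f) := by
  induction f using MvPolynomial.induction_on with
  | C c => rw [MvPolynomial.map_C, aeval_C, aeval_C]; exact halg c
  | add a b ha hb => simp only [map_add, ha, hb]
  | mul_X f i hf => rw [map_mul, map_mul, map_mul, hf, aeval_X, MvPolynomial.map_X, aeval_X]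

omit hp [Module.Flat C B] in
theorem aeval_span_eq_zero {gp : σ → MvPolynomial ι C'} (hg : IsLift S p gp) {f : MvPolynomial ι C'}
    (hf : f ∈ Ideal.span (Set.range gp)) : (aeval S.x : MvPolynomial ι C' →ₐ[C'] B) f = 0 := by
  refine (Ideal.span_le.2 ?_ hf : f ∈ RingHom.ker (aeval S.x : MvPolynomial ι C' →ₐ[C'] B))
  rintro _ ⟨s, rfl⟩
  exact ((aeval_mp S halg (gp s)).trans (congrArg (aeval S.x) (hg s))).trans (S.hg s)

/-- The projection of the lift cut out by lifted relations. -/
def liftedπ {gp : σ → MvPolynomial ι C'} (hg : IsLift S p gp) :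
    (MvPolynomial ι C' ⧸ Ideal.span (Set.range gp)) →ₐ[C'] B :=
  Ideal.Quotient.liftₐ (Ideal.span (Set.range gp)) (aeval S.x : MvPolynomial ι C' →ₐ[C'] B)
    fun _ hf => aeval_span_eq_zero S halg hg hf

omit hp [Module.Flat C B] in
theorem liftedπ_mk {gp : σ → MvPolynomial ι C'} (hg : IsLift S p gp) (f : MvPolynomial ι C') :
    liftedπ S halg hg (Ideal.Quotient.mk _ f) = aeval S.x (mp p f) :=
  (Ideal.Quotient.lift_mk _ _ _).trans (aeval_mp S halg f)

theorem ker_liftedπ (hB : IsBase res τ) {gp : σ → MvPolynomial ι C'} (hg : IsLift S p gp) :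
    RingHom.ker (liftedπ S halg hg) =
      (J p).map (algebraMap C' (MvPolynomial ι C' ⧸ Ideal.span (Set.range gp))) := by
  refine le_antisymm (fun e he => ?_) (Ideal.map_le_iff_le_comap.2 fun t ht => ?_)
  · obtain ⟨f, rfl⟩ := Ideal.Quotient.mk_surjective e
    rw [RingHom.mem_ker, liftedπ_mk] at he
    obtain ⟨r, hr⟩ := exists_jg_eq S hB he
    obtain ⟨r', rfl⟩ := mpF_surjective hp r
    have h0 : mp p (f - jp gp r') = 0 := by rw [map_sub, mp_jp S hg, hr, sub_self]
    have h1 : f - jp gp r' ∈ (J p).map (algebraMap C' (MvPolynomial ι C')) :=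
      (MvPolynomial.ker_map p.toRingHom).le h0
    have h2 := Ideal.mem_map_of_mem (Ideal.Quotient.mk (Ideal.span (Set.range gp))) h1
    have h3 : Ideal.Quotient.mk (Ideal.span (Set.range gp)) (jp gp r') = 0 := by
      rw [Ideal.Quotient.eq_zero_iff_mem, ← Ideal.submodule_span_eq, ← Finsupp.range_linearCombination]
      exact LinearMap.mem_range_self _ _
    rw [Ideal.map_map, map_sub, h3, sub_zero] at h2
    exact h2
  · rw [Ideal.mem_comap, RingHom.mem_ker]
    exact ((liftedπ S halg hg).commutes t).trans (by rw [halg, show p t = 0 from ht, map_zero])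

/-- The lift cut out by lifted relations. -/
def lifted (hB : IsBase res τ) {gp : σ → MvPolynomial ι C'} (hg : IsLift S p gp) :
    ExtTorsor.PExt (J p) B where
  E := MvPolynomial ι C' ⧸ Ideal.span (Set.range gp)
  π := liftedπ S halg hg
  surj b := by
    obtain ⟨f, rfl⟩ := aeval_surjective hB S.hx b
    obtain ⟨f', rfl⟩ := MvPolynomial.map_surjective _ hp.surj f
    exact ⟨Ideal.Quotient.mk _ f', liftedπ_mk S halg hg f'⟩
  ker := ker_liftedπ S hp halg hB hg

theorem μ_lifted (hB : IsBase res τ) {gp : σ → MvPolynomial ι C'} (hg : IsLift S p gp)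
    (z : P.toExtension.Ring ⊗[k] ↥(J p)) :
    μ (isSetup hp halg hB) (lifted S hp halg hB hg) (img hp P z) = Ideal.Quotient.mk _ (ν hp P z) := by
  induction z with
  | zero => simp; rfl
  | tmul y t =>
    obtain ⟨y', rfl⟩ := red_mp_surjective (P := P) hp y
    have h1 : algebraMap P.toExtension.Ring B₀ (red res P (mp p y')) =
        fibre (isSetup hp halg hB) (lifted S hp halg hB hg) (Ideal.Quotient.mk _ y') := by
      rw [← τ_aeval hB S.hx]
      exact congrArg τ (aeval_mp S halg y').symm
    rw [ν_tmul, LinearMap.rTensor_tmul]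
    change μ _ _ (algebraMap P.toExtension.Ring B₀ (red res P (mp p y')) ⊗ₜ[k] t) = _
    rw [h1, μ_tmul]
    rfl
  | add a b ha hb => simp only [map_add, ha, hb]; rfl

theorem μ_lifted_injective (hB : IsBase res τ) {gp : σ → MvPolynomial ι C'} (hg : IsLift S p gp)
    (h : obsHom S hp hB hg = 0) :
    Function.Injective (μ (isSetup hp halg hB) (lifted S hp halg hB hg)) := by
  refine (injective_iff_map_eq_zero _).2 fun m hm => ?_
  obtain ⟨z, rfl⟩ := LinearMap.rTensor_surjective (g := (IsScalarTower.toAlgHom k P.toExtension.Ring B₀).toLinearMap)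
    ↥(J p) (CotT85.algebraMap_surjective P) m
  rw [μ_lifted] at hm
  obtain ⟨r, hr⟩ : ν hp P z ∈ LinearMap.range (jp gp) := by
    rw [Finsupp.range_linearCombination]
    exact Ideal.Quotient.eq_zero_iff_mem.1 hm
  have h0 : jg S (mpF p r) = 0 := by rw [← mp_jp S hg, hr, mp_ν]
  have hq : redF res P (mpF p r) ∈ CotT.relKer P := by
    change CotT.jmap P _ = 0
    rw [← jg_redF S, h0, map_zero]
  have h1 := obsVal_eq S hp hB hg ⟨_, hq⟩ h0 rfl
  rw [← obsHom_mk2 S hp hB hg, h, LinearMap.zero_apply, hr, κ_ν] at h1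
  exact h1.symm

omit [Module.Flat C B] in
theorem flat_quotient_J [Module.Flat C B] (X : ExtTorsor.PExt (J p) B) :
    Module.Flat (C' ⧸ J p) ((C' ⧸ J p) ⊗[C'] X.E) := by
  obtain ⟨e⟩ := ExtTorsor.nonempty_tensor_equiv X
  let e₁ : (C' ⧸ J p) ≃+* C := RingHom.quotientKerEquivOfSurjective (f := p.toRingHom) hp.surj
  letI : Algebra C (C' ⧸ J p) := e₁.symm.toRingHom.toAlgebra
  letI : Algebra C' C := p.toRingHom.toAlgebra
  haveI : IsScalarTower C' C B := IsScalarTower.of_algebraMap_eq halg
  haveI : IsScalarTower C' C (C' ⧸ J p) := IsScalarTower.of_algebraMap_eq fun c =>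
    ((RingEquiv.symm_apply_eq e₁).2 rfl).symm
  let g : ((C' ⧸ J p) ⊗[C] B) ≃ₗ[C] B :=
    (TensorProduct.congr (AlgEquiv.ofRingEquiv (R := C) (f := e₁) (fun c => e₁.apply_symm_apply c)).toLinearEquiv
      (LinearEquiv.refl C B)).trans (TensorProduct.lid C B)
  exact Module.Flat.of_linearEquiv
    (((g.restrictScalars C').trans e.symm).symm.extendScalarsOfSurjective (S := C' ⧸ J p)
      Ideal.Quotient.mk_surjective)

/-- A vanishing obstruction gives a flat lift. -/
theorem exists_aext_of_ob_eq_zero (hB : IsBase res τ) {gp : σ → MvPolynomial ι C'} (hg : IsLift S p gp)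
    (h : ob S hp hB hg = 0) : Nonempty (ExtTorsor.AExt (J p) B) := by
  obtain ⟨gp', hg', h'⟩ := exists_exact_lift S hp hB hg h
  exact ⟨⟨lifted S hp halg hB hg', ExtTorsor.flat_of_μ_injective' (isSetup hp halg hB) _
    (flat_quotient_J hp halg _) (μ_lifted_injective S hp halg hB hg' h')⟩⟩

theorem μ_aeval (hB : IsBase res τ) (X : ExtTorsor.PExt (J p) B) {x' : ι → X.E} (hx' : ∀ i, X.π (x' i) = S.x i)
    (z : P.toExtension.Ring ⊗[k] ↥(J p)) :
    μ (isSetup hp halg hB) X (img hp P z) = aeval x' (ν hp P z) := by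
  have hπ : ∀ f : MvPolynomial ι C', X.π (aeval x' f) = aeval S.x f := fun f => by
    rw [comp_aeval_apply]
    simp only [hx']
  induction z with
  | zero => simp
  | tmul y t =>
    obtain ⟨y', rfl⟩ := red_mp_surjective (P := P) hp y
    have h1 : algebraMap P.toExtension.Ring B₀ (red res P (mp p y')) =
        fibre (isSetup hp halg hB) X (aeval x' y') := by
      rw [← τ_aeval hB S.hx, ← aeval_mp S halg, ← hπ]
      rfl
    rw [ν_tmul, LinearMap.rTensor_tmul, map_mul, aeval_C]
    change μ _ _ (algebraMap P.toExtension.Ring B₀ (red res P (mp p y')) ⊗ₜ[k] t) = _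
    rw [h1, μ_tmul]
  | add a b ha hb => simp only [map_add, ha, hb]

/-- A flat lift makes the obstruction vanish. -/
theorem ob_eq_zero_of_aext (hB : IsBase res τ) (X : ExtTorsor.AExt (J p) B) {gp : σ → MvPolynomial ι C'}
    (hg : IsLift S p gp) : ob S hp hB hg = 0 := by
  choose x' hx' using fun i => X.surj (S.x i)
  have hS := isSetup hp halg hB
  have key : ∀ s, ∃ d, mp p d = 0 ∧ aeval x' (gp s + d) = 0 := fun s => by
    have h0 : X.π (aeval x' (gp s)) = 0 := by
      rw [comp_aeval_apply]
      simp only [hx']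
      rw [aeval_mp S halg, hg, S.hg]
    obtain ⟨m, hm⟩ := exists_μ_eq hS X.toPExt h0
    obtain ⟨z, rfl⟩ := LinearMap.rTensor_surjective
      (g := (IsScalarTower.toAlgHom k P.toExtension.Ring B₀).toLinearMap) ↥(J p)
      (CotT85.algebraMap_surjective P) m
    refine ⟨-ν hp P z, by rw [map_neg, mp_ν, neg_zero], ?_⟩
    rw [map_add, map_neg, ← μ_aeval S hp halg hB X.toPExt hx', ← hm, add_neg_cancel]
  choose d hd hd0 using key
  have hg' : IsLift S p (gp + d) := fun s => by rw [Pi.add_apply, map_add, hg, hd, add_zero]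
  rw [ob_congr S hp hB hg hg', ob, show obsHom S hp hB hg' = 0 from hom_ext_L2 fun q => ?_, map_zero]
  rw [obsHom_mk2, LinearMap.zero_apply, obsVal]
  obtain ⟨h0, -⟩ := relLift'_spec S hp hB q
  obtain ⟨z, hz⟩ := exists_ν_eq (P := P) hp ((mp_jp S hg' (relLift' S hp hB q)).trans h0)
  rw [← hz, κ_ν]
  refine μ_injective hS X ?_
  rw [map_zero, μ_aeval S hp halg hB X.toPExt hx', hz, Finsupp.linearCombination_apply, Finsupp.sum, map_sum]
  refine Finset.sum_eq_zero fun s _ => ?_
  rw [smul_eq_mul, map_mul, Pi.add_apply, hd0, mul_zero]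

end Lift

section Natural

variable {C' C'' : Type u} [CommRing C'] [Algebra k C'] [CommRing C''] [Algebra k C''] {p : C' →ₐ[k] C}
  {q : C'' →ₐ[k] C} (π : C' →ₐ[k] C'') (hπ : ∀ c, q (π c) = p c) (f : ↥(J p) →ₗ[k] ↥(J q))
  (hf : ∀ t : ↥(J p), (f t : C'') = π t)
  (hp : IsSemi res p) (hq : IsSemi res q)

/-- The induced map on coefficient modules. -/
abbrev coeffMap (f : ↥(J p) →ₗ[k] ↥(J q)) : B₀ ⊗[k] ↥(J p) →ₗ[B₀] B₀ ⊗[k] ↥(J q) :=
  TensorProduct.AlgebraTensorModule.lTensor B₀ B₀ f

include hπ

omit [Module.Flat C B] in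
theorem mp_map (x : MvPolynomial ι C') : mp q (MvPolynomial.map π.toRingHom x) = mp p x := by
  rw [MvPolynomial.map_map]
  exact congrArg (fun g : C' →+* C => MvPolynomial.map g x) (RingHom.ext hπ)

include hf hp hq

omit [Module.Flat C B] in
theorem κ_map {x : MvPolynomial ι C'} (hx : mp p x = 0) :
    κ q P (MvPolynomial.map π.toRingHom x) = coeffMap f (κ p P x) := by
  obtain ⟨z, rfl⟩ := exists_ν_eq (P := P) hp hx
  clear hx
  induction z with
  | zero => simp
  | tmul y t =>
    obtain ⟨y', rfl⟩ := red_mp_surjective (P := P) hp y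
    rw [κ_ν, ν_tmul, map_mul, MvPolynomial.map_C, show π.toRingHom t.1 = (f t).1 from (hf t).symm,
      ← ν_tmul (P := P) hq (MvPolynomial.map π.toRingHom y') (f t), κ_ν, mp_map π hπ, LinearMap.rTensor_tmul,
      LinearMap.rTensor_tmul]
    rfl
  | add a b ha hb => rw [map_add, map_add, map_add, map_add, ha, hb, map_add]

theorem obsHom_natural (hB : IsBase res τ) {gp : σ → MvPolynomial ι C'} (hg : IsLift S p gp)
    (hg' : IsLift S q fun s => MvPolynomial.map π.toRingHom (gp s)) :
    obsHom S hq hB hg' = coeffMap f ∘ₗ obsHom S hp hB hg := by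
  refine hom_ext_L2 fun r₀ => ?_
  obtain ⟨h0, hr⟩ := relLift'_spec S hp hB r₀
  let r' : σ →₀ MvPolynomial ι C'' :=
    Finsupp.mapRange (MvPolynomial.map π.toRingHom) (map_zero _) (relLift' S hp hB r₀)
  have hr' : mpF q r' = mpF p (relLift' S hp hB r₀) := by
    ext1 s
    simp only [mpF, r', Finsupp.mapRange.addMonoidHom_apply, Finsupp.mapRange_apply]
    exact mp_map π hπ _
  rw [LinearMap.comp_apply, obsHom_mk2, obsHom_mk2,
    obsVal_eq S hq hB hg' r₀ (r := r') (by rw [hr', h0]) (by rw [hr', hr]), obsVal,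
    ← κ_map π hπ f hf hp hq ((mp_jp S hg _).trans h0)]
  refine congrArg _ ?_
  rw [Finsupp.linearCombination_apply, Finsupp.linearCombination_apply, Finsupp.sum_mapRange_index (by simp),
    map_finsuppSum]
  simp only [smul_eq_mul, map_mul]

theorem ob_natural (hB : IsBase res τ) {gp : σ → MvPolynomial ι C'} (hg : IsLift S p gp)
    {gq : σ → MvPolynomial ι C''} (hgq : IsLift S q gq) :
    ob S hq hB hgq = CotT.T2map P (coeffMap f) (ob S hp hB hg) := by
  have hg' : IsLift S q fun s => MvPolynomial.map π.toRingHom (gp s) := fun s => (mp_map π hπ _).trans (hg s)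
  refine (ob_congr S hq hB hgq hg').trans ?_
  exact congrArg (CotT.toT2 P _) (obsHom_natural S π hπ f hf hp hq hB hg hg')

end Natural

end Groth.Agent.Deform85.ObsT2
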