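import Groth.Prelude.Def_CotT
import Groth.Agent.CotT85.Basic
import Mathlib.LinearAlgebra.Dimension.Finite

/-!
# `T²(P, B₀ ⊗ W) ≅ T²(P, B₀) ⊗ W` for a finite dimensional `W`
-/

set_option autoImplicit false

universe u

open TensorProduct

noncomputable section

namespace Groth.Agent.Deform85.T2Tensor

variable {k : Type u} [Field k] {B₀ : Type u} [CommRing B₀] [Algebra k B₀] {ι σ : Type u}
  (P : Algebra.Presentation k B₀ ι σ)

theorem T2map_toT2 {M N : Type u} [AddCommGroup M] [Module B₀ M] [AddCommGroup N] [Module B₀ N] (g : M →ₗ[B₀] N)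
    (φ : CotT.L2 P →ₗ[B₀] M) :
    CotT.T2map P g (CotT.toT2 P M φ) = CotT.toT2 P N (g ∘ₗ φ) := rfl

theorem T2map_comp {M N L : Type u} [AddCommGroup M] [Module B₀ M] [AddCommGroup N] [Module B₀ N]
    [AddCommGroup L] [Module B₀ L] (g : M →ₗ[B₀] N) (h : N →ₗ[B₀] L) (x : CotT.T2 P M) :
    CotT.T2map P h (CotT.T2map P g x) = CotT.T2map P (h ∘ₗ g) x := by
  induction x using Submodule.Quotient.induction_on with
  | _ φ => rfl

theorem T2map_add {M N : Type u} [AddCommGroup M] [Module B₀ M] [AddCommGroup N] [Module B₀ N]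
    (g g' : M →ₗ[B₀] N) (x : CotT.T2 P M) :
    CotT.T2map P (g + g') x = CotT.T2map P g x + CotT.T2map P g' x := by
  induction x using Submodule.Quotient.induction_on with
  | _ φ => exact congrArg (CotT.toT2 P N) (LinearMap.add_comp φ g' g)

theorem T2map_zero {M N : Type u} [AddCommGroup M] [Module B₀ M] [AddCommGroup N] [Module B₀ N]
    (x : CotT.T2 P M) : CotT.T2map P (0 : M →ₗ[B₀] N) x = 0 := by
  induction x using Submodule.Quotient.induction_on with
  | _ φ => exact congrArg (CotT.toT2 P N) (LinearMap.zero_comp φ)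

theorem T2map_sum {M N : Type u} [AddCommGroup M] [Module B₀ M] [AddCommGroup N] [Module B₀ N] {α : Type*}
    (s : Finset α) (g : α → (M →ₗ[B₀] N)) (x : CotT.T2 P M) :
    CotT.T2map P (∑ i ∈ s, g i) x = ∑ i ∈ s, CotT.T2map P (g i) x := by
  let F : (M →ₗ[B₀] N) →+ CotT.T2 P N :=
    AddMonoidHom.mk' (fun g => CotT.T2map P g x) fun g g' => T2map_add P g g' x
  exact map_sum F g s

theorem T2map_id {M : Type u} [AddCommGroup M] [Module B₀ M] (x : CotT.T2 P M) :
    CotT.T2map P LinearMap.id x = x := by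
  induction x using Submodule.Quotient.induction_on with
  | _ φ => rfl

variable {W : Type u} [AddCommGroup W] [Module k W]

/-- `b ↦ b ⊗ t`. -/
def tmulRight (t : W) : B₀ →ₗ[B₀] B₀ ⊗[k] W :=
  (TensorProduct.AlgebraTensorModule.mk k B₀ B₀ W).flip t

theorem tmulRight_apply (t : W) (b : B₀) : tmulRight (k := k) t b = b ⊗ₜ[k] t := rfl

theorem toT2_smul (r : k) (φ : CotT.L2 P →ₗ[B₀] B₀) :
    CotT.toT2 P B₀ (r • φ) = r • CotT.toT2 P B₀ φ := LinearMap.map_smul_of_tower _ r φ

theorem T2map_tmulRight_smul (r : k) (t : W) (v : CotT.T2 P B₀) :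
    CotT.T2map P (tmulRight (k := k) t) (r • v) = CotT.T2map P (tmulRight (k := k) (r • t)) v := by
  induction v using Submodule.Quotient.induction_on with
  | _ φ =>
  refine congrArg (CotT.toT2 P _) (LinearMap.ext fun z => ?_)
  simp only [LinearMap.comp_apply, LinearMap.smul_apply, tmulRight_apply]
  exact TensorProduct.smul_tmul r (φ z) t

/-- The comparison map. -/
def Θ : (CotT.T2 P B₀) ⊗[k] W →+ CotT.T2 P (B₀ ⊗[k] W) :=
  TensorProduct.liftAddHom
    (AddMonoidHom.mk' (fun v => AddMonoidHom.mk' (fun t => CotT.T2map P (tmulRight t) v)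
        (fun t t' => by
          change CotT.T2map P (tmulRight (t + t')) v = _
          rw [show (tmulRight (k := k) (t + t') : B₀ →ₗ[B₀] B₀ ⊗[k] W) = tmulRight t + tmulRight t' from
            LinearMap.ext fun b => tmul_add b t t', T2map_add]))
      (fun v v' => AddMonoidHom.ext fun t => map_add (CotT.T2map P (tmulRight (k := k) t)) v v'))
    (fun r v t => T2map_tmulRight_smul P r t v)

theorem Θ_tmul (v : CotT.T2 P B₀) (t : W) : Θ P (v ⊗ₜ t) = CotT.T2map P (tmulRight t) v :=
  TensorProduct.liftAddHom_tmul ..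

theorem Θ_natural {W' : Type u} [AddCommGroup W'] [Module k W'] (f : W →ₗ[k] W')
    (z : CotT.T2 P B₀ ⊗[k] W) :
    Θ P (f.lTensor _ z) =
      CotT.T2map P (TensorProduct.AlgebraTensorModule.lTensor B₀ B₀ f) (Θ P z) := by
  let g := CotT.T2map P (TensorProduct.AlgebraTensorModule.lTensor (R := k) B₀ B₀ f)
  induction z with
  | zero =>
    exact ((congrArg (Θ P) (map_zero _)).trans (map_zero (Θ P))).trans
      ((congrArg g (map_zero (Θ P))).trans (map_zero g)).symm
  | tmul v t =>
    refine ((congrArg (Θ P) (LinearMap.lTensor_tmul (CotT.T2 P B₀) f v t)).trans (Θ_tmul P v (f t))).trans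
      (Eq.symm ?_)
    refine (congrArg g (Θ_tmul P v t)).trans ((T2map_comp P _ _ v).trans ?_)
    rfl
  | add a b ha hb =>
    exact ((congrArg (Θ P) (map_add _ a b)).trans ((map_add (Θ P) _ _).trans (congrArg₂ (· + ·) ha hb))).trans
      ((congrArg g (map_add (Θ P) a b)).trans (map_add g _ _)).symm

/-- A section-retraction pair out of a finite family. -/
theorem bijective_of_family {V V' : Type u} [AddCommGroup V] [Module k V] [AddCommGroup V'] {n : ℕ}
    (e : Fin n → W) (c : Fin n → W →ₗ[k] k) (hc : ∀ t, ∑ i, c i t • e i = t) (T : V ⊗[k] W →+ V')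
    (R : Fin n → V' →+ V) (hR : ∀ i v t, R i (T (v ⊗ₜ t)) = c i t • v)
    (hT : ∀ w, ∑ i, T (R i w ⊗ₜ e i) = w) : Function.Bijective T := by
  refine Function.bijective_iff_has_inverse.2 ⟨fun w => ∑ i, R i w ⊗ₜ e i, fun z => ?_, fun w => ?_⟩
  · induction z with
    | zero => simp
    | tmul v t => simp only [hR, TensorProduct.smul_tmul, ← TensorProduct.tmul_sum, hc]
    | add x y hx hy => simp only [map_add, TensorProduct.add_tmul, Finset.sum_add_distrib, hx, hy]
  · exact (map_sum T _ _).trans (hT w)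

theorem Θ_bijective [Module.Finite k W] : Function.Bijective (Θ P (W := W)) := by
  classical
  let b := Module.finBasis k W
  let co : Fin (Module.finrank k W) → (B₀ ⊗[k] W →ₗ[B₀] B₀) := fun i =>
    (TensorProduct.AlgebraTensorModule.rid k B₀ B₀).toLinearMap ∘ₗ
      TensorProduct.AlgebraTensorModule.lTensor B₀ B₀ (b.coord i)
  have hco : ∀ i (c : B₀) (t : W), co i (c ⊗ₜ t) = b.coord i t • c := fun i c t => by simp [co]
  refine bijective_of_family b (fun i => b.coord i) b.sum_repr (Θ P)
    (fun i => (CotT.T2map P (co i)).toAddMonoidHom) (fun i v t => ?_) fun w => ?_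
  · refine (congrArg (CotT.T2map P (co i)) (Θ_tmul P v t)).trans ((T2map_comp P _ _ v).trans ?_)
    induction v using Submodule.Quotient.induction_on with
    | _ φ => exact congrArg (CotT.toT2 P _) (LinearMap.ext fun z => hco i (φ z) t)
  · have h : ∑ i, tmulRight (b i) ∘ₗ co i = LinearMap.id := by
      refine TensorProduct.AlgebraTensorModule.ext fun c t => ?_
      rw [LinearMap.sum_apply, LinearMap.id_apply]
      simp only [LinearMap.comp_apply, hco, tmulRight_apply, TensorProduct.smul_tmul, ← TensorProduct.tmul_sum,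
        Module.Basis.coord_apply, b.sum_repr]
    refine (Finset.sum_congr rfl fun i _ => ?_).trans
      (((T2map_sum P _ (fun i => tmulRight (b i) ∘ₗ co i) w).symm.trans
        (congrArg (fun g => CotT.T2map P g w) h)).trans (T2map_id P w))
    exact (Θ_tmul P _ (b i)).trans (T2map_comp P _ _ w)

end Groth.Agent.Deform85.T2Tensor
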