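import Groth.Prelude.Def_ArtFun3
import Groth.Agent.Deform85.ObsT2
import Groth.Agent.Deform85.T2Tensor
import Groth.Agent.Deform85.AffineDefExt

/-!
# The obstruction theory of deformations of an affine scheme, with values in `T²`
-/

set_option autoImplicit false

universe u

open CategoryTheory CategoryTheory.Limits AlgebraicGeometry TensorProduct

noncomputable section

namespace Groth.Agent.Deform85.AffineObs

open ArtFun ArtFun.Art AffineDefExt

variable {k : Type u} [Field k] {B₀ : Type u} [CommRing B₀] [Algebra k B₀] {ι σ : Type u}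
  (P : Algebra.Presentation k B₀ ι σ)

/-- The coordinate ring of a deformation. -/
def RingA {C : ArtFun.Art k k} (ξ : DefSch (Spec (CommRingCat.of B₀)) (str k B₀) C) : Type u := Γ(ξ.total, ⊤)

variable {C' C : ArtFun.Art k k} (ξ : DefSch (Spec (CommRingCat.of B₀)) (str k B₀) C)

instance : CommRing (RingA ξ) := inferInstanceAs (CommRing Γ(ξ.total, ⊤))

instance : Algebra C.carrier (RingA ξ) := (baseMap ξ.f : C.carrier →+* RingA ξ).toAlgebra

instance : Module.Flat C.carrier (RingA ξ) :=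
  have := isAffine_def ξ
  flat_baseMap (g := ξ.f)

/-- Restriction to the closed fibre. -/
def τA : RingA ξ →+* B₀ := (Scheme.ΓSpecIso (CommRingCat.of B₀)).hom.hom.comp ξ.i.appTop.hom

theorem isBase : ObsT2.IsBase C.res (τA ξ) := by
  have : IsAffine ξ.total := isAffine_def ξ
  have hiso := ConcreteCategory.bijective_of_isIso (Scheme.ΓSpecIso (CommRingCat.of B₀)).hom
  refine ⟨?_, hiso.2.comp (appTop_surjective_fibre C.res ξ.isPullback), fun c => ?_, ?_⟩
  · have h := CAlg8.NilFlat.isNilpotent_maximalIdeal (A := C.carrier)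
    rwa [maximalIdeal_eq_ker C.res] at h
  · change (Scheme.ΓSpecIso (CommRingCat.of B₀)).hom (ξ.i.appTop (baseMap ξ.f c)) = _
    rw [appTop_baseMap C.res ξ.isPullback, baseMap_SpecMap, ← CommRingCat.comp_apply, Iso.inv_hom_id]
    rfl
  · have h1 : RingHom.ker (τA ξ) = RingHom.ker ξ.i.appTop.hom := by
      ext b
      exact map_eq_zero_iff _ hiso.1
    rw [h1, ker_appTop_fibre C.res ξ.isPullback, maximalIdeal_eq_ker C.res]
    rfl

theorem isSemi (p : C' ⟶ C) (hp : IsSemismallExt p) : ObsT2.IsSemi C.res p.toAlgHom := by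
  refine ⟨hp.1, fun t ht => ?_, fun a ha t ht => ?_⟩
  · rw [RingHom.mem_ker, AlgHom.comp_apply, show p.toAlgHom t = 0 from ht, map_zero]
  · rw [res_apply p] at ha
    have h := Ideal.mul_mem_mul (show a ∈ IsLocalRing.maximalIdeal C'.carrier by
      rw [maximalIdeal_eq_ker C'.res]; exact ha) ht
    rwa [hp.2, Ideal.mem_bot] at h

/-- The kernel of a semismall surjection is finite dimensional. -/
theorem finite_kerI (p : C' ⟶ C) (hp : IsSemismallExt p) : Module.Finite k ↥(kerI p) := by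
  classical
  obtain ⟨s, hs⟩ := (IsNoetherian.noetherian (kerI p) : (kerI p).FG)
  have hmem : ∀ x ∈ s, x ∈ kerI p := fun x hx => hs ▸ Submodule.subset_span hx
  let g : (↥s → k) →ₗ[k] ↥(kerI p) := Fintype.linearCombination k fun x => ⟨x.1, hmem x.1 x.2⟩
  refine Module.Finite.of_surjective g fun t => ?_
  suffices h : ∀ x ∈ kerI p, ∃ c, (g c : C'.carrier) = x by
    obtain ⟨c, hc⟩ := h t.1 t.2
    exact ⟨c, Subtype.ext hc⟩
  intro x hx
  rw [← hs] at hx
  induction hx using Submodule.span_induction with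
  | mem x hx =>
    refine ⟨Pi.single ⟨x, hx⟩ 1, ?_⟩
    rw [Fintype.linearCombination_apply_single, one_smul]
  | zero => exact ⟨0, by rw [map_zero]; rfl⟩
  | add a b _ _ ha hb =>
    obtain ⟨c, rfl⟩ := ha
    obtain ⟨d, rfl⟩ := hb
    exact ⟨c + d, by rw [map_add]; rfl⟩
  | smul a x hx ha =>
    obtain ⟨c, rfl⟩ := ha
    refine ⟨C'.res a • c, ?_⟩
    rw [map_smul]
    change C'.res a • (g c : C'.carrier) = a * (g c : C'.carrier)
    rw [Algebra.smul_def, eq_comm, ← sub_eq_zero, ← sub_mul]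
    have h := Ideal.mul_mem_mul (sub_mem_maximalIdeal C'.res a) (g c).2
    rwa [hp.2, Ideal.mem_bot] at h

/-- Chosen lifts of generators and relations. -/
def sys : ObsT2.Sys C.res (τA ξ) P := (ObsT2.nonempty_sys (isBase ξ)).some

variable (p : C' ⟶ C) (hp : IsSemismallExt p)

/-- The obstruction class in `T²(B₀ ⊗ J)`. -/
def obsClass : CotT.T2 P (B₀ ⊗[k] ↥(kerI p)) :=
  ObsT2.ob (sys P ξ) (isSemi p hp) (isBase ξ)
    (ObsT2.exists_isLift (sys P ξ) (isSemi p hp)).choose_spec

theorem obsClass_eq_zero_iff : obsClass P ξ p hp = 0 ↔ Nonempty (ExtT p ξ) := by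
  letI : Algebra C'.carrier (RingA ξ) :=
    ((baseMap ξ.f).comp p.toAlgHom.toRingHom : C'.carrier →+* RingA ξ).toAlgebra
  constructor
  · intro h
    obtain ⟨X⟩ := ObsT2.exists_aext_of_ob_eq_zero (sys P ξ) (isSemi p hp) (fun _ => rfl) (isBase ξ) _ h
    exact ⟨ofAExt hp X⟩
  · rintro ⟨a⟩
    exact ObsT2.ob_eq_zero_of_aext (sys P ξ) (isSemi p hp) (fun _ => rfl) (isBase ξ) (toAExt hp a) _

/-- The obstruction in `T² ⊗ J`. -/
def obsVec : CotT.T2 P B₀ ⊗[k] ↥(kerI p) :=
  haveI := finite_kerI p hp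
  (AddEquiv.ofBijective (T2Tensor.Θ P) (T2Tensor.Θ_bijective P)).symm (obsClass P ξ p hp)

theorem Θ_obsVec : T2Tensor.Θ P (obsVec P ξ p hp) = obsClass P ξ p hp := by
  haveI := finite_kerI p hp
  exact AddEquiv.apply_symm_apply (AddEquiv.ofBijective (T2Tensor.Θ P) (T2Tensor.Θ_bijective P)) _

theorem obsVec_eq_zero_iff : obsVec P ξ p hp = 0 ↔ Nonempty (ExtT p ξ) := by
  haveI := finite_kerI p hp
  rw [← obsClass_eq_zero_iff P ξ p hp]
  constructor
  · intro h
    rw [← Θ_obsVec P ξ p hp, h]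
    exact map_zero (T2Tensor.Θ P)
  · intro h
    exact (T2Tensor.Θ_bijective P).1 ((Θ_obsVec P ξ p hp).trans (h.trans (map_zero (T2Tensor.Θ P)).symm))

/-- The deformation functor of `Spec B₀`. -/
abbrev affDef (k B₀ : Type u) [Field k] [CommRing B₀] [Algebra k B₀] :=
  ArtFun.defFunctor (Λ := k) (Spec (CommRingCat.of B₀)) (str k B₀)

theorem exists_lift_iff : (∃ u', (affDef k B₀).map p u' = ξ.cl) ↔ Nonempty (ExtT p ξ) := by
  constructor
  · rintro ⟨u', hu⟩
    induction u' using Quotient.ind with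
    | _ 𝒳' =>
      obtain ⟨e⟩ := Quotient.exact hu
      exact ⟨⟨𝒳', e⟩⟩
  · rintro ⟨a⟩
    exact ⟨a.1.cl, Quotient.sound ⟨a.2⟩⟩

/-- The obstruction theory. -/
def obsTheory : ArtFun.ObsTheory (affDef k B₀) (CotT.T2 P B₀) where
  obs p hp u := obsVec P (Quotient.out u) p hp
  obs_eq_zero_iff p hp u := by
    rw [obsVec_eq_zero_iff, ← exists_lift_iff, DefSch.cl, Quotient.out_eq]
  obs_quot {C' C} p hp K hK hKJ hq u := by
    haveI := finite_kerI (quotFactor hK p hKJ) hq
    refine (T2Tensor.Θ_bijective P).1 ((Θ_obsVec P _ _ hq).trans (Eq.symm ?_))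
    refine (T2Tensor.Θ_natural P _ (obsVec P (Quotient.out u) p hp)).trans ?_
    refine (congrArg _ (Θ_obsVec P _ p hp)).trans ?_
    exact (ObsT2.ob_natural (sys P (Quotient.out u)) (quotMk C' K hK).toAlgHom (fun _ => rfl)
      ((kerToQuot hK p hKJ).restrictScalars k) (fun _ => rfl) (isSemi p hp)
      (isSemi (quotFactor hK p hKJ) hq) (isBase _) _ _).symm

end Groth.Agent.Deform85.AffineObs
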