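import Groth.Agent.Deform85.AffineObs
import Groth.Agent.CotT85.ExalT1
import Groth.Agent.ArtF85.Hull
import Groth.Agent.ArtF85.Torsor

/-!
# The tangent space of deformations of an affine scheme is `T¹`
-/

set_option autoImplicit false

set_option synthInstance.maxHeartbeats 400000

universe u

open CategoryTheory CategoryTheory.Limits AlgebraicGeometry TensorProduct

noncomputable section

namespace Groth.Agent.Deform85.AffineTangent

open ArtFun ArtFun.Art AffineDefExt AffineObs ExtTorsor

variable {k : Type u} [Field k] {B₀ : Type u} [CommRing B₀] [Algebra k B₀] {ι σ : Type u}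
  (P : Algebra.Presentation k B₀ ι σ)

/-- The maximal ideal of a test object, as a kernel. -/
abbrev mI (A : ArtFun.Art k k) : Ideal A.carrier := kerI (toBase A)

/-- `B₀` as an algebra over a test object. -/
def Clo (_ : ArtFun.Art k k) (B₀ : Type u) : Type u := B₀

instance (A : ArtFun.Art k k) : CommRing (Clo A B₀) := inferInstanceAs (CommRing B₀)

instance (A : ArtFun.Art k k) : Algebra A.carrier (Clo A B₀) :=
  ((algebraMap k B₀).comp A.res.toRingHom : A.carrier →+* Clo A B₀).toAlgebra

/-- The identity of `B₀`. -/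
def idC (A : ArtFun.Art k k) : Clo A B₀ →+* B₀ := RingHom.id B₀

variable {A A' : ArtFun.Art k k}

theorem isSetup_clo (hA : IsSemismallExt (toBase A)) :
    IsSetup A.res (mI A) (idC (B₀ := B₀) A) := by
  refine ⟨fun t ht => ht, fun a ha t ht => ?_, Function.surjective_id, fun c => rfl, ?_⟩
  · have h := Ideal.mul_mem_mul (show a ∈ IsLocalRing.maximalIdeal A.carrier by
      rw [maximalIdeal_eq_ker A.res]; exact ha) ht
    rwa [hA.2, Ideal.mem_bot] at h
  · refine le_antisymm (fun x (hx : idC A x = 0) => ?_) (Ideal.map_le_iff_le_comap.2 fun a ha => ?_)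
    · rw [show x = 0 from hx]
      exact zero_mem _
    · change (algebraMap k B₀) (A.res a) = 0
      rw [show A.res a = 0 from ha, map_zero]

/-- The algebra of a deformation, lifting `B₀`. -/
def aext (ξ : DefSch (Spec (CommRingCat.of B₀)) (str k B₀) A) : AExt (mI A) (Clo A B₀) where
  E := RingA ξ
  π := { (τA ξ : RingA ξ →+* Clo A B₀) with commutes' := (isBase ξ).map }
  surj := (isBase ξ).surj
  ker := (isBase ξ).ker
  flat := inferInstance

instance (ξ : DefSch (Spec (CommRingCat.of B₀)) (str k B₀) A) : Algebra k (RingA ξ) :=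
  ((algebraMap A.carrier (RingA ξ)).comp (algebraMap k A.carrier)).toAlgebra

/-- A deformation over a square-zero test object, as an extension. -/
def extOf (hA : IsSemismallExt (toBase A)) (ξ : DefSch (Spec (CommRingCat.of B₀)) (str k B₀) A) :
    Exal.Ext k B₀ (B₀ ⊗[k] ↥(mI A)) where
  E := RingA ξ
  proj :=
    { τA ξ with commutes' := fun r => ((isBase ξ).map _).trans (congrArg (algebraMap k B₀) (A.res.commutes r)) }
  incl := μ (isSetup_clo hA) (aext ξ).toPExt
  isExtension :=
    { proj_surjective := (isBase ξ).surj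
      incl_injective := μ_injective (isSetup_clo hA) (aext ξ)
      exact := fun x => ⟨fun hx => exists_μ_eq (isSetup_clo hA) (aext ξ).toPExt hx,
        fun ⟨m, hm⟩ => hm ▸ π_μ (isSetup_clo hA) (aext ξ).toPExt m⟩
      mul_incl := fun x z => mul_μ (isSetup_clo hA) (aext ξ).toPExt x z }

theorem T1map_comp {M N L : Type u} [AddCommGroup M] [Module B₀ M] [AddCommGroup N] [Module B₀ N]
    [AddCommGroup L] [Module B₀ L] (g : M →ₗ[B₀] N) (h : N →ₗ[B₀] L) (x : CotT.T1 P M) :
    CotT.T1map P h (CotT.T1map P g x) = CotT.T1map P (h ∘ₗ g) x := by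
  induction x using Submodule.Quotient.induction_on with
  | _ φ => rfl

theorem T1map_id {M : Type u} [AddCommGroup M] [Module B₀ M] (x : CotT.T1 P M) :
    CotT.T1map P LinearMap.id x = x := by
  induction x using Submodule.Quotient.induction_on with
  | _ φ => rfl

theorem T1map_add {M N : Type u} [AddCommGroup M] [Module B₀ M] [AddCommGroup N] [Module B₀ N]
    (g g' : M →ₗ[B₀] N) (x : CotT.T1 P M) :
    CotT.T1map P (g + g') x = CotT.T1map P g x + CotT.T1map P g' x := by
  induction x using Submodule.Quotient.induction_on with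
  | _ φ => exact congrArg Submodule.Quotient.mk (Subtype.ext (LinearMap.add_comp _ _ _))

theorem T1map_smul {M N : Type u} [AddCommGroup M] [Module B₀ M] [AddCommGroup N] [Module B₀ N]
    (b : B₀) (g : M →ₗ[B₀] N) (x : CotT.T1 P M) :
    CotT.T1map P (b • g) x = b • CotT.T1map P g x := by
  induction x using Submodule.Quotient.induction_on with
  | _ φ => exact congrArg Submodule.Quotient.mk (Subtype.ext (LinearMap.smul_comp _ _ _))

/-- Classes of extensions are functorial along maps of extensions. -/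
theorem extClass_map {M N : Type u} [AddCommGroup M] [Module B₀ M] [AddCommGroup N] [Module B₀ N]
    {X : Exal.Ext k B₀ M} {Y : Exal.Ext k B₀ N} (g : M →ₗ[B₀] N) (φ : X.E →ₐ[k] Y.E)
    (hp : ∀ x, Y.proj (φ x) = X.proj x) (hi : ∀ m, φ (X.incl m) = Y.incl (g m)) :
    CotT85.extClass P Y = CotT.T1map P g (CotT85.extClass P X) := by
  obtain ⟨l, hl⟩ := CotT85.exists_isLift P X
  have hl' : CotT85.IsLift P Y (φ.comp l) := fun p => (hp _).trans (hl p)
  rw [CotT85.extClass_eq P hl, CotT85.extClass_eq P hl']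
  have : hl'.conormal = g ∘ₗ hl.conormal := by
    refine LinearMap.ext fun x => Y.isExtension.incl_injective ?_
    obtain ⟨r, rfl⟩ := Algebra.Extension.Cotangent.mk_surjective x
    rw [hl'.incl_conormal, LinearMap.comp_apply, ← hi, hl.incl_conormal]
    rfl
  rw [this]
  rfl

/-- The map of maximal ideals induced by a morphism. -/
def mMap (q : A ⟶ A') : ↥(mI A) →ₗ[k] ↥(mI A') where
  toFun t := ⟨q.toAlgHom t.1, (res_apply q t.1).trans t.2⟩
  map_add' t t' := Subtype.ext (map_add q.toAlgHom _ _)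
  map_smul' c t := Subtype.ext (map_smul q.toAlgHom c t.1)

theorem map_μ_of_hom (hA : IsSemismallExt (toBase A)) (hA' : IsSemismallExt (toBase A')) (q : A ⟶ A')
    {ξ : DefSch (Spec (CommRingCat.of B₀)) (str k B₀) A} {ξ' : DefSch (Spec (CommRingCat.of B₀)) (str k B₀) A'}
    (φ : RingA ξ →+* RingA ξ')
    (hφ : ∀ a, φ (algebraMap A.carrier (RingA ξ) a) = algebraMap A'.carrier (RingA ξ') (q.toAlgHom a))
    (hτ : ∀ x, τA ξ' (φ x) = τA ξ x) (m : B₀ ⊗[k] ↥(mI A)) :
    φ (μ (isSetup_clo hA) (aext ξ).toPExt m) =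
      μ (isSetup_clo hA') (aext ξ').toPExt (ObsT2.coeffMap (mMap q) m) := by
  induction m with
  | zero =>
    rw [map_zero, map_zero, map_zero]
    exact map_zero φ
  | tmul b t =>
    obtain ⟨x, rfl⟩ := fibre_surjective (isSetup_clo hA) (aext ξ).toPExt b
    rw [μ_tmul, TensorProduct.AlgebraTensorModule.lTensor_tmul]
    refine ((map_mul φ _ _).trans (congrArg (· * φ x) (hφ t.1))).trans ?_
    rw [show fibre (isSetup_clo hA) (aext ξ).toPExt x = fibre (isSetup_clo hA') (aext ξ').toPExt (φ x) from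
      (hτ x).symm]
    exact (μ_tmul (isSetup_clo hA') (aext ξ').toPExt (φ x) (mMap q t)).symm
  | add a b ha hb =>
    rw [map_add, map_add, map_add]
    exact (map_add φ _ _).trans (congrArg₂ (· + ·) ha hb)

/-- Naturality of the class along maps of coordinate rings. -/
theorem cls_natural (hA : IsSemismallExt (toBase A)) (hA' : IsSemismallExt (toBase A')) (q : A ⟶ A')
    {ξ : DefSch (Spec (CommRingCat.of B₀)) (str k B₀) A} {ξ' : DefSch (Spec (CommRingCat.of B₀)) (str k B₀) A'}
    (φ : RingA ξ →+* RingA ξ')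
    (hφ : ∀ a, φ (algebraMap A.carrier (RingA ξ) a) = algebraMap A'.carrier (RingA ξ') (q.toAlgHom a))
    (hτ : ∀ x, τA ξ' (φ x) = τA ξ x) :
    CotT85.extClass P (extOf hA' ξ') =
      CotT.T1map P (ObsT2.coeffMap (mMap q)) (CotT85.extClass P (extOf hA ξ)) :=
  extClass_map P _ (X := extOf hA ξ) (Y := extOf hA' ξ')
    { φ with commutes' := fun r => (hφ _).trans (congrArg (algebraMap A'.carrier (RingA ξ')) (q.toAlgHom.commutes r)) }
    hτ (map_μ_of_hom hA hA' q φ hφ hτ)

/-- The pullback of sections along a morphism of deformations over a morphism of test objects. -/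
theorem exists_ringHom_of_hom (q : A ⟶ A') (ξ : DefSch (Spec (CommRingCat.of B₀)) (str k B₀) A)
    (ξ' : DefSch (Spec (CommRingCat.of B₀)) (str k B₀) A') (f : ξ'.total ⟶ ξ.total)
    (hf : f ≫ ξ.f = ξ'.f ≫ specMap q) (hi : ξ'.i ≫ f = ξ.i) :
    ∃ φ : RingA ξ →+* RingA ξ',
      (∀ a, φ (algebraMap A.carrier (RingA ξ) a) = algebraMap A'.carrier (RingA ξ') (q.toAlgHom a)) ∧
        ∀ x, τA ξ' (φ x) = τA ξ x := by
  refine ⟨f.appTop.hom, fun a => ?_, fun x => ?_⟩
  · refine (baseMap_comp f ξ.f a).symm.trans ?_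
    rw [hf]
    exact baseMap_SpecMap_comp ξ'.f q.toAlgHom.toRingHom a
  · refine congrArg (Scheme.ΓSpecIso (CommRingCat.of B₀)).hom.hom ?_
    exact congr($(congrArg Scheme.Hom.appTop hi) x)

theorem mMap_id : mMap (𝟙 A) = LinearMap.id := rfl

theorem cls_congr (hA : IsSemismallExt (toBase A)) {ξ ξ' : DefSch (Spec (CommRingCat.of B₀)) (str k B₀) A}
    (e : ξ.Iso ξ') : CotT85.extClass P (extOf hA ξ) = CotT85.extClass P (extOf hA ξ') := by
  obtain ⟨φ, hφ, hτ⟩ := exists_ringHom_of_hom (𝟙 A) ξ ξ' e.iso.inv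
    ((Iso.inv_comp_eq e.iso).2 (by rw [specMap_id, Category.comp_id, e.hom_f]))
    (by rw [← e.i_hom, Category.assoc, Iso.hom_inv_id, Category.comp_id])
  rw [cls_natural P hA hA (𝟙 A) φ hφ hτ, mMap_id,
    show ObsT2.coeffMap (B₀ := B₀) (LinearMap.id : ↥(mI A) →ₗ[k] ↥(mI A)) = LinearMap.id from
      TensorProduct.AlgebraTensorModule.lTensor_id]
  exact (T1map_id P _).symm

/-- The class in `T¹` of an element of the deformation functor over a square-zero test object. -/
def cls (hA : IsSemismallExt (toBase A)) (u : (affDef k B₀).obj A) : CotT.T1 P (B₀ ⊗[k] ↥(mI A)) :=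
  Quotient.lift (s := DefSch.setoid _ _ A) (fun ξ => CotT85.extClass P (extOf hA ξ))
    (fun _ _ ⟨e⟩ => cls_congr P hA e) u

theorem cls_map (hA : IsSemismallExt (toBase A)) (hA' : IsSemismallExt (toBase A')) (q : A ⟶ A')
    (u : (affDef k B₀).obj A) :
    cls P hA' ((affDef k B₀).map q u) = CotT.T1map P (ObsT2.coeffMap (mMap q)) (cls P hA u) := by
  induction u using Quotient.ind with
  | _ ξ =>
    obtain ⟨φ, hφ, hτ⟩ := exists_ringHom_of_hom q ξ (ξ.baseChange q) (pullback.fst ξ.f (specMap q))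
      pullback.condition (DefSch.baseChange_i_fst ξ q)
    exact cls_natural P hA hA' q φ hφ hτ

theorem exists_decomp (a : A.carrier) :
    ∃ t : ↥(mI A), a = algebraMap k A.carrier (A.res a) + t.1 := by
  refine ⟨⟨a - algebraMap k A.carrier (A.res a), ?_⟩, by rw [add_sub_cancel]⟩
  change A.res (a - algebraMap k A.carrier (A.res a)) = 0
  rw [map_sub, AlgHom.commutes, Algebra.algebraMap_self, RingHom.id_apply, sub_self]

theorem cls_injective (hA : IsSemismallExt (toBase A)) :
    Function.Injective (cls (B₀ := B₀) P hA) := by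
  intro u v h
  induction u using Quotient.ind with
  | _ ξ =>
  induction v using Quotient.ind with
  | _ ξ' =>
  obtain ⟨e⟩ := CotT85.nonempty_equiv_of_extClass_eq P h
  have := isAffine_def ξ
  have := isAffine_def ξ'
  have hμ : ∀ (η : DefSch (Spec (CommRingCat.of B₀)) (str k B₀) A) (t : ↥(mI A)),
      (extOf hA η).incl ((1 : B₀) ⊗ₜ t) = algebraMap A.carrier (RingA η) t.1 := fun η t => by
    have h1 := μ_tmul (isSetup_clo hA) (aext η).toPExt 1 t
    rw [map_one, mul_one] at h1
    exact h1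
  have hlin : ∀ a, e.toAlgEquiv (algebraMap A.carrier (RingA ξ) a) = algebraMap A.carrier (RingA ξ') a := by
    intro a
    obtain ⟨t, ht⟩ := exists_decomp a
    rw [ht, map_add, map_add, ← hμ ξ, ← hμ ξ']
    refine (map_add e.toAlgEquiv _ _).trans (congrArg₂ (· + ·) ?_ (e.apply_incl _))
    exact e.toAlgEquiv.commutes (A.res a)
  let φ : Γ(ξ.total, ⊤) ⟶ Γ(ξ'.total, ⊤) :=
    CommRingCat.ofHom (e.toAlgEquiv.toRingEquiv.toRingHom : Γ(ξ.total, ⊤) →+* Γ(ξ'.total, ⊤))
  have : IsIso φ := (ConcreteCategory.isIso_iff_bijective φ).2 e.toAlgEquiv.bijective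
  obtain ⟨q, hq⟩ := exists_hom_appTop φ
  obtain ⟨q', hq'⟩ := exists_hom_appTop (inv φ)
  let ι' : ξ.total ≅ ξ'.total := ⟨q', q, ext_of_isAffine (by rw [Scheme.Hom.comp_appTop, hq, hq',
      IsIso.hom_inv_id, Scheme.Hom.id_appTop]),
    ext_of_isAffine (by rw [Scheme.Hom.comp_appTop, hq, hq', IsIso.inv_hom_id, Scheme.Hom.id_appTop])⟩
  have hqf : q ≫ ξ.f = ξ'.f := baseMap_ext fun c => by
    rw [baseMap_comp, hq]
    exact hlin c
  have hiq : ξ'.i ≫ q = ξ.i := ext_of_isAffine (by
    rw [Scheme.Hom.comp_appTop, hq]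
    refine CommRingCat.hom_ext (RingHom.ext fun x => ?_)
    exact (ConcreteCategory.bijective_of_isIso (Scheme.ΓSpecIso (CommRingCat.of B₀)).hom).1 (e.proj_apply x))
  exact Quotient.sound ⟨⟨ι', by rw [← hqf]; exact ι'.hom_inv_id_assoc ξ.f, by
    rw [← hiq, Category.assoc, ι'.inv_hom_id, Category.comp_id]⟩⟩

omit P in
/-- A quotient of a ring by an extended kernel gives a cartesian square of spectra. -/
theorem isPullback_SpecMap_of_surjective {R S E D : Type u} [CommRing R] [CommRing S] [CommRing E] [CommRing D]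
    (φ : R →+* S) (hφ : Function.Surjective φ) (f : R →+* E) (π : E →+* D) (g : S →+* D)
    (hπ : Function.Surjective π) (hcomm : ∀ r, π (f r) = g (φ r))
    (hker : RingHom.ker π ≤ (RingHom.ker φ).map f) :
    IsPullback (Spec.map (CommRingCat.ofHom π)) (Spec.map (CommRingCat.ofHom g))
      (Spec.map (CommRingCat.ofHom f)) (Spec.map (CommRingCat.ofHom φ)) := by
  refine isPullback_SpecMap_of_isPushout _ _ _ _ ?_
  have w : CommRingCat.ofHom f ≫ CommRingCat.ofHom π = CommRingCat.ofHom φ ≫ CommRingCat.ofHom g :=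
    CommRingCat.hom_ext (RingHom.ext hcomm)
  have hk : ∀ (s : PushoutCocone (CommRingCat.ofHom f) (CommRingCat.ofHom φ)),
      RingHom.ker π ≤ RingHom.ker s.inl.hom := fun s => hker.trans (Ideal.map_le_iff_le_comap.2 fun t ht => by
    rw [Ideal.mem_comap, RingHom.mem_ker]
    refine (congr($(s.condition) t) : s.inl (f t) = s.inr (φ t)).trans ?_
    rw [show φ t = 0 from ht, map_zero])
  let D' : ∀ s : PushoutCocone (CommRingCat.ofHom f) (CommRingCat.ofHom φ), D →+* s.pt := fun s =>
    π.liftOfSurjective hπ ⟨s.inl.hom, hk s⟩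
  have hD : ∀ s x, D' s (π x) = s.inl x := fun s x => RingHom.liftOfRightInverse_comp_apply π _ _ _ x
  refine IsPushout.of_isColimit' ⟨w⟩ (PushoutCocone.isColimitAux _
    (fun s => CommRingCat.ofHom (D' s))
    (fun s => CommRingCat.hom_ext (RingHom.ext (hD s)))
    (fun s => CommRingCat.hom_ext (RingHom.ext fun c => ?_))
    (fun s m hm => CommRingCat.hom_ext (RingHom.ext fun b => ?_)))
  · obtain ⟨c', rfl⟩ := hφ c
    refine (congrArg (D' s) (hcomm c').symm :).trans ?_
    exact (hD s _).trans (congr($(s.condition) c'))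
  · obtain ⟨x, rfl⟩ := hπ b
    exact (congr($(hm WalkingSpan.left) x)).trans (hD s x).symm

/-- The structure map on the middle ring of an extension by `B₀ ⊗ 𝔪`. -/
def extAlg (hA : IsSemismallExt (toBase A)) (Z : Exal.Ext k B₀ (B₀ ⊗[k] ↥(mI A))) : A.carrier →+* Z.E :=
  let tp : A.carrier →ₗ[k] ↥(mI A) :=
    (LinearMap.id - (Algebra.linearMap k A.carrier).comp A.res.toLinearMap).codRestrict
      ((mI A).restrictScalars k) fun a => by
        change A.res (a - algebraMap k A.carrier (A.res a)) = 0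
        rw [map_sub, AlgHom.commutes, Algebra.algebraMap_self, RingHom.id_apply, sub_self]
  { toFun := fun a => algebraMap k Z.E (A.res a) + Z.incl ((1 : B₀) ⊗ₜ tp a)
    map_one' := by
      rw [map_one, map_one, show tp 1 = 0 from Subtype.ext (by
        change (1 : A.carrier) - algebraMap k A.carrier (A.res 1) = 0
        rw [map_one, map_one, sub_self]), tmul_zero, map_zero, add_zero]
    map_zero' := by rw [map_zero, map_zero, map_zero, tmul_zero, map_zero, add_zero]
    map_add' := fun a b => by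
      rw [map_add, map_add, map_add, tmul_add, map_add]
      abel
    map_mul' := fun a b => by
      have h1 : tp (a * b) = A.res a • tp b + A.res b • tp a := Subtype.ext (by
        change a * b - algebraMap k A.carrier (A.res (a * b)) =
          A.res a • (b - algebraMap k A.carrier (A.res b)) + A.res b • (a - algebraMap k A.carrier (A.res a))
        have h0 : (a - algebraMap k A.carrier (A.res a)) * (b - algebraMap k A.carrier (A.res b)) = 0 :=
          (isSetup_clo (B₀ := B₀) hA).mul_eq _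
            (by rw [map_sub, AlgHom.commutes, Algebra.algebraMap_self, RingHom.id_apply, sub_self]) _ (by
              change A.res (b - algebraMap k A.carrier (A.res b)) = 0
              rw [map_sub, AlgHom.commutes, Algebra.algebraMap_self, RingHom.id_apply, sub_self])
        rw [Algebra.smul_def, Algebra.smul_def, map_mul, map_mul, ← sub_eq_zero]
        linear_combination h0)
      have hi : ∀ (r : k) (t : ↥(mI A)),
          Z.incl ((1 : B₀) ⊗ₜ (r • t)) = algebraMap k Z.E r * Z.incl ((1 : B₀) ⊗ₜ t) := fun r t => by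
        rw [Z.isExtension.mul_incl, AlgHom.commutes, TensorProduct.tmul_smul, algebraMap_smul]
      rw [h1, map_mul, map_mul, tmul_add, map_add, hi, hi]
      have h0 := Groth.Agent.EGA4Alg4.Exal13.incl_mul_incl Z ((1 : B₀) ⊗ₜ tp a) ((1 : B₀) ⊗ₜ tp b)
      linear_combination -h0 }

theorem extAlg_of_mem (hA : IsSemismallExt (toBase A)) (Z : Exal.Ext k B₀ (B₀ ⊗[k] ↥(mI A))) (t : ↥(mI A)) :
    extAlg hA Z t.1 = Z.incl ((1 : B₀) ⊗ₜ t) := by
  have h : A.res t.1 = 0 := t.2
  change algebraMap k Z.E (A.res t.1) + _ = _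
  rw [h, map_zero, zero_add]
  refine congrArg (fun s => Z.incl ((1 : B₀) ⊗ₜ s)) (Subtype.ext ?_)
  change t.1 - algebraMap k A.carrier (A.res t.1) = t.1
  rw [h, map_zero, sub_zero]

theorem proj_extAlg (hA : IsSemismallExt (toBase A)) (Z : Exal.Ext k B₀ (B₀ ⊗[k] ↥(mI A))) (a : A.carrier) :
    Z.proj (extAlg hA Z a) = algebraMap k B₀ (A.res a) := by
  change Z.proj (algebraMap k Z.E (A.res a) + Z.incl _) = _
  rw [map_add, AlgHom.commutes, (Z.isExtension.exact _).2 ⟨_, rfl⟩, add_zero]

theorem incl_mem_map (hA : IsSemismallExt (toBase A)) (Z : Exal.Ext k B₀ (B₀ ⊗[k] ↥(mI A)))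
    (m : B₀ ⊗[k] ↥(mI A)) : Z.incl m ∈ (mI A).map (extAlg hA Z) := by
  induction m with
  | zero => simp
  | tmul b t =>
    obtain ⟨y, rfl⟩ := Z.isExtension.proj_surjective b
    have : Z.incl (Z.proj y ⊗ₜ t) = y * Z.incl ((1 : B₀) ⊗ₜ t) := by
      rw [Z.isExtension.mul_incl, TensorProduct.smul_tmul', smul_eq_mul, mul_one]
    rw [this, ← extAlg_of_mem hA Z t]
    exact Ideal.mul_mem_left _ _ (Ideal.mem_map_of_mem _ t.2)
  | add a b ha hb => rw [map_add]; exact add_mem ha hb

/-- The lift of `B₀` attached to an extension. -/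
def pextOfExt (hA : IsSemismallExt (toBase A)) (Z : Exal.Ext k B₀ (B₀ ⊗[k] ↥(mI A))) :
    PExt (mI A) (Clo A B₀) where
  E := Z.E
  algebra := (extAlg hA Z).toAlgebra
  π :=
    letI : Algebra A.carrier Z.E := (extAlg hA Z).toAlgebra
    { (Z.proj.toRingHom : Z.E →+* Clo A B₀) with commutes' := proj_extAlg hA Z }
  surj := Z.isExtension.proj_surjective
  ker := by
    refine le_antisymm (fun e he => ?_) (Ideal.map_le_iff_le_comap.2 fun t ht => ?_)
    · obtain ⟨m, rfl⟩ := (Z.isExtension.exact e).1 he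
      exact incl_mem_map hA Z m
    · change Z.proj (extAlg hA Z t) = 0
      rw [proj_extAlg, show A.res t = 0 from ht, map_zero]

theorem μ_pextOfExt (hA : IsSemismallExt (toBase A)) (Z : Exal.Ext k B₀ (B₀ ⊗[k] ↥(mI A)))
    (m : B₀ ⊗[k] ↥(mI A)) : μ (isSetup_clo hA) (pextOfExt hA Z) m = Z.incl m := by
  induction m with
  | zero => simp; rfl
  | tmul b t =>
    obtain ⟨y, rfl⟩ := Z.isExtension.proj_surjective b
    refine (μ_tmul (isSetup_clo hA) (pextOfExt hA Z) y t).trans ?_
    change extAlg hA Z t.1 * y = _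
    rw [extAlg_of_mem, mul_comm, Z.isExtension.mul_incl, TensorProduct.smul_tmul', smul_eq_mul, mul_one]
  | add a b ha hb => rw [map_add, map_add, ha, hb]; rfl

theorem flat_pextOfExt (hA : IsSemismallExt (toBase A)) (Z : Exal.Ext k B₀ (B₀ ⊗[k] ↥(mI A))) :
    Module.Flat A.carrier (pextOfExt hA Z).E := by
  have hmax : (mI A).IsMaximal := RingHom.ker_isMaximal_of_surjective _ A.res_surjective
  refine flat_of_μ_injective' (isSetup_clo hA) _ ?_ fun a b h => Z.isExtension.incl_injective ?_
  · let _ := Ideal.Quotient.field (mI A)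
    infer_instance
  · rwa [μ_pextOfExt, μ_pextOfExt] at h

/-- The deformation attached to an extension. -/
def defOfExt (hA : IsSemismallExt (toBase A)) (Z : Exal.Ext k B₀ (B₀ ⊗[k] ↥(mI A))) :
    DefSch (Spec (CommRingCat.of B₀)) (str k B₀) A where
  total := Spec (CommRingCat.of Z.E)
  f := Spec.map (CommRingCat.ofHom (extAlg hA Z))
  flat := (HasRingHomProperty.Spec_iff (P := @Flat)).mpr (flat_pextOfExt hA Z)
  i := Spec.map (CommRingCat.ofHom Z.proj.toRingHom)
  isPullback := isPullback_SpecMap_of_surjective A.res.toRingHom A.res_surjective (extAlg hA Z)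
    Z.proj.toRingHom (algebraMap k B₀) Z.isExtension.proj_surjective (proj_extAlg hA Z)
    (fun e he => by
      obtain ⟨m, rfl⟩ := (Z.isExtension.exact e).1 he
      exact incl_mem_map hA Z m)

theorem cls_surjective (hA : IsSemismallExt (toBase A)) :
    Function.Surjective (cls (B₀ := B₀) P hA) := by
  intro x
  obtain ⟨φ, rfl⟩ := CotT85.homToT1_surjective P _ x
  obtain ⟨Z, hZ⟩ := CotT85.exists_ext_conormal P φ
  refine ⟨(defOfExt hA Z).cl, ?_⟩
  rw [← hZ]
  change CotT85.extClass P (extOf hA (defOfExt hA Z)) = _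
  let ι' : Z.E →+* RingA (defOfExt hA Z) := (Scheme.ΓSpecIso (CommRingCat.of Z.E)).inv.hom
  have hι : ∀ a, ι' (extAlg hA Z a) = algebraMap A.carrier (RingA (defOfExt hA Z)) a := fun a =>
    (baseMap_SpecMap (extAlg hA Z) a).symm
  have hτ : ∀ z, τA (defOfExt hA Z) (ι' z) = Z.proj z := fun z => by
    change (Scheme.ΓSpecIso (CommRingCat.of B₀)).hom ((Spec.map (CommRingCat.ofHom Z.proj.toRingHom)).appTop
      ((Scheme.ΓSpecIso (CommRingCat.of Z.E)).inv z)) = _
    rw [← CommRingCat.comp_apply, ← CommRingCat.comp_apply, Scheme.ΓSpecIso_naturality,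
      Iso.inv_hom_id_assoc]
    rfl
  have hμ : ∀ m, ι' (Z.incl m) = μ (isSetup_clo hA) (aext (defOfExt hA Z)).toPExt m := fun m => by
    induction m with
    | zero => simp; rfl
    | tmul b t =>
      obtain ⟨y, rfl⟩ := Z.isExtension.proj_surjective b
      have h1 : Z.incl (Z.proj y ⊗ₜ t) = extAlg hA Z t.1 * y := by
        rw [extAlg_of_mem, mul_comm, Z.isExtension.mul_incl, TensorProduct.smul_tmul', smul_eq_mul, mul_one]
      rw [h1, map_mul, hι, ← hτ y]
      exact (μ_tmul (isSetup_clo hA) (aext (defOfExt hA Z)).toPExt (ι' y) t).symm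
    | add a b ha hb => rw [map_add, map_add, map_add, ha, hb]; rfl
  have hcomm : ∀ r, ι' (algebraMap k Z.E r) = algebraMap k (RingA (defOfExt hA Z)) r := fun r => by
    refine Eq.trans ?_ (hι (algebraMap k A.carrier r))
    refine congrArg ι' (Eq.symm ?_)
    change algebraMap k Z.E (A.res (algebraMap k A.carrier r)) + Z.incl ((1 : B₀) ⊗ₜ _) = _
    rw [AlgHom.commutes, Algebra.algebraMap_self, RingHom.id_apply, add_eq_left]
    refine (congrArg Z.incl ?_).trans (map_zero Z.incl)
    refine (congrArg ((1 : B₀) ⊗ₜ[k] ·) (Subtype.ext ?_)).trans (tmul_zero _ _)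
    change algebraMap k A.carrier r - algebraMap k A.carrier (A.res (algebraMap k A.carrier r)) = 0
    rw [AlgHom.commutes, Algebra.algebraMap_self, RingHom.id_apply, sub_self]
  refine (extClass_map P LinearMap.id (X := Z) (Y := extOf hA (defOfExt hA Z))
    { ι' with commutes' := hcomm } hτ hμ).trans ?_
  exact T1map_id P _

theorem isSemismall_toBase_of_sq {A : ArtFun.Art k k}
    (h : ∀ a b : A.carrier, A.res a = 0 → A.res b = 0 → a * b = 0) : IsSemismallExt (toBase A) := by
  refine ⟨A.res_surjective, eq_bot_iff.2 (Ideal.mul_le.2 fun a ha b hb => Ideal.mem_bot.2 (h a b ?_ hb))⟩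
  rw [maximalIdeal_eq_ker A.res] at ha
  exact ha

theorem isSemismall_dual : IsSemismallExt (toBase (dual k k)) :=
  isSemismall_toBase_of_sq fun a b ha hb => by
    have key : ∀ a b : DualNumber k, TrivSqZeroExt.fst a = 0 → TrivSqZeroExt.fst b = 0 → a * b = 0 :=
      fun a b h1 h2 => TrivSqZeroExt.ext (by simp [h1, h2]) (by simp [h1, h2])
    exact key a b ha hb

theorem isSemismall_dual2 : IsSemismallExt (toBase (dual2 k k)) :=
  isSemismall_toBase_of_sq fun a b ha hb => by
    have key : ∀ a b : TrivSqZeroExt k (k × k), TrivSqZeroExt.fst a = 0 → TrivSqZeroExt.fst b = 0 → a * b = 0 :=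
      fun a b h1 h2 => TrivSqZeroExt.ext (by simp [h1, h2]) (by simp [h1, h2])
    exact key a b ha hb

/-- The coefficient of `ε`. -/
def epsMap : ↥(mI (dual k k)) →ₗ[k] k where
  toFun t := ArtF85.eps (t.1 : (dual k k).carrier)
  map_add' a b := rfl
  map_smul' c a := rfl

theorem epsMap_bijective : Function.Bijective (epsMap (k := k)) := by
  refine ⟨fun a b h => Subtype.ext (ArtF85.dual_ext (a.2.trans b.2.symm) h),
    fun c => ⟨⟨ArtF85.mkDual 0 c, rfl⟩, rfl⟩⟩

/-- `B₀ ⊗ (ε) → B₀`. -/
def epsCoeff : B₀ ⊗[k] ↥(mI (dual k k)) →ₗ[B₀] B₀ :=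
  (TensorProduct.AlgebraTensorModule.rid k B₀ B₀).toLinearMap ∘ₗ
    TensorProduct.AlgebraTensorModule.lTensor B₀ B₀ (epsMap (k := k))

theorem epsCoeff_tmul (b : B₀) (t : ↥(mI (dual k k))) : epsCoeff (b ⊗ₜ t) = epsMap t • b := by
  simp [epsCoeff]

theorem epsCoeff_bijective : Function.Bijective (epsCoeff (k := k) (B₀ := B₀)) := by
  let e := LinearEquiv.ofBijective (epsMap (k := k)) epsMap_bijective
  have : epsCoeff (B₀ := B₀) = ((TensorProduct.AlgebraTensorModule.congr (LinearEquiv.refl B₀ B₀) e).trans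
      (TensorProduct.AlgebraTensorModule.rid k B₀ B₀)).toLinearMap :=
    TensorProduct.AlgebraTensorModule.ext fun b t => by simp [epsCoeff, e]
  rw [this]
  exact LinearEquiv.bijective _

/-- The tangent space as `T¹`. -/
def tanCls (u : (affDef k B₀).obj (dual k k)) : CotT.T1 P B₀ :=
  CotT.T1map P epsCoeff (cls P isSemismall_dual u)

theorem tanCls_bijective : Function.Bijective (tanCls (B₀ := B₀) P) := by
  let g := LinearEquiv.ofBijective (epsCoeff (k := k) (B₀ := B₀)) epsCoeff_bijective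
  have hg : Function.Bijective (CotT.T1map P (epsCoeff (k := k) (B₀ := B₀))) := by
    refine Function.bijective_iff_has_inverse.2 ⟨CotT.T1map P g.symm.toLinearMap, fun x => ?_, fun x => ?_⟩
    · refine (T1map_comp P epsCoeff g.symm.toLinearMap x).trans ?_
      rw [show g.symm.toLinearMap ∘ₗ (epsCoeff (k := k) (B₀ := B₀)) = LinearMap.id from
        LinearMap.ext g.symm_apply_apply]
      exact T1map_id P x
    · refine (T1map_comp P g.symm.toLinearMap epsCoeff x).trans ?_
      rw [show (epsCoeff (k := k) (B₀ := B₀)) ∘ₗ g.symm.toLinearMap = LinearMap.id from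
        LinearMap.ext g.apply_symm_apply]
      exact T1map_id P x
  exact hg.comp ⟨cls_injective P isSemismall_dual, cls_surjective P isSemismall_dual⟩

theorem tanCls_map {A : ArtFun.Art k k} (hA : IsSemismallExt (toBase A)) (q : A ⟶ dual k k)
    (u : (affDef k B₀).obj A) :
    tanCls P ((affDef k B₀).map q u) = CotT.T1map P (epsCoeff ∘ₗ ObsT2.coeffMap (mMap q)) (cls P hA u) := by
  rw [tanCls, cls_map P hA isSemismall_dual q u]
  exact T1map_comp P _ _ _

theorem epsCoeff_plus :
    (epsCoeff (B₀ := B₀)) ∘ₗ ObsT2.coeffMap (mMap (plus : dual2 k k ⟶ dual k k)) =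
      epsCoeff ∘ₗ ObsT2.coeffMap (mMap (pr₁ : dual2 k k ⟶ dual k k)) +
        epsCoeff ∘ₗ ObsT2.coeffMap (mMap (pr₂ : dual2 k k ⟶ dual k k)) :=
  TensorProduct.AlgebraTensorModule.ext fun b t => by
    simp only [LinearMap.add_apply, LinearMap.comp_apply, TensorProduct.AlgebraTensorModule.lTensor_tmul,
      epsCoeff_tmul, ← add_smul]
    rfl

theorem epsCoeff_scale (c : k) :
    (epsCoeff (B₀ := B₀)) ∘ₗ ObsT2.coeffMap (mMap (scale c : dual k k ⟶ dual k k)) =
      algebraMap k B₀ c • epsCoeff :=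
  TensorProduct.AlgebraTensorModule.ext fun b t => by
    simp only [LinearMap.smul_apply, LinearMap.comp_apply, TensorProduct.AlgebraTensorModule.lTensor_tmul,
      epsCoeff_tmul, algebraMap_smul, smul_smul]
    rfl

theorem tanCls_plus (z : (affDef k B₀).obj (dual2 k k)) :
    tanCls P ((affDef k B₀).map plus z) =
      tanCls P ((affDef k B₀).map pr₁ z) + tanCls P ((affDef k B₀).map pr₂ z) := by
  refine (tanCls_map P isSemismall_dual2 plus z).trans ?_
  rw [epsCoeff_plus, T1map_add, ← tanCls_map P isSemismall_dual2 pr₁ z, ← tanCls_map P isSemismall_dual2 pr₂ z]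

theorem tanCls_scale (c : k) (x : (affDef k B₀).obj (dual k k)) :
    tanCls P ((affDef k B₀).map (scale c) x) = c • tanCls P x := by
  refine (tanCls_map P isSemismall_dual (scale c) x).trans ?_
  rw [epsCoeff_scale, T1map_smul]
  exact algebraMap_smul B₀ c (CotT.T1map P epsCoeff (cls P isSemismall_dual x))

/-- A bijection respecting the operations attached to a functor is a linear equivalence of its tangent space. -/
theorem nonempty_equiv_of_ops {F : ArtFun.Art k k ⥤ Type (u + 1)} [TangentStr F] (h0 : H0 F) (h2 : Heps F)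
    {V : Type u} [AddCommGroup V] [Module k V] (T : F.obj (dual k k) → V) (hT : Function.Bijective T)
    (hadd : ∀ z : F.obj (dual2 k k), T (F.map plus z) = T (F.map pr₁ z) + T (F.map pr₂ z))
    (hsmul : ∀ (c : k) x, T (F.map (scale c) x) = c • T x) :
    Nonempty (TangentSpace F ≃ₗ[k] V) := by
  refine ⟨LinearEquiv.ofBijective (⟨⟨fun x => T x, fun x y => ?_⟩, fun c x => ?_⟩ :
    TangentSpace F →ₗ[k] V) hT⟩
  · obtain ⟨z, rfl, rfl⟩ := ArtF85.exists_pair h0 h2 x y
    exact (congrArg T (TangentStr.add_eq (F := F) z)).trans (hadd z)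
  · exact (congrArg T (TangentStr.smul_eq (F := F) c x)).trans (hsmul c x)

/-- The tangent space of the deformation functor is linearly `T¹`. -/
theorem nonempty_tangentEquiv [TangentStr (affDef k B₀)] (h0 : H0 (affDef k B₀)) (h2 : Heps (affDef k B₀)) :
    Nonempty (TangentSpace (affDef k B₀) ≃ₗ[k] CotT.T1 P B₀) :=
  nonempty_equiv_of_ops h0 h2 (tanCls P) (tanCls_bijective P) (tanCls_plus P) (tanCls_scale P)

end Groth.Agent.Deform85.AffineTangent
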