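import Mathlib.RingTheory.Smooth.Basic
import Mathlib.RingTheory.AdicCompletion.Completeness
import Mathlib.RingTheory.AdicCompletion.RingHom
import Mathlib.RingTheory.PowerSeries.Inverse
import Mathlib.RingTheory.Ideal.IdempotentFG
import Mathlib.RingTheory.DedekindDomain.Basic
import Mathlib.LinearAlgebra.Dual.Lemmas

/-!
# Injective arcs through a rational point of a smooth one-dimensional domain
-/

set_option autoImplicit false

universe u

namespace Groth.Agent.Deform85.Arc

open PowerSeries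

variable {k : Type u} [Field k] {R : Type u} [CommRing R] [Algebra k R]

local notation "J" => (Ideal.span {(X : PowerSeries k)} : Ideal (PowerSeries k))

theorem mk_X_ne_zero : Ideal.Quotient.mk (J ^ 2) (X : PowerSeries k) ≠ 0 := by
  rw [Ne, Ideal.Quotient.eq_zero_iff_mem, Ideal.span_singleton_pow, Ideal.mem_span_singleton,
    X_pow_dvd_iff]
  intro h
  have := h 1 (by norm_num)
  rw [coeff_one_X] at this
  exact one_ne_zero this

theorem mk_constantCoeff_eq {n : ℕ} (hn : 1 ≤ n) {f g : PowerSeries k}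
    (h : Ideal.Quotient.mk (J ^ n) f = Ideal.Quotient.mk (J ^ n) g) : constantCoeff f = constantCoeff g := by
  rw [Ideal.Quotient.eq, Ideal.span_singleton_pow, Ideal.mem_span_singleton, X_pow_dvd_iff] at h
  have := h 0 hn
  rwa [coeff_zero_eq_constantCoeff, map_sub, sub_eq_zero] at this

/-- A first-order arc with nonzero velocity. -/
theorem exists_first_order [IsDomain R] [IsNoetherianRing R] (σ : R →ₐ[k] k)
    (hM : RingHom.ker σ.toRingHom ≠ ⊥) :
    ∃ (f : R →ₐ[k] PowerSeries k ⧸ J ^ 2) (x : R), σ x = 0 ∧ f x = Ideal.Quotient.mk _ X ∧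
      ∀ r g, Ideal.Quotient.mk (J ^ 2) g = f r → constantCoeff g = σ r := by
  set M := RingHom.ker σ.toRingHom
  have hM1 : M ≠ ⊤ := RingHom.ker_ne_top _
  have hidem : ¬ M ≤ M ^ 2 := fun h => by
    have hi : IsIdempotentElem M := le_antisymm Ideal.mul_le_left (by rwa [sq] at h)
    rcases (Ideal.isIdempotentElem_iff_eq_bot_or_top M (IsNoetherian.noetherian M)).1 hi with h' | h'
    exacts [hM h', hM1 h']
  obtain ⟨x, hxM, hx⟩ := SetLike.not_le_iff_exists.1 hidem
  have hx' : x ∉ (M ^ 2).restrictScalars k := hx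
  obtain ⟨lam, hlam1, hlam0⟩ := Submodule.exists_dual_map_eq_bot_of_notMem hx' inferInstance
  have hl0 : ∀ y ∈ M ^ 2, lam y = 0 := fun y hy => by
    have : lam y ∈ ((M ^ 2).restrictScalars k).map lam := ⟨y, hy, rfl⟩
    rwa [hlam0, Submodule.mem_bot] at this
  let c := (lam x)⁻¹
  have hXX : Ideal.Quotient.mk (J ^ 2) ((X : PowerSeries k) * X) = 0 := by
    rw [Ideal.Quotient.eq_zero_iff_mem, sq]
    exact Ideal.mul_mem_mul (Ideal.mem_span_singleton_self _) (Ideal.mem_span_singleton_self _)
  let fl : R →ₗ[k] PowerSeries k ⧸ J ^ 2 :=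
    { toFun := fun r => Ideal.Quotient.mk _ (C (σ r) + C (c * lam (r - algebraMap k R (σ r))) * X)
      map_add' := fun a b => by
        rw [← map_add]
        congr 1
        simp only [map_add, map_sub, map_mul]
        ring
      map_smul' := fun a r => by
        rw [RingHom.id_apply, Algebra.smul_def a (Ideal.Quotient.mk (J ^ 2) _),
          IsScalarTower.algebraMap_apply k (PowerSeries k) (PowerSeries k ⧸ J ^ 2),
          Ideal.Quotient.algebraMap_eq, ← map_mul]
        congr 1
        have hσ : σ (a • r) = a * σ r := by rw [map_smul, smul_eq_mul]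
        have hl : lam (a • r - algebraMap k R (σ (a • r))) = a * lam (r - algebraMap k R (σ r)) := by
          rw [hσ, map_mul, ← Algebra.smul_def, ← smul_sub, map_smul, smul_eq_mul]
        rw [hl, hσ, PowerSeries.algebraMap_eq]
        simp only [map_mul]
        ring }
  have hone : fl 1 = 1 := by
    change Ideal.Quotient.mk _ _ = 1
    simp
  have hmul : ∀ a b, fl (a * b) = fl a * fl b := fun a b => by
    change Ideal.Quotient.mk _ _ = Ideal.Quotient.mk _ _ * Ideal.Quotient.mk _ _
    set a₀ := a - algebraMap k R (σ a) with ha₀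
    set b₀ := b - algebraMap k R (σ b) with hb₀
    have ha : a₀ ∈ M := by change σ a₀ = 0; simp [ha₀]
    have hb : b₀ ∈ M := by change σ b₀ = 0; simp [hb₀]
    have hab : a * b - algebraMap k R (σ (a * b)) = σ a • b₀ + σ b • a₀ + a₀ * b₀ := by
      simp only [ha₀, hb₀, map_mul, Algebra.smul_def]
      ring
    have hlab : lam (a * b - algebraMap k R (σ (a * b))) = σ a * lam b₀ + σ b * lam a₀ := by
      rw [hab, map_add, map_add, map_smul, map_smul, hl0 (a₀ * b₀) (by rw [sq]; exact Ideal.mul_mem_mul ha hb), add_zero,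
        smul_eq_mul, smul_eq_mul]
    rw [hlab, ← map_mul (Ideal.Quotient.mk (J ^ 2))]
    rw [← sub_eq_zero, ← map_sub]
    refine Ideal.Quotient.eq_zero_iff_mem.2 ?_
    rw [show ∀ z : PowerSeries k, z ∈ J ^ 2 ↔ X ^ 2 ∣ z from fun z => by
      rw [Ideal.span_singleton_pow, Ideal.mem_span_singleton]]
    refine ⟨-(C (c * lam a₀) * C (c * lam b₀)), ?_⟩
    simp only [smul_eq_mul, map_mul, map_add]
    ring
  refine ⟨AlgHom.ofLinearMap fl hone hmul, x, hxM, ?_, fun r g hg => ?_⟩
  · change Ideal.Quotient.mk _ _ = _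
    rw [show σ x = 0 from hxM, map_zero, map_zero, sub_zero, inv_mul_cancel₀ hlam1, map_one, one_mul, zero_add]
  · have := mk_constantCoeff_eq (by norm_num) hg
    simpa [map_add] using this

/-- Arcs extend from first order by formal smoothness; the arc is injective in dimension one. -/
theorem exists_arc [IsDomain R] [IsNoetherianRing R] [Algebra.FormallySmooth k R]
    (hdim : Ring.DimensionLEOne R) (σ : R →ₐ[k] k) (hM : RingHom.ker σ.toRingHom ≠ ⊥) :
    ∃ φ : R →ₐ[k] PowerSeries k, Function.Injective φ ∧ ∀ r, constantCoeff (φ r) = σ r := by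
  obtain ⟨f, x, hx, hfx, hf0⟩ := exists_first_order σ hM
  have hstep : ∀ (n : ℕ) (g : R →ₐ[k] PowerSeries k ⧸ J ^ (n + 2)),
      ∃ g' : R →ₐ[k] PowerSeries k ⧸ J ^ (n + 3),
        (Ideal.Quotient.factorₐ k (Ideal.pow_le_pow_right (Nat.le_succ (n + 2)))).comp g' = g := by
    intro n g
    have hle : J ^ (n + 3) ≤ J ^ (n + 2) := Ideal.pow_le_pow_right (Nat.le_succ (n + 2))
    refine ⟨Algebra.FormallySmooth.liftOfSurjective g (Ideal.Quotient.factorₐ k hle)
      (Ideal.Quotient.factor_surjective hle) ⟨2, ?_⟩, Algebra.FormallySmooth.comp_liftOfSurjective _ _ _ _⟩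
    change RingHom.ker (Ideal.Quotient.factor hle) ^ 2 = 0
    rw [Ideal.Quotient.factor_ker hle, ← Ideal.map_pow, Ideal.zero_eq_bot, Ideal.map_eq_bot_iff_le_ker, Ideal.mk_ker, ← pow_mul]
    exact Ideal.pow_le_pow_right (by omega)
  choose next hnext using hstep
  let g : ∀ n, R →ₐ[k] PowerSeries k ⧸ J ^ (n + 2) := fun n => Nat.rec f (fun n gn => next n gn) n
  have hg : ∀ m n (h : m ≤ n) r, Ideal.Quotient.factor (Ideal.pow_le_pow_right (by omega : m + 2 ≤ n + 2))
      (g n r) = g m r := by
    intro m n h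
    induction n with
    | zero => obtain rfl : m = 0 := by omega
              intro r
              obtain ⟨z, hz⟩ := Ideal.Quotient.mk_surjective (g 0 r)
              rw [← hz, Ideal.Quotient.factor_mk]
    | succ n ih =>
      intro r
      rcases Nat.lt_or_eq_of_le h with h' | rfl
      · rw [← ih (Nat.lt_succ_iff.1 h') r]
        have := AlgHom.congr_fun (hnext n (g n)) r
        rw [← this]
        obtain ⟨z, hz⟩ := Ideal.Quotient.mk_surjective (g (n + 1) r)
        change Ideal.Quotient.factor _ (g (n + 1) r) =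
          Ideal.Quotient.factor _ (Ideal.Quotient.factor
            (Ideal.pow_le_pow_right (Nat.le_succ (n + 2)) : J ^ (n + 3) ≤ J ^ (n + 2)) (g (n + 1) r))
        rw [← hz, Ideal.Quotient.factor_mk, Ideal.Quotient.factor_mk, Ideal.Quotient.factor_mk]
      · obtain ⟨z, hz⟩ := Ideal.Quotient.mk_surjective (g (n + 1) r)
        rw [← hz, Ideal.Quotient.factor_mk]
  let F : ∀ n, R →ₐ[k] PowerSeries k ⧸ J ^ n := fun n =>
    (Ideal.Quotient.factorₐ k (Ideal.pow_le_pow_right (Nat.le_add_right n 2))).comp (g n)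
  have hF : ∀ {m n : ℕ} (hle : m ≤ n),
      (Ideal.Quotient.factorₐ k (Ideal.pow_le_pow_right hle)).comp (F n) = F m := fun {m n} hle =>
    AlgHom.ext fun r => by
      have e := hg m n hle r
      obtain ⟨z, hz⟩ := Ideal.Quotient.mk_surjective (g n r)
      simp only [F, AlgHom.comp_apply, ← hz, ← e, Ideal.Quotient.factorₐ_apply_mk, Ideal.Quotient.factor_mk]
  let φ := IsAdicComplete.liftAlgHom J F hF
  have h2 : ∀ r, Ideal.Quotient.mk (J ^ 2) (φ r) = f r := fun r => by
    rw [IsAdicComplete.mk_liftAlgHom]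
    exact hg 0 2 (by norm_num) r
  refine ⟨φ, ?_, fun r => hf0 r _ (h2 r)⟩
  rw [injective_iff_map_eq_zero]
  by_contra! h
  obtain ⟨a, ha, ha0⟩ := h
  haveI : (RingHom.ker φ.toRingHom).IsPrime := RingHom.ker_isPrime _
  have hne : RingHom.ker φ.toRingHom ≠ ⊥ := fun h => ha0 (Ideal.mem_bot.1 (h ▸ ha))
  have hmax := hdim.maximalOfPrime hne inferInstance
  have heq : RingHom.ker φ.toRingHom = RingHom.ker σ.toRingHom :=
    hmax.eq_of_le (RingHom.ker_ne_top _) fun r hr => by
      change σ r = 0
      rw [← hf0 r _ (h2 r), show φ r = 0 from hr, map_zero]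
  have hφx : φ x = 0 := (heq ▸ hx : x ∈ RingHom.ker φ.toRingHom)
  exact mk_X_ne_zero (k := k) (hfx.symm.trans ((h2 x).symm.trans (by rw [hφx, map_zero])))

end Groth.Agent.Deform85.Arc
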