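import Groth.Agent.Def38.Functor
import Groth.Agent.FlatMor66.NilBC
import Groth.Agent.FlatMor67.LiftAffine
import Groth.Prelude.Def_ArtFun6

/-!
# Gluing in the local Hilbert functor
-/

set_option autoImplicit false
set_option linter.style.haveILetI false
set_option backward.isDefEq.respectTransparency false

universe u

open CategoryTheory CategoryTheory.Limits AlgebraicGeometry
open ArtFun ArtFun.Art

noncomputable section

namespace Groth.Agent.Deform85.HilbGlue

open Groth.Agent.Def38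

variable {k : Type u} [Field k] {X : Scheme.{u}} {x : X ⟶ specPt k} {I₀ : X.IdealSheafData}
variable {A A₁ A₂ B : Art k k}

theorem specRes_thickening (B : Art k k) : MoreMor.IsFiniteOrderThickening (specRes B) := by
  haveI : IsClosedImmersion (specRes B) := IsClosedImmersion.spec_of_surjective _ B.res_surjective
  let e : B.carrier ⧸ RingHom.ker B.res.toRingHom ≃+* k :=
    RingHom.quotientKerEquivOfSurjective B.res_surjective
  have hnil : IsNilpotent (RingHom.ker B.res.toRingHom) := by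
    obtain ⟨n, hn⟩ := IsArtinianRing.isNilpotent_jacobson_bot (R := B.carrier)
    rw [IsLocalRing.jacobson_eq_maximalIdeal (⊥ : Ideal B.carrier) bot_ne_top] at hn
    refine ⟨n, ?_⟩
    rw [show RingHom.ker B.res.toRingHom = IsLocalRing.maximalIdeal B.carrier from
      Ideal.ext fun a => (B.mem_maximalIdeal_iff a).symm]
    exact hn
  have hfac : specRes B = Spec.map (CommRingCat.ofHom e.toRingHom) ≫
      Spec.map (CommRingCat.ofHom (Ideal.Quotient.mk (RingHom.ker B.res.toRingHom))) := by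
    rw [← Spec.map_comp, ← CommRingCat.ofHom_comp]
    rfl
  haveI : IsIso (Spec.map (CommRingCat.ofHom e.toRingHom)) :=
    haveI : IsIso (CommRingCat.ofHom e.toRingHom) := (ConcreteCategory.isIso_iff_bijective _).2 e.bijective
    inferInstance
  refine ⟨⟨inferInstance, ⟨fun z => ?_⟩⟩, ?_⟩
  · have hr := range_comap_of_surjective _ B.res.toRingHom B.res_surjective
    obtain ⟨w, hw⟩ : z ∈ Set.range (PrimeSpectrum.comap B.res.toRingHom) := by
      rw [hr]
      intro a ha
      obtain ⟨n, hn⟩ := hnil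
      have h1 : a ^ n ∈ RingHom.ker B.res.toRingHom ^ n := Ideal.pow_mem_pow ha n
      rw [hn, Ideal.zero_eq_bot, Ideal.mem_bot] at h1
      exact z.isPrime.mem_of_pow_mem n (h1 ▸ zero_mem _)
    exact ⟨w, hw⟩
  · rw [hfac, Scheme.Hom.ker_comp_of_isIso]
    exact FlatMor67.specMk_isNilpotent_ker hnil

/-- The arrow of abstract deformations under a restriction in the local Hilbert functor. -/
theorem exists_arrow (g : A ⟶ B) (I : (localHilb X x I₀).obj A) (J : (localHilb X x I₀).obj B)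
    (hJ : (localHilb X x I₀).map g I = J) :
    ∃ α : Arrow g (objectOf I) (objectOf J), α.hom ≫ I.1.subschemeι = J.1.subschemeι ≫ XAmap x g := by
  subst hJ
  let J : (localHilb X x I₀).obj B := (localHilb X x I₀).map g I
  let c := I.1.comapIso (XAmap x g)
  let h : J.1.subscheme ⟶ I.1.subscheme := c.hom ≫ pullback.snd (XAmap x g) I.1.subschemeι
  have hc : c.hom ≫ pullback.fst (XAmap x g) I.1.subschemeι = J.1.subschemeι :=
    Scheme.IdealSheafData.comapIso_hom_fst _ _
  have hh : h ≫ I.1.subschemeι = J.1.subschemeι ≫ XAmap x g := by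
    rw [Category.assoc, ← pullback.condition, ← Category.assoc, hc]
  have sq : IsPullback h (J.1.subschemeι ≫ XApr x B) (I.1.subschemeι ≫ XApr x A) (specMap g) := by
    refine IsPullback.paste_vert ?_ (isPullback_XAmap x g)
    exact (IsPullback.of_hasPullback (XAmap x g) I.1.subschemeι).flip.of_iso c.symm (Iso.refl _) (Iso.refl _)
      (Iso.refl _) (by simp [h]) (by simp [← hc]) (by simp) (by simp)
  refine ⟨⟨h, sq, ?_⟩, hh⟩
  refine (cancel_mono I.1.subschemeι).1 ?_
  show ((objectOf J).i ≫ h) ≫ I.1.subschemeι = _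
  rw [Category.assoc, hh, objectOf_i_compat]
  show (objectOf J).i ≫ J.1.subschemeι ≫ XAmap x g = _
  rw [← Category.assoc, objectOf_i_compat J, Category.assoc, XAincl_XAmap]

theorem comap_eq_of_isPullback {P T Y Y' : Scheme.{u}} {π : P ⟶ T} {ι' : P ⟶ Y'} {j : T ⟶ Y} {f : Y' ⟶ Y}
    [IsClosedImmersion j] [IsClosedImmersion ι'] (sq : IsPullback π ι' j f) : j.ker.comap f = ι'.ker := by
  let e := Scheme.Hom.toImage j
  have hι : j.ker.subschemeι.ker = j.ker := Scheme.IdealSheafData.ker_subschemeι _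
  haveI : IsIso (Scheme.Hom.toImage j) := inferInstance
  change (pullback.fst f j.ker.subschemeι).ker = _
  have sq' : IsPullback ι' (π ≫ Scheme.Hom.toImage j) f j.ker.subschemeι :=
    sq.flip.of_iso (Iso.refl _) (Iso.refl _) (asIso (Scheme.Hom.toImage j)) (Iso.refl _) (by simp) (by simp)
      (by simp) (by simp [Scheme.Hom.toImage_imageι])
  rw [← sq'.isoPullback_hom_fst, Scheme.Hom.ker_comp_of_isIso]

variable {p₁ : B ⟶ A₁} {p₂ : B ⟶ A₂} {f₁ : A₁ ⟶ A} {f₂ : A₂ ⟶ A}

theorem surjective_cmp [LocallyOfFiniteType x] (h : IsFibreProd p₁ p₂ f₁ f₂) (hf₂ : Function.Surjective f₂) :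
    Function.Surjective (cmp (localHilb X x I₀) h) := by
  rw [ArtF85.surjective_cmp_iff]
  intro I₁ I₂ e
  obtain ⟨α₁, hα₁⟩ := exists_arrow f₁ I₁ _ rfl
  obtain ⟨α₂, hα₂⟩ := exists_arrow f₂ I₂ _ e.symm
  obtain ⟨η, π₁, π₂, hπ⟩ := exists_glue_def h hf₂ α₁ α₂
  have P := isPushout_of_arrows h hf₂ α₁ α₂ π₁ π₂ hπ
  let j : η.total ⟶ XA x B := P.desc (I₂.1.subschemeι ≫ XAmap x p₂) (I₁.1.subschemeι ≫ XAmap x p₁) (by
    rw [← Category.assoc, hα₂, ← Category.assoc, hα₁, Category.assoc, Category.assoc, ← XAmap_comp, ← XAmap_comp, h.w])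
  have hj₂ : π₂.hom ≫ j = I₂.1.subschemeι ≫ XAmap x p₂ := P.inl_desc _ _ _
  have hj₁ : π₁.hom ≫ j = I₁.1.subschemeι ≫ XAmap x p₁ := P.inr_desc _ _ _
  have hjf : j ≫ XApr x B = η.f := P.hom_ext
    (by rw [← Category.assoc, hj₂, Category.assoc, XAmap_snd, π₂.isPullback.w]; exact (Category.assoc _ _ _).symm)
    (by rw [← Category.assoc, hj₁, Category.assoc, XAmap_snd, π₁.isPullback.w]; exact (Category.assoc _ _ _).symm)
  have hij : η.i ≫ j = I₀.subschemeι ≫ XAincl x B := by
    rw [← π₁.i_hom, Category.assoc, hj₁, ← Category.assoc, objectOf_i_compat I₁, Category.assoc, XAincl_XAmap]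
  have sq₀ : IsPullback η.i I₀.subschemeι j (XAincl x B) :=
    IsPullback.of_bot (hjf.symm ▸ η.isPullback) hij (isPullback_XAincl x B)
  have hres := specRes_thickening B
  haveI : LocallyOfFiniteType η.f :=
    (FlatMor66.locallyOfFiniteType_iff η.i (specRes B) _ η.f hres η.isPullback).1 (by
      show LocallyOfFiniteType (I₀.subschemeι ≫ x)
      infer_instance)
  haveI : LocallyOfFiniteType j := by
    have : LocallyOfFiniteType (j ≫ XApr x B) := hjf.symm ▸ inferInstance
    exact locallyOfFiniteType_of_comp j (XApr x B)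
  have hX : MoreMor.IsThickening (XAincl x B) :=
    ⟨MorphismProperty.of_isPullback (isPullback_XAincl x B).flip hres.1.1,
      MorphismProperty.of_isPullback (P := @Surjective) (isPullback_XAincl x B).flip hres.1.2⟩
  haveI : IsClosedImmersion j :=
    (FlatMor66.isClosedImmersion_iff η.i (XAincl x B) I₀.subschemeι j hX sq₀).1 inferInstance
  have hflat : FlatOver X x B j.ker := by
    show Flat (j.ker.subschemeι ≫ XApr x B)
    haveI : IsIso (Scheme.Hom.toImage j) := inferInstance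
    refine (MorphismProperty.cancel_left_of_respectsIso @Flat (Scheme.Hom.toImage j) _).1 ?_
    rw [← Category.assoc, show Scheme.Hom.toImage j ≫ j.ker.subschemeι = j from Scheme.Hom.toImage_imageι j, hjf]
    exact η.flat
  have hfib : j.ker.comap (XAincl x B) = I₀ :=
    (comap_eq_of_isPullback sq₀).trans (Scheme.IdealSheafData.ker_subschemeι _)
  refine ⟨⟨j.ker, hflat, hfib⟩, Subtype.ext ?_, Subtype.ext ?_⟩
  · exact (comap_eq_of_isPullback (IsPullback.of_bot (hjf.symm ▸ π₁.isPullback) hj₁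
      (isPullback_XAmap x p₁))).trans (Scheme.IdealSheafData.ker_subschemeι _)
  · exact (comap_eq_of_isPullback (IsPullback.of_bot (hjf.symm ▸ π₂.isPullback) hj₂
      (isPullback_XAmap x p₂))).trans (Scheme.IdealSheafData.ker_subschemeι _)

theorem injective_cmp (h : IsFibreProd p₁ p₂ f₁ f₂) (hf₂ : Function.Surjective f₂) :
    Function.Injective (cmp (localHilb X x I₀) h) := by
  rw [ArtF85.injective_cmp_iff]
  intro I I' e₁ e₂
  obtain ⟨π₁, hπ₁⟩ := exists_arrow p₁ I _ rfl
  obtain ⟨π₂, hπ₂⟩ := exists_arrow p₂ I _ rfl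
  obtain ⟨π₁', hπ₁'⟩ := exists_arrow p₁ I' _ e₁.symm
  obtain ⟨π₂', hπ₂'⟩ := exists_arrow p₂ I' _ e₂.symm
  let I₁ := (localHilb X x I₀).map p₁ I
  let I₂ := (localHilb X x I₀).map p₂ I
  have e : (localHilb X x I₀).map f₂ I₂ = (localHilb X x I₀).map f₁ I₁ := by
    show (localHilb X x I₀).map f₂ ((localHilb X x I₀).map p₂ I) = (localHilb X x I₀).map f₁ ((localHilb X x I₀).map p₁ I)
    rw [ArtF85.map_map, ArtF85.map_map, h.w]
  obtain ⟨α₁, hα₁⟩ := exists_arrow f₁ I₁ _ rfl
  obtain ⟨α₂, hα₂⟩ := exists_arrow f₂ I₂ _ e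
  have w : ∀ (K : (localHilb X x I₀).obj B) (ρ₁ : Arrow p₁ (objectOf K) (objectOf I₁))
      (ρ₂ : Arrow p₂ (objectOf K) (objectOf I₂)), ρ₁.hom ≫ K.1.subschemeι = I₁.1.subschemeι ≫ XAmap x p₁ →
      ρ₂.hom ≫ K.1.subschemeι = I₂.1.subschemeι ≫ XAmap x p₂ → α₁.hom ≫ ρ₁.hom = α₂.hom ≫ ρ₂.hom := by
    intro K ρ₁ ρ₂ h₁ h₂
    refine (cancel_mono K.1.subschemeι).1 ?_
    refine (Category.assoc _ _ _).trans ((congrArg (α₁.hom ≫ ·) h₁).trans ?_)
    refine Eq.trans ?_ ((congrArg (α₂.hom ≫ ·) h₂).symm.trans (Category.assoc _ _ _).symm)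
    refine (Category.assoc _ _ _).symm.trans ((congrArg (· ≫ XAmap x p₁) hα₁).trans ?_)
    refine Eq.trans ?_ ((congrArg (· ≫ XAmap x p₂) hα₂).symm.trans (Category.assoc _ _ _))
    rw [Category.assoc, Category.assoc, ← XAmap_comp, ← XAmap_comp, h.w]
  obtain ⟨ψ, hψ₁, hψ₂⟩ := nonempty_iso_of_arrows h hf₂ α₁ α₂ π₁ π₂ (w I π₁ π₂ hπ₁ hπ₂) π₁' π₂'
    (w I' π₁' π₂' hπ₁' hπ₂')
  have P := isPushout_of_arrows h hf₂ α₁ α₂ π₁ π₂ (w I π₁ π₂ hπ₁ hπ₂)
  have key : ψ.iso.hom ≫ I'.1.subschemeι = I.1.subschemeι := P.hom_ext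
    ((Category.assoc _ _ _).symm.trans (((congrArg (· ≫ I'.1.subschemeι) hψ₂).trans hπ₂').trans hπ₂.symm))
    ((Category.assoc _ _ _).symm.trans (((congrArg (· ≫ I'.1.subschemeι) hψ₁).trans hπ₁').trans hπ₁.symm))
  refine Subtype.ext ?_
  have hk := congrArg Scheme.Hom.ker key
  rw [Scheme.Hom.ker_comp_of_isIso] at hk
  exact ((Scheme.IdealSheafData.ker_subschemeι _).symm.trans (hk.symm.trans
    (Scheme.IdealSheafData.ker_subschemeι _)))

theorem h0 : H0 (localHilb X x I₀) := by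
  haveI : IsIso (XAincl x (base k k)) := by
    haveI : IsIso (specRes (base k k)) := by
      show IsIso (Spec.map (𝟙 (CommRingCat.of k)))
      infer_instance
    exact (isPullback_XAincl x (base k k)).isIso_fst_of_isIso
  have hp : I₀.comap (inv (XAincl x (base k k))) ∈ {I | I.comap (XAincl x (base k k)) = I₀} := by
    show _ = _
    rw [← Scheme.IdealSheafData.comap_comp, IsIso.hom_inv_id, Scheme.IdealSheafData.comap_id]
  refine ⟨⟨⟨I₀.comap (inv (XAincl x (base k k))), flat_of_field (k := k) _, hp⟩⟩, ⟨fun I J => Subtype.ext ?_⟩⟩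
  have hI := congrArg (fun K => Scheme.IdealSheafData.comap K (inv (XAincl x (base k k)))) (I.2.2.trans J.2.2.symm)
  simpa only [← Scheme.IdealSheafData.comap_comp, IsIso.inv_hom_id, Scheme.IdealSheafData.comap_id] using hI

end Groth.Agent.Deform85.HilbGlue
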