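import Groth.Agent.Deform85.LiftSmooth
import Groth.Agent.Deform85.HilbGlue
import Groth.Agent.Def38.AffineSmooth
import Groth.Agent.S9363
import Groth.Agent.S9287
import Groth.Agent.S1607
import Groth.Agent.Curves2.Completion
import Groth.Agent.FlatMor68.KoszulSyntomic
import Groth.Agent.Ega11.SchemeDimFormula

/-!
# Deformations of generically smooth lci curves are unobstructed
-/

set_option autoImplicit false
set_option linter.style.haveILetI false
set_option backward.isDefEq.respectTransparency.types false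

universe u

open CategoryTheory CategoryTheory.Limits AlgebraicGeometry
open ArtFun ArtFun.Art

noncomputable section

namespace Groth.Agent.Deform85.CurveLift

open LiftOpen

/-- Local complete intersections are stable under an isomorphism of the base. -/
theorem isLCI_comp_ringEquiv {k K B : Type u} [CommRing k] [CommRing K] [CommRing B] [Algebra k B] [Algebra K B]
    (e : k ≃+* K) (he : ∀ c, algebraMap k B c = algebraMap K B (e c)) (h : LCI.IsLCI K B) : LCI.IsLCI k B := by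
  obtain ⟨-, n, f, hf, hker⟩ := h
  let g : MvPolynomial (Fin n) k →ₐ[k] B :=
    { f.toRingHom.comp (MvPolynomial.mapEquiv (Fin n) e).toRingHom with
      commutes' := fun c => by
        change f (MvPolynomial.map e.toRingHom (MvPolynomial.C c)) = _
        rw [MvPolynomial.map_C, he]
        exact f.commutes _ }
  have hg : Function.Surjective g := hf.comp (MvPolynomial.mapEquiv (Fin n) e).surjective
  refine ⟨Algebra.FiniteType.of_surjective g hg, n, g, hg, ?_⟩
  rw [show RingHom.ker g.toRingHom = (RingHom.ker f.toRingHom).comap (MvPolynomial.mapEquiv (Fin n) e).toRingHom from rfl]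
  exact (LCI19.isKoszulRegularIdeal_comap_equiv _).2 hker

variable {k : Type u} [Field k] {X : Scheme.{u}} {x : X ⟶ specPt k} {A' A : Art k k}

theorem isNilpotent_kerHom (p : A' ⟶ A) : IsNilpotent (RingHom.ker p.toAlgHom.toRingHom) := by
  obtain ⟨n, hn⟩ := ArtF85.exists_pow_maximalIdeal_eq_bot (A := A')
  refine ⟨n, le_bot_iff.1 (le_trans (Ideal.pow_right_mono (fun b hb => ?_) n) hn.le)⟩
  exact ArtF85.ker_le_maximalIdeal p hb

theorem thickening_i (ξ : DefSch X x A) : MoreMor.IsThickening ξ.i :=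
  ⟨MorphismProperty.of_isPullback ξ.isPullback.flip (HilbGlue.specRes_thickening A).1.1,
    MorphismProperty.of_isPullback (P := @Surjective) ξ.isPullback.flip (HilbGlue.specRes_thickening A).1.2⟩

variable (ξ : DefSch X x A)

theorem fibre_isPullback (O : ξ.total.Opens) :
    IsPullback (ξ.i ∣_ O) ((ξ.i ⁻¹ᵁ O).ι ≫ x) (O.ι ≫ ξ.f) (specRes A) :=
  (isPullback_morphismRestrict ξ.i O).paste_vert ξ.isPullback

theorem affine_lift (hlci : ∀ a : X, Synt.IsSyntomicAt x a) (p : A' ⟶ A) (hp : IsSmallExt p) {W : ξ.total.Opens}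
    (hW : IsAffineOpen W) : Nonempty (LiftOn (specMap p) ξ.f W) := by
  haveI := (thickening_i ξ).1
  have hU : IsAffineOpen (ξ.i ⁻¹ᵁ W) := hW.preimage ξ.i
  let U := ξ.i ⁻¹ᵁ W
  let ρ : CommRingCat.of k ⟶ Γ(X, U) :=
    (Scheme.ΓSpecIso (CommRingCat.of k)).inv ≫ x.appLE ⊤ U le_top
  have hρ : Spec.map ρ = hU.fromSpec ≫ x := by
    rw [Spec.map_comp, ← IsAffineOpen.SpecMap_appLE_fromSpec x (isAffineOpen_top _) hU le_top,
      IsAffineOpen.fromSpec_top, Scheme.isoSpec_Spec_inv]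
  letI : Algebra k Γ(X, U) := ρ.hom.toAlgebra
  have hA : LCI.IsLCI k Γ(X, U) := by
    letI : Algebra Γ(Spec (CommRingCat.of k), ⊤) Γ(X, U) := (x.appLE ⊤ U le_top).hom.toAlgebra
    have h1 : Synt.IsSyntomic Γ(Spec (CommRingCat.of k), ⊤) Γ(X, U) :=
      (S9363.result x).1 hlci ⟨U, hU⟩ ⟨⊤, isAffineOpen_top _⟩ le_top
    exact isLCI_comp_ringEquiv (Scheme.ΓSpecIso (CommRingCat.of k)).commRingCatIsoToRingEquiv.symm
      (fun c => rfl) ((S9287.result _ _).1 h1).2
  have hfib : IsPullback (hU.isoSpec.inv ≫ ξ.i ∣_ W) (Spec.map ρ) (W.ι ≫ ξ.f) (specRes A) := by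
    refine (fibre_isPullback ξ W).of_iso hU.isoSpec (Iso.refl _) (Iso.refl _) (Iso.refl _) ?_ ?_ (by simp) (by simp)
    · simp
    · rw [Iso.refl_hom, Category.comp_id, hρ, ← IsAffineOpen.isoSpec_inv_ι, Category.assoc,
        Iso.hom_inv_id_assoc]
  haveI := ξ.flat
  let ζ : DefSch (Spec (CommRingCat.of Γ(X, U))) (Def38.str k Γ(X, U)) A :=
    ⟨W, W.ι ≫ ξ.f, inferInstance, hU.isoSpec.inv ≫ ξ.i ∣_ W, hfib⟩
  obtain ⟨ζ', ⟨α⟩⟩ := Def38.exists_extension_small p hp hA ζ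
  exact ⟨⟨ζ'.total, ζ'.f, ζ'.flat, α.hom, α.isPullback⟩⟩

theorem smooth_of_fibre {U : X.Opens} (hU : Smooth (U.ι ≫ x)) {O : ξ.total.Opens} (hO : ξ.i ⁻¹ᵁ O ≤ U) :
    Smooth (O.ι ≫ ξ.f) := by
  haveI := ξ.flat
  haveI : Smooth ((ξ.i ⁻¹ᵁ O).ι ≫ x) := by
    rw [← X.homOfLE_ι hO, Category.assoc]
    haveI := hU
    infer_instance
  haveI : Flat ((O.ι ≫ ξ.f) ≫ 𝟙 _) := by rw [Category.comp_id]; infer_instance
  exact (FlatMor66.deform_smooth (f := (ξ.i ⁻¹ᵁ O).ι ≫ x) (f' := O.ι ≫ ξ.f) (g := 𝟙 _) (g' := 𝟙 _)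
    (HilbGlue.specRes_thickening A) (by simpa using fibre_isPullback ξ O) (IsPullback.of_vert_isIso ⟨by simp⟩)
    (fibre_isPullback ξ O).w).1 inferInstance

theorem isAffineOpen_of_le [IsNoetherian X] (hdim : topologicalKrullDim X ≤ 1) {V O : ξ.total.Opens}
    (hV : IsAffineOpen V) (hO : O ≤ V) : IsAffineOpen O := by
  haveI := (thickening_i ξ).1
  haveI := (thickening_i ξ).2
  let V₀ := ξ.i ⁻¹ᵁ V
  have hV₀ : IsAffineOpen V₀ := hV.preimage ξ.i
  haveI : IsAffine (V₀ : Scheme.{u}) := hV₀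
  haveI : CompactSpace (V₀ : Scheme.{u}) := isCompact_iff_compactSpace.1 (TopologicalSpace.NoetherianSpace.isCompact _)
  haveI : IsNoetherian (V₀ : Scheme.{u}) :=
    { toIsLocallyNoetherian := isLocallyNoetherian_of_isOpenImmersion V₀.ι, toCompactSpace := inferInstance }
  have h1 : IsAffineOpen (V₀.ι ⁻¹ᵁ (ξ.i ⁻¹ᵁ O)) := by
    refine S1607.result (V₀ : Scheme.{u}) (fun v => ⟨inferInstance, ?_⟩) _
      (TopologicalSpace.NoetherianSpace.isCompact _)
    exact (ringKrullDim_eq_of_ringEquiv (V₀.stalkIso v).commRingCatIsoToRingEquiv).trans_le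
      ((Ega11.SchemeDimFormula.stalk_dim_le X _).trans hdim)
  have h2 : IsAffineOpen (ξ.i ⁻¹ᵁ O) := by
    have := h1.image_of_isOpenImmersion V₀.ι
    rwa [Scheme.Hom.image_preimage_eq_opensRange_inf, Scheme.Opens.opensRange_ι, inf_eq_right.2 (fun a ha => hO ha)] at this
  haveI : IsAffine ((ξ.i ⁻¹ᵁ O : X.Opens) : Scheme.{u}) := h2
  haveI : IsClosedImmersion (ξ.i ∣_ O) := IsZariskiLocalAtTarget.restrict ‹_› O
  haveI : Surjective (ξ.i ∣_ O) := IsZariskiLocalAtTarget.restrict ‹_› O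
  exact VarGal.isAffine_of_thickening (ξ.i ∣_ O)

theorem lift_sup [IsNoetherian X] (hdim : topologicalKrullDim X ≤ 1) (hlci : ∀ a : X, Synt.IsSyntomicAt x a)
    (p : A' ⟶ A) (hp : IsSmallExt p) {U : X.Opens} (hU : Smooth (U.ι ≫ x)) {W V : ξ.total.Opens}
    (hW : Nonempty (LiftOn (specMap p) ξ.f W)) (hV : IsAffineOpen V) (hWV : ξ.i ⁻¹ᵁ (W ⊓ V) ≤ U) :
    Nonempty (LiftOn (specMap p) ξ.f (W ⊔ V)) := by
  obtain ⟨L⟩ := hW
  obtain ⟨M⟩ := affine_lift ξ hlci p hp hV
  have hS : MoreMor.IsThickening (specMap p) :=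
    (specMap_thickening p.toAlgHom.toRingHom hp.1 (isNilpotent_kerHom p)).1
  obtain ⟨θ⟩ := nonempty_iso_of_smooth p.toAlgHom.toRingHom hp.1 (isNilpotent_kerHom p)
    (isAffineOpen_of_le ξ hdim hV inf_le_right) (smooth_of_fibre ξ hU hWV)
    (res L hS (inf_le_left : W ⊓ V ≤ W)) (res M hS (inf_le_right : W ⊓ V ≤ V))
  exact nonempty_glue L hS M θ

theorem exists_extension [IsNoetherian X] [LocallyOfFiniteType x] (hdim : topologicalKrullDim X ≤ 1)
    (hlci : ∀ a : X, Synt.IsSyntomicAt x a) {U : X.Opens} (hd : Dense (U : Set X)) (hU : Smooth (U.ι ≫ x))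
    (p : A' ⟶ A) (hp : IsSmallExt p) :
    ∃ ξ' : DefSch X x A', Nonempty (Def38.Arrow p ξ' ξ) := by
  haveI := (thickening_i ξ).1
  haveI := (thickening_i ξ).2
  have hUr : Set.range U.ι = (U : Set X) := U.range_ι
  obtain ⟨hfin, hcl⟩ := Curves2.finite_compl_of_dense k x U.ι (hUr.symm ▸ hd)
    ((U.ι.isOpenEmbedding.isEmbedding.isInducing.topologicalKrullDim_le).trans hdim)
  rw [hUr] at hfin hcl
  have key : ∀ T : Finset X, (↑T : Set X) ⊆ (U : Set X)ᶜ → ∃ W : ξ.total.Opens,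
      Nonempty (LiftOn (specMap p) ξ.f W) ∧ (∀ s ∈ T, ξ.i s ∈ W) ∧
        ∀ a : X, ξ.i a ∈ W → a ∈ (U : Set X)ᶜ → a ∈ T := by
    classical
    intro T
    induction T using Finset.induction_on with
    | empty =>
      exact fun _ => ⟨⊥, affine_lift ξ hlci p hp (isAffineOpen_bot _), by simp, fun a ha => ha.elim⟩
    | @insert s T hs ih =>
      intro hT
      rw [Finset.coe_insert, Set.insert_subset_iff] at hT
      obtain ⟨W, hW, hmem, hWT⟩ := ih hT.2
      have hclosed : IsClosed (ξ.i '' ((U : Set X)ᶜ \ {s})) := by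
        refine ξ.i.isClosedEmbedding.isClosedMap _ ?_
        have : (U : Set X)ᶜ \ {s} = ⋃ a ∈ ((U : Set X)ᶜ \ {s}), {a} := (Set.biUnion_of_singleton _).symm
        rw [this]
        exact (hfin.subset Set.sdiff_subset).isClosed_biUnion fun a ha => hcl a ha.1
      obtain ⟨V, hV, hsV, hVsub⟩ := exists_isAffineOpen_mem_and_subset (x := ξ.i s)
        (U := ⟨(ξ.i '' ((U : Set X)ᶜ \ {s}))ᶜ, hclosed.isOpen_compl⟩) (by
          rintro ⟨a, ha, e⟩
          exact ha.2 (ξ.i.isEmbedding.injective e))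
      have hVs : ∀ a : X, ξ.i a ∈ V → a ∈ (U : Set X)ᶜ → a = s := fun a ha haU => by
        by_contra hne
        exact hVsub ha ⟨a, ⟨haU, hne⟩, rfl⟩
      refine ⟨W ⊔ V, lift_sup ξ hdim hlci p hp hU hW hV (fun a ha => ?_), fun t ht => ?_, fun a ha haU => ?_⟩
      · by_contra haU
        obtain rfl := hVs a ha.2 haU
        exact hs (hWT a ha.1 haU)
      · rcases Finset.mem_insert.1 ht with rfl | ht
        · exact Or.inr hsV
        · exact Or.inl (hmem t ht)
      · rcases ha with ha | ha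
        · exact Finset.mem_insert_of_mem (hWT a ha haU)
        · exact (hVs a ha haU) ▸ Finset.mem_insert_self _ _
  obtain ⟨W₀, hW₀, hmem, -⟩ := key hfin.toFinset (fun a ha => by simpa using ha)
  obtain ⟨O, hO⟩ := VarGal.exists_opens ξ.i U
  haveI : CompactSpace ξ.total := ⟨by
    have := CompactSpace.isCompact_univ.image ξ.i.continuous
    rwa [Set.image_univ, Set.range_eq_univ.2 ξ.i.surjective] at this⟩
  obtain ⟨t, ht⟩ := (isCompact_univ (X := ξ.total)).elim_finite_subcover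
    (fun i : Option {V : ξ.total.affineOpens // V.1 ≤ O} => ((i.elim W₀ fun V => V.1.1 : ξ.total.Opens) : Set ξ.total))
    (fun i => TopologicalSpace.Opens.isOpen _) (fun z _ => by
      obtain ⟨a, rfl⟩ := ξ.i.surjective z
      by_cases ha : a ∈ U
      · rw [← hO] at ha
        obtain ⟨V, hV, hzV, hVO⟩ := exists_isAffineOpen_mem_and_subset (x := ξ.i a) (U := O) ha
        exact Set.mem_iUnion.2 ⟨some ⟨⟨V, hV⟩, hVO⟩, hzV⟩
      · exact Set.mem_iUnion.2 ⟨none, hmem a (by simpa using ha)⟩)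
  have grow : ∀ l : List {V : ξ.total.affineOpens // V.1 ≤ O}, ∃ W : ξ.total.Opens,
      Nonempty (LiftOn (specMap p) ξ.f W) ∧ W₀ ≤ W ∧ ∀ V ∈ l, V.1.1 ≤ W := by
    intro l
    induction l with
    | nil => exact ⟨W₀, hW₀, le_rfl, by simp⟩
    | cons V l ih =>
      obtain ⟨W, hW, h0, hl⟩ := ih
      refine ⟨W ⊔ V.1.1, lift_sup ξ hdim hlci p hp hU hW V.1.2 (fun a ha => ?_), h0.trans le_sup_left,
        fun V' hV' => ?_⟩
      · exact hO.le (V.2 ha.2 : ξ.i a ∈ O)
      · rcases List.mem_cons.1 hV' with rfl | hV'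
        · exact le_sup_right
        · exact (hl V' hV').trans le_sup_left
  obtain ⟨W, ⟨L⟩, h0, hl⟩ := grow (t.toList.filterMap id)
  obtain rfl : W = ⊤ := eq_top_iff.2 fun z _ => by
    obtain ⟨i, hi, hz⟩ := Set.mem_iUnion₂.1 (ht (Set.mem_univ z))
    cases i with
    | none => exact h0 hz
    | some V => exact hl V (List.mem_filterMap.2 ⟨some V, Finset.mem_toList.2 hi, rfl⟩) hz
  let c := ξ.total.topIso
  have sq : IsPullback (c.inv ≫ L.j) ξ.f L.g (specMap p) :=
    L.sq.of_iso c (Iso.refl _) (Iso.refl _) (Iso.refl _) (by simp) (by simp [c]) (by simp) (by simp)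
  refine ⟨⟨L.total, L.g, L.flat, ξ.i ≫ c.inv ≫ L.j, ?_⟩, ⟨⟨c.inv ≫ L.j, sq, rfl⟩⟩⟩
  rw [← specRes_comp p]
  exact ξ.isPullback.paste_horiz sq

theorem isSmoothFunctor [IsNoetherian X] [LocallyOfFiniteType x] (hdim : topologicalKrullDim X ≤ 1)
    (hlci : ∀ a : X, Synt.IsSyntomicAt x a) {U : X.Opens} (hd : Dense (U : Set X)) (hU : Smooth (U.ι ≫ x)) :
    IsSmoothFunctor (defFunctor (Λ := k) X x) := by
  intro B A μ hμ
  refine ArtF85.surjective_induction (P := fun _ _ μ => Function.Surjective ((defFunctor (Λ := k) X x).map μ))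
    (fun _ _ g hg => (ArtF85.map_bijective _ g hg).2) (fun C D E g h hg _ ih z => ?_) μ hμ
  obtain ⟨w, rfl⟩ := ih z
  obtain ⟨ξ, rfl⟩ := Quotient.exists_rep w
  obtain ⟨ξ', ⟨α⟩⟩ := exists_extension ξ hdim hlci hd hU g hg
  refine ⟨ξ'.cl, ?_⟩
  rw [← ArtF85.map_map, α.map_cl]
  rfl

end Groth.Agent.Deform85.CurveLift
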