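import Groth.Agent.Deform85.FlatLift
import Mathlib.RingTheory.Kaehler.Polynomial
import Mathlib.RingTheory.Smooth.Kaehler
import Mathlib.Algebra.TrivSqZeroExt.Basic
import Mathlib.Algebra.Polynomial.AlgebraMap
import Mathlib.RingTheory.Polynomial.Basic

/-!
Differentials of flat deformations over `k[t]/(t^(n+1))`.
-/

set_option autoImplicit false
set_option linter.style.haveILetI false

universe u

open TensorProduct Polynomial KaehlerDifferential

namespace Groth.Agent.Deform85.DtSeq

variable {k : Type u} [Field k] [CharZero k] {n : ℕ}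
  {D : Type u} [CommRing D] [Algebra k D] {τ : D}
  (e : (k[X] ⧸ Ideal.span {(X : k[X]) ^ (n + 1)}) ≃ₐ[k] D)
  (he : e (Ideal.Quotient.mk (Ideal.span {(X : k[X]) ^ (n + 1)}) X) = τ)
  {B : Type u} [CommRing B] [Algebra k B] [Algebra D B] [IsScalarTower k D B]
  {t : B} (ht : t = algebraMap D B τ)

include he

theorem exists_poly (d : D) : ∃ p : k[X], aeval τ p = d := by
  obtain ⟨q, rfl⟩ := e.surjective d
  obtain ⟨p, rfl⟩ := Ideal.Quotient.mk_surjective q
  refine ⟨p, ?_⟩
  rw [← he, aeval_algHom_apply]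
  exact congrArg e ((aeval_algHom_apply (Ideal.Quotient.mkₐ k (Ideal.span {(X : k[X]) ^ (n + 1)})) X p).trans
    (congrArg (Ideal.Quotient.mk _) (aeval_X_left_apply p)))

theorem tau_pow : τ ^ (n + 1) = 0 := by
  rw [← he, ← map_pow, ← map_pow, Ideal.Quotient.eq_zero_iff_mem.2 (Ideal.mem_span_singleton_self _), map_zero]

theorem algHom_ext {T : Type*} [CommRing T] [Algebra k T] {f g : D →ₐ[k] T} (h : f τ = g τ) : f = g :=
  AlgHom.ext fun d => by
    obtain ⟨p, rfl⟩ := exists_poly e he d
    rw [← aeval_algHom_apply, ← aeval_algHom_apply, h]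

theorem nontrivialD : Nontrivial D := by
  haveI : Nontrivial (k[X] ⧸ Ideal.span {(X : k[X]) ^ (n + 1)}) := Ideal.Quotient.nontrivial_iff.mpr fun h => by
    rw [Ideal.eq_top_iff_one, Ideal.mem_span_singleton, X_pow_dvd_iff] at h
    simpa using h 0 (Nat.succ_pos n)
  exact e.symm.toEquiv.nontrivial

theorem exists_res (d : D) : ∃ (c : k) (d' : D), d = algebraMap k D c + τ * d' := by
  obtain ⟨p, rfl⟩ := exists_poly e he d
  refine ⟨p.coeff 0, aeval τ p.divX, ?_⟩
  conv_lhs => rw [← X_mul_divX_add p]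
  rw [map_add, map_mul, aeval_X, aeval_C, add_comm]

theorem isUnit_or_mem (d : D) : IsUnit d ∨ d ∈ Ideal.span {τ} := by
  obtain ⟨c, d', rfl⟩ := exists_res e he d
  have hnil : IsNilpotent (τ * d') := ⟨n + 1, by rw [mul_pow, tau_pow e he, zero_mul]⟩
  rcases eq_or_ne c 0 with hc | hc
  · exact Or.inr (by rw [hc, map_zero, zero_add]; exact Ideal.mul_mem_right _ _ (Ideal.mem_span_singleton_self _))
  · exact Or.inl (hnil.isUnit_add_left_of_commute (hc.isUnit.map _) (Commute.all _ _))

theorem isLocalRingD : IsLocalRing D := by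
  haveI := nontrivialD e he
  refine IsLocalRing.of_isUnit_or_isUnit_one_sub_self fun d => ?_
  rcases isUnit_or_mem e he d with h | h
  · exact Or.inl h
  · obtain ⟨d', rfl⟩ := Ideal.mem_span_singleton'.1 h
    exact Or.inr (IsNilpotent.isUnit_one_sub ⟨n + 1, by rw [mul_pow, tau_pow e he, mul_zero]⟩)

theorem isArtinianRingD : IsArtinianRing D := by
  haveI : Module.Finite k (k[X] ⧸ Ideal.span {(X : k[X]) ^ (n + 1)}) := (Polynomial.monic_X_pow _).finite_quotient
  haveI : Module.Finite k D := Module.Finite.equiv e.toLinearEquiv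
  exact IsArtinianRing.of_finite k D

theorem maximalIdeal_eq [IsLocalRing D] : IsLocalRing.maximalIdeal D = Ideal.span {τ} := by
  refine le_antisymm (fun d hd => (isUnit_or_mem e he d).resolve_left ((IsLocalRing.mem_maximalIdeal d).1 hd)) ?_
  rw [Ideal.span_singleton_le_iff_mem]
  exact (IsLocalRing.mem_maximalIdeal τ).2 (IsNilpotent.not_isUnit ⟨n + 1, tau_pow e he⟩)

include ht in
theorem t_pow : t ^ (n + 1) = 0 := by
  rw [ht, ← map_pow, tau_pow e he, map_zero]

include ht in
theorem formallySmooth [Module.Flat D B] (hsm : Algebra.Smooth k (B ⧸ Ideal.span {t})) :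
    Algebra.FormallySmooth D B := by
  haveI := isLocalRingD e he
  haveI := isArtinianRingD e he
  refine Deform85.formallySmooth_of_closedFibre (k := k) (fun d => ?_) ?_
  · obtain ⟨c, d', hd⟩ := exists_res e he d
    refine ⟨c, ?_⟩
    rw [hd, add_sub_cancel_left, maximalIdeal_eq e he]
    exact Ideal.mul_mem_right _ _ (Ideal.mem_span_singleton_self _)
  · rw [maximalIdeal_eq e he, Ideal.map_span, Set.image_singleton, ← ht]
    infer_instance

omit he in
theorem isNilpotent_ker_fst {R M : Type*} [CommRing R] [AddCommGroup M] [Module R M] [Module Rᵐᵒᵖ M]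
    [IsCentralScalar R M] (f : TrivSqZeroExt R M →+* R) (hf : ∀ x, f x = x.fst) : IsNilpotent (RingHom.ker f) := by
  refine ⟨2, ?_⟩
  rw [pow_two, Ideal.zero_eq_bot, eq_bot_iff, Ideal.mul_le]
  intro a ha b hb
  rw [RingHom.mem_ker, hf] at ha hb
  rw [Ideal.mem_bot]
  ext <;> simp [ha, hb]

include ht in
/-- A derivation `B → B/t^n` with `t ↦ 1`. -/
theorem exists_derivation [Module.Flat D B] (hsm : Algebra.Smooth k (B ⧸ Ideal.span {t})) :
    ∃ δ : Derivation k B (B ⧸ Ideal.span {t ^ n}), δ t = 1 := by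
  haveI := formallySmooth e he ht hsm
  let y : (TrivSqZeroExt B (B ⧸ Ideal.span {t ^ n})) := TrivSqZeroExt.inl t + TrivSqZeroExt.inr 1
  have hy : aeval y ((X : k[X]) ^ (n + 1)) = 0 := by
    rw [map_pow, aeval_X]
    ext
    · rw [TrivSqZeroExt.fst_pow, show y.fst = t by simp [y], t_pow e he ht]
      rfl
    · rw [TrivSqZeroExt.snd_pow, show y.fst = t by simp [y], show y.snd = 1 by simp [y], Nat.pred_succ,
        ← Algebra.algebraMap_eq_smul_one, Ideal.Quotient.algebraMap_eq,
        Ideal.Quotient.eq_zero_iff_mem.2 (Ideal.mem_span_singleton_self _), smul_zero]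
      rfl
  let hD : D →ₐ[k] (TrivSqZeroExt B (B ⧸ Ideal.span {t ^ n})) := (Ideal.Quotient.liftₐ _ (aeval y) fun p hp => by
    obtain ⟨q, rfl⟩ := Ideal.mem_span_singleton'.1 hp
    rw [map_mul, hy, mul_zero]).comp (e.symm : D →ₐ[k] _)
  have hDτ : hD τ = y := by
    rw [← he]
    simp only [hD, AlgHom.comp_apply, AlgEquiv.coe_toAlgHom, AlgEquiv.symm_apply_apply]
    exact aeval_X y
  letI : Algebra D (TrivSqZeroExt B (B ⧸ Ideal.span {t ^ n})) := hD.toRingHom.toAlgebra
  have hfst : (TrivSqZeroExt.fstHom k B (B ⧸ Ideal.span {t ^ n})).comp hD = IsScalarTower.toAlgHom k D B :=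
    algHom_ext e he (by
      rw [AlgHom.comp_apply, hDτ, IsScalarTower.coe_toAlgHom', ← ht]
      change y.fst = t
      simp [y])
  let fstD : (TrivSqZeroExt B (B ⧸ Ideal.span {t ^ n})) →ₐ[D] B :=
    { (TrivSqZeroExt.fstHom k B (B ⧸ Ideal.span {t ^ n})).toRingHom with commutes' := fun d => AlgHom.congr_fun hfst d }
  have hsurj : Function.Surjective fstD := fun b => ⟨TrivSqZeroExt.inl b, TrivSqZeroExt.fst_inl (B ⧸ Ideal.span {t ^ n}) b⟩
  have hnil : IsNilpotent (RingHom.ker (fstD : (TrivSqZeroExt B (B ⧸ Ideal.span {t ^ n})) →+* B)) :=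
    isNilpotent_ker_fst _ fun _ => rfl
  let L : B →ₐ[D] (TrivSqZeroExt B (B ⧸ Ideal.span {t ^ n})) := Algebra.FormallySmooth.liftOfSurjective (AlgHom.id D B) fstD hsurj hnil
  have hL : ∀ b, (L b).fst = b := fun b =>
    Algebra.FormallySmooth.liftOfSurjective_apply (AlgHom.id D B) fstD hsurj hnil b
  have hLk : ∀ c : k, L (algebraMap k B c) = algebraMap k (TrivSqZeroExt B (B ⧸ Ideal.span {t ^ n})) c := fun c => by
    rw [IsScalarTower.algebraMap_apply k D B, L.commutes]
    exact hD.commutes c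
  let δ₀ : B →ₗ[k] (B ⧸ Ideal.span {t ^ n}) :=
    { toFun := fun b => (L b).snd
      map_add' := fun a b => by rw [map_add, TrivSqZeroExt.snd_add]
      map_smul' := fun c b => by
        rw [Algebra.smul_def, map_mul, hLk, ← Algebra.smul_def, TrivSqZeroExt.snd_smul]
        rfl }
  refine ⟨Derivation.mk' δ₀ fun a b => ?_, ?_⟩
  · change (L (a * b)).snd = a • (L b).snd + b • (L a).snd
    rw [map_mul, TrivSqZeroExt.snd_mul, hL, hL, op_smul_eq_smul]
  · change (L t).snd = 1
    rw [show L t = hD τ from (congrArg L ht).trans (L.commutes τ), hDτ]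
    simp [y]

include ht in
/-- The kernel of `Ω[B/k] → Ω[B/D]` is spanned by `dt`. -/
theorem exact_dt : Function.Exact (LinearMap.toSpanSingleton B Ω[B⁄k] (KaehlerDifferential.D k B t))
    (KaehlerDifferential.map k D B B) := by
  intro ω
  constructor
  · intro hω
    obtain ⟨z, rfl⟩ := (KaehlerDifferential.exact_mapBaseChange_map k D B ω).1 hω
    let S : Submodule B Ω[B⁄k] := LinearMap.range (LinearMap.toSpanSingleton B Ω[B⁄k] (KaehlerDifferential.D k B t))
    suffices h : ∀ d : D, KaehlerDifferential.D k B (algebraMap D B d) ∈ S by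
      have hω' : ∀ η : Ω[D⁄k], KaehlerDifferential.map k k D B η ∈ S := fun η => by
        have hη : η ∈ Submodule.span D (Set.range (KaehlerDifferential.D k D)) := by
          rw [KaehlerDifferential.span_range_derivation]; exact Submodule.mem_top
        induction hη using Submodule.span_induction with
        | mem η hη =>
          obtain ⟨d, rfl⟩ := hη
          rw [KaehlerDifferential.map_D]
          exact h d
        | zero => rw [map_zero]; exact zero_mem _
        | add a b _ _ ha hb => rw [map_add]; exact add_mem ha hb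
        | smul r a _ ha =>
          rw [LinearMap.map_smul, ← algebraMap_smul B r]
          exact S.smul_mem _ ha
      clear hω
      change KaehlerDifferential.mapBaseChange k D B z ∈ S
      induction z using TensorProduct.induction_on with
      | zero => rw [map_zero]; exact zero_mem _
      | tmul b η =>
        rw [KaehlerDifferential.mapBaseChange_tmul]
        exact S.smul_mem b (hω' η)
      | add a b ha hb =>
        rw [map_add]
        exact add_mem ha hb
    intro d
    obtain ⟨p, rfl⟩ := exists_poly e he d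
    rw [← aeval_algebraMap_apply, ← ht, Derivation.map_aeval]
    exact ⟨_, rfl⟩
  · rintro ⟨b, rfl⟩
    rw [LinearMap.toSpanSingleton_apply, map_smul, KaehlerDifferential.map_D, ht, Algebra.algebraMap_self,
      RingHom.id_apply, Derivation.map_algebraMap, smul_zero]

omit he in
theorem split_smul {R M N : Type*} [Ring R] [AddCommGroup M] [Module R M] [AddCommGroup N] [Module R N]
    (v : M) (r : M →ₗ[R] R) (hr : r v = 1) (f : M →ₗ[R] N)
    (hf : Function.Exact (LinearMap.toSpanSingleton R M v) f) :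
    Function.Injective (r.prod f) := by
  intro a b hab
  obtain ⟨h1, h2⟩ := Prod.ext_iff.1 hab
  change r a = r b at h1
  change f a = f b at h2
  obtain ⟨c, hc⟩ := (hf (a - b)).1 (by rw [map_sub, h2, sub_self])
  rw [LinearMap.toSpanSingleton_apply] at hc
  have : c = 0 := by
    have := congrArg r hc
    rwa [map_smul, hr, smul_eq_mul, mul_one, map_sub, h1, sub_self] at this
  rw [this, zero_smul] at hc
  exact sub_eq_zero.1 hc.symm

include ht in
theorem sequence [Module.Flat D B] (hsm : Algebra.Smooth k (B ⧸ Ideal.span {t})) :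
    Module.Projective B (Ω[B⁄D]) ∧
    Module.Projective (B ⧸ Ideal.span {t ^ n}) ((B ⧸ Ideal.span {t ^ n}) ⊗[B] Ω[B⁄k]) ∧
    Function.Injective
      (LinearMap.toSpanSingleton (B ⧸ Ideal.span {t ^ n}) ((B ⧸ Ideal.span {t ^ n}) ⊗[B] Ω[B⁄k])
        ((1 : (B ⧸ Ideal.span {t ^ n})) ⊗ₜ[B] KaehlerDifferential.D k B t)) ∧
    Function.Exact
      (LinearMap.toSpanSingleton (B ⧸ Ideal.span {t ^ n}) ((B ⧸ Ideal.span {t ^ n}) ⊗[B] Ω[B⁄k])
        ((1 : (B ⧸ Ideal.span {t ^ n})) ⊗ₜ[B] KaehlerDifferential.D k B t))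
      (LinearMap.baseChange (B ⧸ Ideal.span {t ^ n}) (KaehlerDifferential.map k D B B)) ∧
    Function.Surjective (LinearMap.baseChange (B ⧸ Ideal.span {t ^ n}) (KaehlerDifferential.map k D B B)) := by
  haveI := formallySmooth e he ht hsm
  obtain ⟨δ, hδ⟩ := exists_derivation e he ht hsm
  let B' := B ⧸ Ideal.span {t ^ n}
  let v : B' ⊗[B] Ω[B⁄k] := (1 : B') ⊗ₜ[B] KaehlerDifferential.D k B t
  let f := LinearMap.baseChange B' (KaehlerDifferential.map k D B B)
  let r : B' ⊗[B] Ω[B⁄k] →ₗ[B'] B' := δ.liftKaehlerDifferential.liftBaseChange B'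
  have hr : r v = 1 := by simp [r, v, hδ]
  have hproj : Module.Projective B Ω[B⁄D] := Algebra.FormallySmooth.projective_kaehlerDifferential
  have hsurj : Function.Surjective f :=
    LinearMap.lTensor_surjective B' (KaehlerDifferential.map_surjective k D B)
  have hex : Function.Exact (LinearMap.toSpanSingleton B' _ v) f := by
    intro z
    have h0 := lTensor_exact B' (exact_dt e he ht) (KaehlerDifferential.map_surjective k D B)
    constructor
    · intro hz
      obtain ⟨w, rfl⟩ := (h0 z).1 hz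
      obtain ⟨c, rfl⟩ := (TensorProduct.rid B B').symm.surjective w
      exact ⟨c, by simp [v, smul_tmul']⟩
    · rintro ⟨c, rfl⟩
      rw [LinearMap.toSpanSingleton_apply, map_smul]
      rw [show f v = (1 : B') ⊗ₜ[B] KaehlerDifferential.map k D B B (KaehlerDifferential.D k B t) from rfl,
        (exact_dt e he ht _).2 ⟨1, one_smul _ _⟩, tmul_zero, smul_zero]
  have hinj : Function.Injective (LinearMap.toSpanSingleton B' _ v) := fun a b h => by
    have := congrArg r h
    rwa [LinearMap.toSpanSingleton_apply, LinearMap.toSpanSingleton_apply, map_smul, map_smul, hr,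
      smul_eq_mul, smul_eq_mul, mul_one, mul_one] at this
  refine ⟨hproj, ?_, hinj, hex, hsurj⟩
  haveI := hproj
  haveI : Module.Projective B' (B' ⊗[B] Ω[B⁄D]) := inferInstance
  have hbij : Function.Bijective (r.prod f) := by
    refine ⟨split_smul v r hr f hex, fun p => ?_⟩
    obtain ⟨z, hz⟩ := hsurj p.2
    refine ⟨z + (p.1 - r z) • v, Prod.ext ?_ ?_⟩
    · change r (z + (p.1 - r z) • v) = p.1
      rw [map_add, map_smul, hr, smul_eq_mul, mul_one, add_sub_cancel]
    · change f (z + (p.1 - r z) • v) = p.2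
      rw [map_add, map_smul, (hex v).2 ⟨1, one_smul _ _⟩, smul_zero, add_zero, hz]
  exact Module.Projective.of_equiv (LinearEquiv.ofBijective _ hbij).symm

include ht in
theorem mu_injective_range [Module.Flat D B] (hn : 1 ≤ n) (hsm : Algebra.Smooth k (B ⧸ Ideal.span {t})) :
    Function.Injective (fun f : B =>
      ((Ideal.Quotient.mk (Ideal.span {t ^ n}) f,
        (1 : (B ⧸ Ideal.span {t ^ n})) ⊗ₜ[B] KaehlerDifferential.D k B f) : (B ⧸ Ideal.span {t ^ n}) × ((B ⧸ Ideal.span {t ^ n}) ⊗[B] Ω[B⁄k]))) ∧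
    Set.range (fun f : B =>
      ((Ideal.Quotient.mk (Ideal.span {t ^ n}) f,
        (1 : (B ⧸ Ideal.span {t ^ n})) ⊗ₜ[B] KaehlerDifferential.D k B f) : (B ⧸ Ideal.span {t ^ n}) × ((B ⧸ Ideal.span {t ^ n}) ⊗[B] Ω[B⁄k]))) =
      {p | KaehlerDifferential.D k (B ⧸ Ideal.span {t ^ n}) p.1 = KaehlerDifferential.mapBaseChange k B (B ⧸ Ideal.span {t ^ n}) p.2} := by
  obtain ⟨δ, hδ⟩ := exists_derivation e he ht hsm
  have hinj0 : ∀ f : B, f ∈ Ideal.span {t ^ n} →
      (1 : (B ⧸ Ideal.span {t ^ n})) ⊗ₜ[B] KaehlerDifferential.D k B f = 0 → f = 0 := fun f hf h => by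
    obtain ⟨g, rfl⟩ := Ideal.mem_span_singleton'.1 hf
    have h1 := congrArg (δ.liftKaehlerDifferential.liftBaseChange (B ⧸ Ideal.span {t ^ n})) h
    rw [map_zero, LinearMap.liftBaseChange_tmul, one_smul, Derivation.liftKaehlerDifferential_comp_D,
      Derivation.leibniz, Derivation.leibniz_pow, hδ] at h1
    have hkey : (g * (n : B) * t ^ (n - 1) : B) ∈ Ideal.span {t ^ n} := by
      rw [← Ideal.Quotient.eq_zero_iff_mem, ← h1]
      have hz : (t ^ n) • δ g = 0 := by
        rw [← algebraMap_smul (B ⧸ Ideal.span {t ^ n}) (t ^ n), Ideal.Quotient.algebraMap_eq,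
          Ideal.Quotient.eq_zero_iff_mem.2 (Ideal.mem_span_singleton_self _), zero_smul]
      rw [hz, add_zero]
      simp only [Algebra.smul_def, Ideal.Quotient.algebraMap_eq, nsmul_eq_mul, mul_one, map_mul, map_natCast, eq_natCast]
      ring
    obtain ⟨c, hc⟩ := Ideal.mem_span_singleton'.1 hkey
    have ht1 : t ^ (n - 1) * t = t ^ n := by rw [← pow_succ, Nat.sub_add_cancel hn]
    have h2 : (n : B) * (g * t ^ n) = 0 := by
      calc (n : B) * (g * t ^ n) = g * (n : B) * t ^ (n - 1) * t := by rw [← ht1]; ring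
        _ = c * t ^ n * t := by rw [hc]
        _ = c * t ^ (n + 1) := by ring
        _ = 0 := by rw [t_pow e he ht, mul_zero]
    have hu : IsUnit (n : B) := by
      rw [← map_natCast (algebraMap k B) n]
      exact (Nat.cast_ne_zero.2 (by omega : n ≠ 0)).isUnit.map _
    exact hu.mul_right_eq_zero.1 h2
  refine ⟨fun f g h => ?_, Set.ext fun p => ?_⟩
  · obtain ⟨h1, h2⟩ := Prod.ext_iff.1 h
    exact sub_eq_zero.1 (hinj0 _ (Ideal.Quotient.eq.1 h1) (by rw [map_sub, tmul_sub, sub_eq_zero]; exact h2))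
  constructor
  · rintro ⟨f, rfl⟩
    change KaehlerDifferential.D k _ _ = KaehlerDifferential.mapBaseChange k B _ _
    rw [KaehlerDifferential.mapBaseChange_tmul, one_smul, KaehlerDifferential.map_D]
    rfl
  · obtain ⟨g, α⟩ := p
    intro hp
    change KaehlerDifferential.D k _ g = KaehlerDifferential.mapBaseChange k B _ α at hp
    obtain ⟨f, rfl⟩ := Ideal.Quotient.mk_surjective g
    have hk : KaehlerDifferential.mapBaseChange k B (B ⧸ Ideal.span {t ^ n})
        (α - (1 : (B ⧸ Ideal.span {t ^ n})) ⊗ₜ[B] KaehlerDifferential.D k B f) = 0 := by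
      rw [map_sub, ← hp, KaehlerDifferential.mapBaseChange_tmul, one_smul, KaehlerDifferential.map_D]
      exact sub_self _
    obtain ⟨i, hi⟩ := (KaehlerDifferential.exact_kerCotangentToTensor_mapBaseChange k B
      (B ⧸ Ideal.span {t ^ n}) Ideal.Quotient.mk_surjective _).1 hk
    obtain ⟨i, rfl⟩ := Ideal.toCotangent_surjective _ i
    rw [KaehlerDifferential.kerCotangentToTensor_toCotangent] at hi
    refine ⟨f + (i : B), Prod.ext ?_ ?_⟩
    · change Ideal.Quotient.mk _ (f + (i : B)) = Ideal.Quotient.mk _ f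
      rw [map_add, show Ideal.Quotient.mk _ (i : B) = 0 from i.2, add_zero]
    · change _ ⊗ₜ[B] KaehlerDifferential.D k B (f + (i : B)) = α
      rw [map_add, tmul_add, hi, add_sub_cancel]

include ht in
theorem nu_injective_range [Module.Flat D B] (hsm : Algebra.Smooth k (B ⧸ Ideal.span {t})) :
    Function.Injective (fun η : Ω[B⁄k] =>
      ((KaehlerDifferential.map k D B B η, (1 : (B ⧸ Ideal.span {t ^ n})) ⊗ₜ[B] η) : Ω[B⁄D] × ((B ⧸ Ideal.span {t ^ n}) ⊗[B] Ω[B⁄k]))) ∧
    Set.range (fun η : Ω[B⁄k] =>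
      ((KaehlerDifferential.map k D B B η, (1 : (B ⧸ Ideal.span {t ^ n})) ⊗ₜ[B] η) : Ω[B⁄D] × ((B ⧸ Ideal.span {t ^ n}) ⊗[B] Ω[B⁄k]))) =
      {p | KaehlerDifferential.map D D B (B ⧸ Ideal.span {t ^ n}) p.1 =
        KaehlerDifferential.map k D (B ⧸ Ideal.span {t ^ n}) (B ⧸ Ideal.span {t ^ n}) (KaehlerDifferential.mapBaseChange k B (B ⧸ Ideal.span {t ^ n}) p.2)} := by
  obtain ⟨-, -, hinj, hex, -⟩ := sequence e he ht hsm
  have hzero : t ^ n • KaehlerDifferential.D k B t = 0 := by
    have h1 := congrArg (KaehlerDifferential.D k B) (t_pow e he ht)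
    rw [Derivation.leibniz_pow, map_zero, Nat.add_sub_cancel, ← Nat.cast_smul_eq_nsmul k] at h1
    exact (smul_eq_zero.1 h1).resolve_left (Nat.cast_ne_zero.2 (Nat.succ_ne_zero n))
  have hkerinj : ∀ z : (B ⧸ Ideal.span {t ^ n}) ⊗[B] Ω[B⁄k],
      KaehlerDifferential.map k D (B ⧸ Ideal.span {t ^ n}) (B ⧸ Ideal.span {t ^ n})
        (KaehlerDifferential.mapBaseChange k B (B ⧸ Ideal.span {t ^ n}) z) =
      KaehlerDifferential.mapBaseChange D B (B ⧸ Ideal.span {t ^ n})
        (LinearMap.baseChange (B ⧸ Ideal.span {t ^ n}) (KaehlerDifferential.map k D B B) z) := by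
    intro z
    induction z using TensorProduct.induction_on with
    | zero => simp
    | tmul b η =>
      rw [LinearMap.baseChange_tmul, KaehlerDifferential.mapBaseChange_tmul, KaehlerDifferential.mapBaseChange_tmul,
        map_smul]
      congr 1
      have hη : η ∈ Submodule.span B (Set.range (KaehlerDifferential.D k B)) := by
        rw [KaehlerDifferential.span_range_derivation]; exact Submodule.mem_top
      induction hη using Submodule.span_induction with
      | mem η hη => obtain ⟨a, rfl⟩ := hη; simp [KaehlerDifferential.map_D]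
      | zero => simp
      | add a b _ _ ha hb => simp only [map_add, ha, hb]
      | smul r a _ ha => simp only [map_smul, LinearMap.map_smul_of_tower, ha]
    | add a b ha hb => simp only [map_add, ha, hb]
  have hinjD : Function.Injective (KaehlerDifferential.mapBaseChange D B (B ⧸ Ideal.span {t ^ n})) := by
    rw [injective_iff_map_eq_zero]
    intro z hz
    obtain ⟨i, rfl⟩ := (KaehlerDifferential.exact_kerCotangentToTensor_mapBaseChange D B
      (B ⧸ Ideal.span {t ^ n}) Ideal.Quotient.mk_surjective _).1 hz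
    obtain ⟨i, rfl⟩ := Ideal.toCotangent_surjective _ i
    rw [KaehlerDifferential.kerCotangentToTensor_toCotangent]
    obtain ⟨g, hg⟩ := Ideal.mem_span_singleton'.1 (Ideal.Quotient.eq_zero_iff_mem.1 (show
      Ideal.Quotient.mk (Ideal.span {t ^ n}) (i : B) = 0 from i.2))
    rw [← hg, Derivation.leibniz, ht, ← map_pow, Derivation.map_algebraMap, smul_zero, zero_add, tmul_smul,
      smul_tmul', map_pow, ← ht, ← algebraMap_smul (B ⧸ Ideal.span {t ^ n}) (t ^ n), Ideal.Quotient.algebraMap_eq,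
      Ideal.Quotient.eq_zero_iff_mem.2 (Ideal.mem_span_singleton_self _), zero_smul, zero_tmul]
  refine ⟨fun η η' h => ?_, Set.ext fun p => ?_⟩
  · obtain ⟨h1, h2⟩ := Prod.ext_iff.1 h
    obtain ⟨b, hb⟩ := (exact_dt e he ht (η - η')).1 (by rw [map_sub, sub_eq_zero]; exact h1)
    rw [LinearMap.toSpanSingleton_apply] at hb
    have h3 : LinearMap.toSpanSingleton (B ⧸ Ideal.span {t ^ n}) _
        ((1 : (B ⧸ Ideal.span {t ^ n})) ⊗ₜ[B] KaehlerDifferential.D k B t) (Ideal.Quotient.mk _ b) =
        LinearMap.toSpanSingleton (B ⧸ Ideal.span {t ^ n}) _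
        ((1 : (B ⧸ Ideal.span {t ^ n})) ⊗ₜ[B] KaehlerDifferential.D k B t) 0 := by
      rw [map_zero, LinearMap.toSpanSingleton_apply, ← Ideal.Quotient.algebraMap_eq, algebraMap_smul, ← tmul_smul,
        hb, tmul_sub, sub_eq_zero]
      exact h2
    obtain ⟨c, hc⟩ := Ideal.mem_span_singleton'.1 (Ideal.Quotient.eq_zero_iff_mem.1 (hinj h3))
    rw [← hc, mul_smul, hzero, smul_zero] at hb
    exact sub_eq_zero.1 hb.symm
  constructor
  · rintro ⟨η, rfl⟩
    change KaehlerDifferential.map D D B _ (KaehlerDifferential.map k D B B η) = _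
    rw [hkerinj, LinearMap.baseChange_tmul, KaehlerDifferential.mapBaseChange_tmul, one_smul]
  · obtain ⟨α, β⟩ := p
    intro hp
    change KaehlerDifferential.map D D B _ α = _ at hp
    obtain ⟨η₀, rfl⟩ := KaehlerDifferential.map_surjective k D B α
    have hk : LinearMap.baseChange (B ⧸ Ideal.span {t ^ n}) (KaehlerDifferential.map k D B B)
        (β - (1 : (B ⧸ Ideal.span {t ^ n})) ⊗ₜ[B] η₀) = 0 := by
      apply hinjD
      rw [map_zero, map_sub, map_sub, ← hkerinj, ← hp, LinearMap.baseChange_tmul,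
        KaehlerDifferential.mapBaseChange_tmul, one_smul, sub_self]
    obtain ⟨b, hb⟩ := (hex _).1 hk
    obtain ⟨b, rfl⟩ := Ideal.Quotient.mk_surjective b
    refine ⟨η₀ + b • KaehlerDifferential.D k B t, Prod.ext ?_ ?_⟩
    · change KaehlerDifferential.map k D B B _ = KaehlerDifferential.map k D B B η₀
      rw [map_add, (exact_dt e he ht (b • KaehlerDifferential.D k B t)).2 ⟨b, rfl⟩, add_zero]
    · change _ ⊗ₜ[B] (η₀ + b • KaehlerDifferential.D k B t) = β
      rw [tmul_add, tmul_smul, ← algebraMap_smul (B ⧸ Ideal.span {t ^ n}) b, Ideal.Quotient.algebraMap_eq]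
      rw [LinearMap.toSpanSingleton_apply] at hb
      rw [hb, add_sub_cancel]

end Groth.Agent.Deform85.DtSeq
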