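import Mathlib.Algebra.DualNumber
import Mathlib.Algebra.TrivSqZeroExt.Basic
import Mathlib.RingTheory.Derivation.Basic
import Mathlib.RingTheory.Smooth.Basic
import Mathlib.RingTheory.Kaehler.Basic
import Mathlib.RingTheory.Ideal.Quotient.Operations

/-!
Automorphisms of dual numbers which are the identity modulo `ε`, and derivations.
-/

universe u v

open TrivSqZeroExt

namespace Groth.Agent.Deform85.DualAut

variable {k : Type u} [CommRing k] {A : Type u} [CommRing A] [Algebra k A]

/-- `a + bε ↦ a + (D a + b)ε`. -/
def aut (D : Derivation k A A) : DualNumber A ≃ₐ[k] DualNumber A :=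
  let g : DualNumber A → DualNumber A := fun x => inl x.fst + inr (D x.fst + x.snd)
  AlgEquiv.ofLinearEquiv
    { toFun := g
      invFun := fun x => inl x.fst + inr (x.snd - D x.fst)
      map_add' := fun x y => by ext <;> simp [g]; ring
      map_smul' := fun c x => by ext <;> simp [g]
      left_inv := fun x => by ext <;> simp [g]
      right_inv := fun x => by ext <;> simp [g] }
    (by ext <;> simp [g])
    (fun x y => by
      ext
      · simp [g]
      · simp [g, Derivation.leibniz]; ring)

@[simp] lemma fst_aut (D : Derivation k A A) (x : DualNumber A) : (aut D x).fst = x.fst := by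
  simp [aut]

@[simp] lemma snd_aut (D : Derivation k A A) (x : DualNumber A) :
    (aut D x).snd = D x.fst + x.snd := by
  simp [aut]

lemma aut_eps (D : Derivation k A A) : aut D DualNumber.eps = DualNumber.eps := by
  ext <;> simp

variable (φ : DualNumber A ≃ₐ[k] DualNumber A) (hε : φ DualNumber.eps = DualNumber.eps)
  (hfst : ∀ x, (φ x).fst = x.fst)

include hfst in
lemma map_inl (a : A) : φ (inl a) = inl a + inr ((φ (inl a)).snd) := by
  ext <;> simp [hfst]

/-- The derivation of an automorphism. -/
def der : Derivation k A A :=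
  Derivation.mk'
    { toFun := fun a => (φ (inl a : DualNumber A)).snd
      map_add' := fun a b => by rw [inl_add, map_add, snd_add]
      map_smul' := fun c a => by rw [RingHom.id_apply, inl_smul, map_smul, snd_smul] }
    (fun a b => by
      simp only [LinearMap.coe_mk, AddHom.coe_mk]
      rw [inl_mul, map_mul, DualNumber.snd_mul, hfst, hfst, fst_inl, fst_inl]
      simp only [smul_eq_mul]
      ring)

@[simp] lemma der_apply (a : A) : der φ hfst a = (φ (inl a : DualNumber A)).snd := rfl

include hε hfst in
lemma snd_apply (x : DualNumber A) : (φ x).snd = der φ hfst x.fst + x.snd := by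
  have h : x = inl x.fst + inl x.snd * DualNumber.eps := by ext <;> simp
  conv_lhs => rw [h]
  rw [map_add, map_mul, hε, snd_add, DualNumber.snd_mul, der_apply, hfst, fst_inl]
  simp

/-- Derivations into `A` killed by given maps, versus marked automorphisms. -/
noncomputable def markedEquiv {ι : Type v} {k : Type u} [Field k] {A : Type u} [CommRing A]
    [Algebra k A] (q : ι → (A →ₐ[k] k)) :
    {φ : DualNumber A ≃ₐ[k] DualNumber A //
        φ DualNumber.eps = DualNumber.eps ∧ (∀ x, (φ x).fst = x.fst) ∧
          ∀ i x, q i (φ x).snd = q i x.snd} ≃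
      {D : Derivation k A A // ∀ i a, q i (D a) = 0} where
  toFun φ := ⟨der φ.1 φ.2.2.1, fun i a => by rw [der_apply, φ.2.2.2]; simp⟩
  invFun D := ⟨aut D.1, aut_eps D.1, fst_aut D.1, fun i x => by
    rw [snd_aut, map_add, D.2, zero_add]⟩
  left_inv φ := by
    apply Subtype.ext
    apply AlgEquiv.ext
    intro x
    ext
    · simp [φ.2.2.1]
    · simp [snd_apply φ.1 φ.2.1 φ.2.2.1 x]
  right_inv D := by
    apply Subtype.ext
    ext a
    simp

/-- Moving lifts of distinct points to the trivial lifts. -/
theorem exists_aut_moving {k : Type u} [Field k] {A : Type u} [CommRing A] [Algebra k A]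
    [Algebra.FormallySmooth k A]
    {ι : Type v} [Finite ι] (q : ι → (A →ₐ[k] k)) (hq : Function.Injective q)
    (q' : ι → (DualNumber A →ₐ[k] DualNumber k))
    (hε : ∀ i, q' i DualNumber.eps = DualNumber.eps) (hq' : ∀ i x, (q' i x).fst = q i x.fst) :
    ∃ φ : DualNumber A ≃ₐ[k] DualNumber A,
      φ DualNumber.eps = DualNumber.eps ∧ (∀ x, (φ x).fst = x.fst) ∧
        ∀ i x, (q' i (φ x)).fst = q i x.fst ∧ (q' i (φ x)).snd = q i x.snd := by
  letI : Module A (ι → k) := Module.compHom (ι → k) (Pi.ringHom fun i => (q i).toRingHom)
  have hsmul : ∀ (a : A) (v : ι → k) (i : ι), (a • v) i = q i a * v i := fun _ _ _ => rfl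
  haveI : IsScalarTower k A (ι → k) := ⟨fun c a v => funext fun i => by
    rw [Pi.smul_apply, hsmul, hsmul, map_smul, smul_eq_mul, smul_eq_mul, mul_assoc]⟩
  have hsurj : Function.Surjective (LinearMap.toSpanSingleton A (ι → k) 1) := by
    intro v
    have hcop : Pairwise fun i j => IsCoprime (RingHom.ker (q i)) (RingHom.ker (q j)) := by
      intro i j hij
      have hmi := RingHom.ker_isMaximal_of_surjective (q i)
        (fun c => ⟨algebraMap k A c, (q i).commutes c⟩)
      have hmj := RingHom.ker_isMaximal_of_surjective (q j)
        (fun c => ⟨algebraMap k A c, (q j).commutes c⟩)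
      rw [Ideal.isCoprime_iff_sup_eq]
      refine hmi.coprime_of_ne hmj fun h => hij (hq (AlgHom.ext fun a => ?_))
      have hmem : a - algebraMap k A (q i a) ∈ RingHom.ker (q i) := by
        simp [RingHom.mem_ker]
      rw [h, RingHom.mem_ker, map_sub, AlgHom.commutes, sub_eq_zero] at hmem
      simpa using hmem.symm
    obtain ⟨a, ha⟩ := Ideal.exists_forall_sub_mem_ideal hcop (fun i => algebraMap k A (v i))
    refine ⟨a, funext fun i => ?_⟩
    have := ha i
    rw [RingHom.mem_ker, map_sub, AlgHom.commutes, sub_eq_zero] at this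
    rw [LinearMap.toSpanSingleton_apply, hsmul, Pi.one_apply, mul_one, this]
    rfl
  let d : Derivation k A (ι → k) := Derivation.mk'
    { toFun := fun a i => -(q' i (inl a : DualNumber A)).snd
      map_add' := fun a b => funext fun i => by
        simp only [inl_add, map_add, snd_add, Pi.add_apply, neg_add]
      map_smul' := fun c a => funext fun i => by
        simp only [inl_smul, map_smul, snd_smul, Pi.smul_apply, RingHom.id_apply, smul_neg] }
    (fun a b => funext fun i => by
      rw [Pi.add_apply, hsmul, hsmul]
      simp only [LinearMap.coe_mk, AddHom.coe_mk]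
      rw [inl_mul, map_mul, DualNumber.snd_mul, hq', hq', fst_inl, fst_inl]
      ring)
  obtain ⟨h, hh⟩ := Module.projective_lifting_property (LinearMap.toSpanSingleton A (ι → k) 1)
    d.liftKaehlerDifferential hsurj
  let D : Derivation k A A := h.compDer (KaehlerDifferential.D k A)
  have hD : ∀ i a, q i (D a) = -(q' i (inl a : DualNumber A)).snd := by
    intro i a
    have := congrFun (LinearMap.congr_fun hh (KaehlerDifferential.D k A a)) i
    rw [LinearMap.comp_apply, Derivation.liftKaehlerDifferential_comp_D,
      LinearMap.toSpanSingleton_apply, hsmul, Pi.one_apply, mul_one] at this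
    exact this
  refine ⟨aut D, aut_eps D, fst_aut D, fun i x => ⟨by rw [hq', fst_aut], ?_⟩⟩
  have h2 : aut D x = inl x.fst + inl (D x.fst + x.snd) * DualNumber.eps := by ext <;> simp
  rw [h2, map_add, map_mul, hε, snd_add, DualNumber.snd_mul, hq', fst_inl, map_add, hD]
  simp

end Groth.Agent.Deform85.DualAut
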