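import Groth.Prelude.Def_Exal
import Mathlib.RingTheory.Noetherian.Basic
import Mathlib.RingTheory.Polynomial.Basic
import Mathlib.RingTheory.LocalRing.RingHom.Basic
import Mathlib.RingTheory.Ideal.Quotient.Operations
import Mathlib.Algebra.MvPolynomial.Degrees
import Mathlib.Algebra.Polynomial.BigOperators
import Mathlib.Tactic.LinearCombination

/-!
An extension of a Noetherian local ring by a module killed by the maximal ideal is determined by
a quotient by a uniformly bounded power of the maximal ideal.
-/

set_option autoImplicit false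

universe u v w

namespace Groth.Agent.Deform85.ExArtin

open Exal IsLocalRing Polynomial

variable {A : Type u} {R L : Type v} [CommRing A] [CommRing R] [Algebra A R] [AddCommGroup L]
  [Module R L]

lemma proj_incl (X : Ext A R L) (z : L) : X.proj (X.incl z) = 0 :=
  (X.isExtension.exact _).2 ⟨z, rfl⟩

variable [IsLocalRing R]

lemma mul_incl_eq_zero (hL : ∀ r ∈ maximalIdeal R, ∀ z : L, r • z = 0) (X : Ext A R L) {y : X.E}
    (hy : X.proj y ∈ maximalIdeal R) (z : L) : y * X.incl z = 0 := by
  rw [X.isExtension.mul_incl, hL _ hy, map_zero]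

/-- The maximal ideal of the middle ring. -/
abbrev mE (X : Ext A R L) : Ideal X.E := (maximalIdeal R).comap X.proj

lemma isUnit_iff (X : Ext A R L) (y : X.E) : IsUnit y ↔ IsUnit (X.proj y) := by
  refine ⟨fun h => h.map _, fun h => ?_⟩
  obtain ⟨v, hv⟩ := X.isExtension.proj_surjective (↑h.unit⁻¹ : R)
  obtain ⟨z, hz⟩ := (X.isExtension.exact (y * v - 1)).1 (by
    rw [map_sub, map_mul, hv, map_one, sub_eq_zero]
    exact h.mul_val_inv)
  have hzz : X.incl z * X.incl z = 0 := by
    rw [X.isExtension.mul_incl, proj_incl, zero_smul, map_zero]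
  refine IsUnit.of_mul_eq_one (v * (1 - X.incl z)) ?_
  rw [hz] at hzz ⊢
  linear_combination -hzz

lemma nontrivial (X : Ext A R L) : Nontrivial X.E := X.proj.toRingHom.domain_nontrivial

lemma isLocalRing (X : Ext A R L) : IsLocalRing X.E := by
  haveI := nontrivial X
  refine IsLocalRing.of_nonunits_add fun a b ha hb => ?_
  rw [mem_nonunits_iff, isUnit_iff] at ha hb ⊢
  rw [map_add]
  exact mem_nonunits_iff.1 ((maximalIdeal R).add_mem
    ((mem_maximalIdeal _).2 ha) ((mem_maximalIdeal _).2 hb))

lemma maximalIdeal_eq (X : Ext A R L) [IsLocalRing X.E] : maximalIdeal X.E = mE X := by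
  ext y
  rw [mem_maximalIdeal, mem_nonunits_iff, Ideal.mem_comap, mem_maximalIdeal, mem_nonunits_iff,
    isUnit_iff]

lemma incl_mem_mE (X : Ext A R L) (z : L) : X.incl z ∈ mE X := by
  rw [Ideal.mem_comap, proj_incl]; exact zero_mem _

lemma map_mE_pow (X : Ext A R L) (N : ℕ) :
    (mE X ^ N).map X.proj = maximalIdeal R ^ N := by
  rw [Ideal.map_pow, Ideal.map_comap_of_surjective _ X.isExtension.proj_surjective]

lemma proj_mem_of_mem {X : Ext A R L} {N : ℕ} {y : X.E} (hy : y ∈ mE X ^ N) :
    X.proj y ∈ maximalIdeal R ^ N := map_mE_pow X N ▸ Ideal.mem_map_of_mem _ hy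

lemma exists_mem_of_proj_mem (X : Ext A R L) {N : ℕ} {r : R} (hr : r ∈ maximalIdeal R ^ N) :
    ∃ y ∈ mE X ^ N, X.proj y = r := by
  rwa [← map_mE_pow X N, Ideal.mem_map_iff_of_surjective _ X.isExtension.proj_surjective] at hr

section Bound

variable {ι : Type w}

private noncomputable def ev {S : Type*} [CommRing S] (g : ι → S) :
    MvPolynomial ι S →+* S[X] :=
  MvPolynomial.eval₂Hom Polynomial.C (fun i => Polynomial.C (g i) * Polynomial.X)

private lemma ev_zero {S : Type*} [CommRing S] (g : ι → S) (p : MvPolynomial ι S) :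
    (ev g p).coeff 0 = MvPolynomial.constantCoeff p := by
  induction p using MvPolynomial.induction_on with
  | C a => simp [ev]
  | add p q hp hq => simp [hp, hq]
  | mul_X p i hp => simp [ev]

private lemma ev_map {S T : Type*} [CommRing S] [CommRing T] (f : S →+* T) (g : ι → S)
    (p : MvPolynomial ι S) : ev (f ∘ g) (MvPolynomial.map f p) = (ev g p).map f := by
  induction p using MvPolynomial.induction_on with
  | C a => simp [ev]
  | add p q hp hq => simp [hp, hq]
  | mul_X p i hp =>
    rw [map_mul, map_mul, hp, map_mul, Polynomial.map_mul]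
    simp [ev]

private lemma ev_coeff_mem {S : Type*} [CommRing S] {a : Ideal S} (g : ι → S) (hg : ∀ i, g i ∈ a)
    (p : MvPolynomial ι S) {n : ℕ} (hn : n ≠ 0) : (ev g p).coeff n ∈ a := by
  induction p using MvPolynomial.induction_on generalizing n with
  | C b => simp [ev, Polynomial.coeff_C, hn]
  | add p q hp hq => simpa using add_mem (hp hn) (hq hn)
  | mul_X p i hp =>
    obtain ⟨m, rfl⟩ := Nat.exists_eq_succ_of_ne_zero hn
    rw [map_mul, show ev g (MvPolynomial.X i) = Polynomial.C (g i) * Polynomial.X by simp [ev],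
      ← mul_assoc, Polynomial.coeff_mul_X, Polynomial.coeff_mul_C]
    exact Ideal.mul_mem_left _ _ (hg i)

private lemma ev_coeff_eq_zero {S : Type*} [CommRing S] (g : ι → S)
    (p : MvPolynomial ι S) {n : ℕ} (hn : p.totalDegree < n) : (ev g p).coeff n = 0 := by
  rw [p.as_sum, map_sum, Polynomial.finsetSum_coeff]
  refine Finset.sum_eq_zero fun d hd => ?_
  have hle : d.sum (fun _ e => e) ≤ p.totalDegree := MvPolynomial.le_totalDegree hd
  rw [ev, MvPolynomial.eval₂Hom_monomial]
  have : (d.prod fun i e => (Polynomial.C (g i) * Polynomial.X) ^ e) =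
      Polynomial.C (d.prod fun i e => g i ^ e) * Polynomial.X ^ (d.sum fun _ e => e) := by
    simp only [Finsupp.prod, Finsupp.sum, mul_pow, Finset.prod_mul_distrib, map_prod, map_pow,
      Finset.prod_pow_eq_pow_sum]
  rw [this, ← mul_assoc, ← map_mul, Polynomial.coeff_C_mul_X_pow, if_neg (by omega)]

variable [IsNoetherianRing R]

/-- The uniform bound. -/
theorem exists_bound : ∃ D : ℕ, ∀ (A : Type u) [CommRing A] [Algebra A R] (L : Type v)
    [AddCommGroup L] [Module R L], (∀ r ∈ maximalIdeal R, ∀ z : L, r • z = 0) →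
    ∀ (X : Ext A R L) (N : ℕ), D < N → ∀ y ∈ mE X ^ N, X.proj y = 0 → y = 0 := by
  obtain ⟨s, hs⟩ := (maximalIdeal R).fg_of_isNoetherianRing
  let r : ↥s → R := fun i => i.1
  have hr : ∀ i, r i ∈ maximalIdeal R := fun i => hs ▸ Ideal.subset_span i.2
  obtain ⟨G, hG⟩ := (RingHom.ker (ev r)).fg_of_isNoetherianRing
  refine ⟨(G.sup MvPolynomial.totalDegree) + 1, fun A _ _ L _ _ hL X N hN y hy hy0 => ?_⟩
  choose σ hσ using X.isExtension.proj_surjective
  let e : ↥s → X.E := fun i => σ (r i)
  have hre : X.proj.toRingHom ∘ e = r := funext fun i => hσ (r i)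
  have he : ∀ i, e i ∈ mE X := fun i => by rw [Ideal.mem_comap, hσ]; exact hr i
  let a : Ideal X.E := Ideal.span (Set.range e)
  have haM : a ≤ mE X := Ideal.span_le.2 (Set.range_subset_iff.2 he)
  have hmE : ∀ x ∈ mE X, ∃ x' ∈ a, X.proj (x - x') = 0 := by
    intro x hx
    have : X.proj x ∈ a.map X.proj := by
      rw [Ideal.map_span, ← Set.range_comp]
      rw [Ideal.mem_comap, ← hs] at hx
      refine Ideal.span_mono ?_ hx
      intro q hq
      exact ⟨⟨q, hq⟩, hσ q⟩
    obtain ⟨x', hx', hxx⟩ := (Ideal.mem_map_iff_of_surjective _ X.isExtension.proj_surjective).1 this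
    exact ⟨x', hx', by rw [map_sub, hxx, sub_self]⟩
  -- products with the kernel vanish
  have hker : ∀ x ∈ mE X, ∀ w : X.E, X.proj w = 0 → x * w = 0 := by
    intro x hx w hw
    obtain ⟨z, rfl⟩ := (X.isExtension.exact w).1 hw
    exact mul_incl_eq_zero hL X hx z
  have hpow : ∀ n, mE X ^ (n + 2) ≤ a ^ (n + 2) := by
    intro n
    induction n with
    | zero =>
      simp only [Nat.zero_add, pow_two]
      rw [Ideal.mul_le]
      intro x hx x₂ hx₂
      obtain ⟨x', hx', h⟩ := hmE x hx
      obtain ⟨x₂', hx₂', h₂⟩ := hmE x₂ hx₂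
      have h1 := hker x₂ hx₂ _ h
      have h2 := hker x' (haM hx') _ h₂
      rw [show x * x₂ = x' * x₂' by linear_combination h1 + h2]
      exact Ideal.mul_mem_mul hx' hx₂'
    | succ n ih =>
      rw [show n + 1 + 2 = (n + 2) + 1 from rfl, pow_succ, pow_succ a]
      rw [Ideal.mul_le]
      intro x hx x₂ hx₂
      obtain ⟨x₂', hx₂', h₂⟩ := hmE x₂ hx₂
      rw [show x * x₂ = x * x₂' by
        linear_combination hker x (Ideal.pow_le_self (by omega) hx) _ h₂]
      exact Ideal.mul_mem_mul (ih hx) hx₂'
  have hrep : ∀ n, ∀ x ∈ a ^ n, ∃ F : MvPolynomial ↥s X.E,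
      ev e F = Polynomial.C x * Polynomial.X ^ n := by
    intro n
    induction n with
    | zero => exact fun x _ => ⟨MvPolynomial.C x, by simp [ev]⟩
    | succ n ih =>
      intro x hx
      rw [pow_succ] at hx
      refine Submodule.mul_induction_on hx (fun p hp q hq => ?_) ?_
      · obtain ⟨F, hF⟩ := ih p hp
        induction hq using Submodule.span_induction with
        | mem q hq =>
          obtain ⟨i, rfl⟩ := hq
          refine ⟨F * MvPolynomial.X i, ?_⟩
          rw [map_mul, hF, show ev e (MvPolynomial.X i) = Polynomial.C (e i) * Polynomial.X by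
            simp [ev], map_mul, pow_succ]
          ring
        | zero => exact ⟨0, by simp⟩
        | add q q' _ _ hq hq' =>
          obtain ⟨F₁, h₁⟩ := hq
          obtain ⟨F₂, h₂⟩ := hq'
          exact ⟨F₁ + F₂, by rw [map_add, h₁, h₂, mul_add, map_add, add_mul]⟩
        | smul c q _ hq =>
          obtain ⟨F₁, h₁⟩ := hq
          refine ⟨MvPolynomial.C c * F₁, ?_⟩
          rw [map_mul, h₁, show ev e (MvPolynomial.C c) = Polynomial.C c by simp [ev],
            smul_eq_mul, map_mul, map_mul, map_mul]
          ring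
      · rintro p q ⟨F₁, h₁⟩ ⟨F₂, h₂⟩
        exact ⟨F₁ + F₂, by rw [map_add, h₁, h₂, map_add, add_mul]⟩
  let M := MvPolynomial.map (σ := ↥s) X.proj.toRingHom
  have hMsurj : Function.Surjective M := MvPolynomial.map_surjective _ X.isExtension.proj_surjective
  -- lifts of elements of the kernel have vanishing coefficients beyond the bound
  have hvan : ∀ P ∈ RingHom.ker (ev r), ∀ Q, M Q = P →
      ∀ n, G.sup MvPolynomial.totalDegree < n → (ev e Q).coeff n = 0 := by
    have hzero : ∀ Q, M Q = 0 → ∀ n, n ≠ 0 → (ev e Q).coeff n = 0 := by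
      intro Q hQ
      have hmem : Q ∈ (RingHom.ker X.proj.toRingHom).map MvPolynomial.C := by
        rw [← MvPolynomial.ker_map, RingHom.mem_ker]; exact hQ
      clear hQ
      unfold Ideal.map at hmem
      induction hmem using Submodule.span_induction with
      | mem q hq =>
        obtain ⟨w, hw, rfl⟩ := hq
        intro n hn
        simp [ev, Polynomial.coeff_C, hn]
      | zero => simp
      | add q q' _ _ hq hq' =>
        intro n hn
        rw [map_add, Polynomial.coeff_add, hq _ hn, hq' _ hn, add_zero]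
      | smul c q hq' hq =>
        intro n hn
        have hq0 : ∀ k, X.proj ((ev e q).coeff k) = 0 := by
          intro k
          have hMq : M q = 0 := by
            have : q ∈ RingHom.ker M := by rw [MvPolynomial.ker_map]; exact hq'
            exact this
          have := congrArg (fun p : R[X] => p.coeff k) (ev_map X.proj.toRingHom e q)
          simp only [Polynomial.coeff_map] at this
          change (ev (X.proj.toRingHom ∘ e) (M q)).coeff k = _ at this
          rw [hMq, map_zero, Polynomial.coeff_zero] at this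
          exact this.symm
        rw [smul_eq_mul, map_mul, Polynomial.coeff_mul]
        refine Finset.sum_eq_zero fun ij hij => ?_
        rw [Finset.HasAntidiagonal.mem_antidiagonal] at hij
        by_cases h1 : ij.1 = 0
        · rw [hq _ (by omega), mul_zero]
        · exact hker _ (haM (ev_coeff_mem (a := a) e (fun i => Ideal.subset_span ⟨i, rfl⟩) c h1)) _ (hq0 _)
    intro P hP
    rw [← hG] at hP
    induction hP using Submodule.span_induction with
    | mem P hP =>
      intro Q hQ n hn
      classical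
      let Q₀ : MvPolynomial ↥s X.E := ∑ d ∈ P.support, MvPolynomial.monomial d (σ (P.coeff d))
      have hM0 : M Q₀ = P := by
        rw [map_sum]
        simp only [M, MvPolynomial.map_monomial, AlgHom.toRingHom_eq_coe, RingHom.coe_coe, hσ]
        exact P.as_sum.symm
      have hdeg : Q₀.totalDegree ≤ P.totalDegree := by
        refine (MvPolynomial.totalDegree_finsetSum _ _).trans (Finset.sup_le fun d hd => ?_)
        exact (MvPolynomial.totalDegree_monomial_le _ _).trans (MvPolynomial.le_totalDegree hd)
      have h0 := ev_coeff_eq_zero e Q₀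
        (lt_of_le_of_lt (hdeg.trans (Finset.le_sup (f := MvPolynomial.totalDegree) hP)) hn)
      have h1 := hzero (Q - Q₀) (by rw [map_sub, hQ, hM0, sub_self]) n (by omega)
      rwa [map_sub, Polynomial.coeff_sub, h0, sub_zero] at h1
    | zero => exact fun Q hQ n hn => hzero Q hQ n (by omega)
    | add P P' _ _ ihP ihP' =>
      intro Q hQ n hn
      obtain ⟨Q₁, hQ₁⟩ := hMsurj P
      have h1 := ihP Q₁ hQ₁ n hn
      have h2 := ihP' (Q - Q₁) (by rw [map_sub, hQ, hQ₁, add_sub_cancel_left]) n hn
      rw [map_sub, Polynomial.coeff_sub, h1, sub_zero] at h2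
      exact h2
    | smul c P hP ihP =>
      intro Q hQ n hn
      obtain ⟨c', hc'⟩ := hMsurj c
      obtain ⟨Q₁, hQ₁⟩ := hMsurj P
      have h1 := hzero (Q - c' * Q₁)
        (by rw [map_sub, map_mul, hQ, hc', hQ₁, smul_eq_mul, sub_self]) n (by omega)
      rw [map_sub, Polynomial.coeff_sub, sub_eq_zero] at h1
      rw [h1, map_mul, Polynomial.coeff_mul]
      refine Finset.sum_eq_zero fun ij hij => ?_
      rw [Finset.HasAntidiagonal.mem_antidiagonal] at hij
      by_cases h0 : ij.1 = 0
      · rw [ihP Q₁ hQ₁ _ (by omega), mul_zero]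
      · refine hker _ (haM (ev_coeff_mem (a := a) e (fun i => Ideal.subset_span ⟨i, rfl⟩) c' h0)) _ ?_
        have hPk : ev r P = 0 := by rw [← RingHom.mem_ker, ← hG]; exact hP
        have := congrArg (fun p : R[X] => p.coeff ij.2) (ev_map X.proj.toRingHom e Q₁)
        simp only [Polynomial.coeff_map] at this
        change (ev (X.proj.toRingHom ∘ e) (M Q₁)).coeff ij.2 = _ at this
        rw [hre, hQ₁, hPk, Polynomial.coeff_zero] at this
        exact this.symm
  obtain ⟨m, rfl⟩ : ∃ m, N = m + 2 := ⟨N - 2, by omega⟩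
  obtain ⟨F, hF⟩ := hrep _ y (hpow m hy)
  have hker' : M F ∈ RingHom.ker (ev r) := by
    rw [RingHom.mem_ker, ← hre, ev_map, hF, Polynomial.map_mul, Polynomial.map_C,
      AlgHom.toRingHom_eq_coe, RingHom.coe_coe, hy0, map_zero, zero_mul]
  have := hvan _ hker' F rfl (m + 2) (by omega)
  rwa [hF, Polynomial.coeff_C_mul_X_pow, if_pos rfl] at this

end Bound

section Pairing

variable {X : Ext A R L} {I : Ideal X.E}

/-- Maps into the middle ring from maps to `R` and to a quotient. -/
theorem exists_pair {C : Type*} [CommRing C] [Algebra A C]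
    (hI : ∀ y ∈ I, X.proj y = 0 → y = 0)
    (p : C →ₐ[A] R) (g : C →ₐ[A] X.E ⧸ I)
    (h : ∀ c, ∃ w, Ideal.Quotient.mk I w = g c ∧ X.proj w - p c ∈ I.map X.proj) :
    ∃ f : C →ₐ[A] X.E, (∀ c, X.proj (f c) = p c) ∧ ∀ c, Ideal.Quotient.mk I (f c) = g c := by
  have hex : ∀ c, ∃ y, X.proj y = p c ∧ Ideal.Quotient.mk I y = g c := by
    intro c
    obtain ⟨w, hw, hmem⟩ := h c
    obtain ⟨i, hi, hpi⟩ := (Ideal.mem_map_iff_of_surjective _ X.isExtension.proj_surjective).1 hmem
    exact ⟨w - i, by rw [map_sub, hpi, sub_sub_cancel],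
      by rw [map_sub, Ideal.Quotient.eq_zero_iff_mem.2 hi, sub_zero, hw]⟩
  have huniq : ∀ {y y' : X.E}, X.proj y = X.proj y' →
      Ideal.Quotient.mk I y = Ideal.Quotient.mk I y' → y = y' := fun h1 h2 =>
    sub_eq_zero.1 (hI _ (Ideal.Quotient.eq.1 h2) (by rw [map_sub, h1, sub_self]))
  choose f hf1 hf2 using hex
  refine ⟨{ toFun := f
            map_one' := huniq (by rw [hf1, map_one, map_one]) (by rw [hf2, map_one, map_one])
            map_zero' := huniq (by rw [hf1, map_zero, map_zero]) (by rw [hf2, map_zero, map_zero])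
            map_add' := fun x y => huniq (by rw [hf1, map_add, map_add, hf1, hf1])
              (by rw [hf2, map_add, map_add, hf2, hf2])
            map_mul' := fun x y => huniq (by rw [hf1, map_mul, map_mul, hf1, hf1])
              (by rw [hf2, map_mul, map_mul, hf2, hf2])
            commutes' := fun x => huniq (by rw [hf1, AlgHom.commutes, AlgHom.commutes])
              (by rw [hf2, AlgHom.commutes]; rfl) }, hf1, hf2⟩

end Pairing

end Groth.Agent.Deform85.ExArtin
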