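import Groth.Agent.EGA4Alg4.Exal
import Mathlib.RingTheory.LocalRing.ResidueField.Basic

/-!
Vanishing of relative extensions versus extension of derivations and injectivity of pullback.
-/

set_option autoImplicit false

universe u

namespace Groth.Agent.Deform85.ExBase

open Exal EGA4Alg4.Exal13

attribute [local instance] Exal.opModule Exal.isCentralScalar_opModule

variable {k Λ R L : Type u} [CommRing k] [CommRing Λ] [CommRing R] [Algebra k Λ] [Algebra k R]
  [Algebra Λ R] [IsScalarTower k Λ R] [AddCommGroup L] [Module R L] [Module Λ L]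
  [IsScalarTower Λ R L]

/-- The fibre product of the middle rings of two extensions. -/
noncomputable abbrev fib (Y Y' : Ext k R L) : Subalgebra k (Y.E × Y'.E) :=
  AlgHom.equalizer (Y.proj.comp (AlgHom.fst k Y.E Y'.E)) (Y'.proj.comp (AlgHom.snd k Y.E Y'.E))

omit [Algebra k Λ] [Algebra Λ R] [IsScalarTower k Λ R] [Module Λ L] [IsScalarTower Λ R L] in
lemma mem_fib {Y Y' : Ext k R L} {x : Y.E × Y'.E} : x ∈ fib Y Y' ↔ Y.proj x.1 = Y'.proj x.2 :=
  Iff.rfl

omit [Algebra k Λ] [Algebra Λ R] [IsScalarTower k Λ R] [Module Λ L] [IsScalarTower Λ R L] in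
/-- The difference of two extensions. -/
theorem exists_diff (Y Y' : Ext k R L) :
    ∃ (Z : Ext k R L) (π : fib Y Y' →ₐ[k] Z.E), Function.Surjective π ∧
      (∀ w, Z.proj (π w) = Y.proj w.1.1) ∧
      (∀ w, π w = 0 ↔ ∃ z, Y.incl z = w.1.1 ∧ Y'.incl z = w.1.2) ∧
      ∀ (z : L) (w : fib Y Y'), w.1.1 = 0 → w.1.2 = Y'.incl z → π w = Z.incl z := by
  let D : Ideal (fib Y Y') :=
    { carrier := {w | ∃ z, Y.incl z = w.1.1 ∧ Y'.incl z = w.1.2}
      add_mem' := by
        rintro v w ⟨a, ha, ha'⟩ ⟨b, hb, hb'⟩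
        exact ⟨a + b, by rw [map_add, ha, hb]; rfl, by rw [map_add, ha', hb']; rfl⟩
      zero_mem' := ⟨0, map_zero _, map_zero _⟩
      smul_mem' := by
        rintro w v ⟨a, ha, ha'⟩
        refine ⟨Y.proj w.1.1 • a, ?_, ?_⟩
        · rw [← Y.isExtension.mul_incl, ha]; rfl
        · rw [mem_fib.1 w.2, ← Y'.isExtension.mul_incl, ha']; rfl }
  let pr : fib Y Y' →ₐ[k] R := Y.proj.comp ((AlgHom.fst k Y.E Y'.E).comp (fib Y Y').val)
  have hpr : ∀ w ∈ D, pr w = 0 := by
    rintro w ⟨a, ha, -⟩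
    change Y.proj w.1.1 = 0
    rw [← ha, proj_incl]
  have hi : ∀ z, ((0 : Y.E), Y'.incl z) ∈ fib Y Y' := fun z =>
    mem_fib.2 (by rw [map_zero, proj_incl])
  let i₀ : L →+ (fib Y Y') ⧸ D :=
    { toFun := fun z => Ideal.Quotient.mk D ⟨(0, Y'.incl z), hi z⟩
      map_zero' := by
        rw [← map_zero (Ideal.Quotient.mk D)]
        exact congrArg _ (Subtype.ext (Prod.ext rfl (map_zero _)))
      map_add' := fun a b => by
        rw [← map_add]
        exact congrArg _ (Subtype.ext (Prod.ext (add_zero (0 : Y.E)).symm (map_add _ a b))) }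
  have hext : IsExtension (A := k) (B := R) (E := (fib Y Y') ⧸ D) (L := L) (Ideal.Quotient.liftₐ D pr hpr) i₀ := by
    refine ⟨fun r => ?_, fun a b hab => ?_, fun x => ⟨fun hx => ?_, ?_⟩, fun x z => ?_⟩
    · obtain ⟨y, hy⟩ := Y.isExtension.proj_surjective r
      obtain ⟨y', hy'⟩ := Y'.isExtension.proj_surjective r
      exact ⟨Ideal.Quotient.mk D ⟨(y, y'), mem_fib.2 (hy.trans hy'.symm)⟩, hy⟩
    · obtain ⟨z, hz1, hz2⟩ := Ideal.Quotient.eq.1 hab
      change Y.incl z = 0 - 0 at hz1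
      change Y'.incl z = Y'.incl a - Y'.incl b at hz2
      rw [sub_zero, ← map_zero Y.incl] at hz1
      rw [Y.isExtension.incl_injective hz1, map_zero, eq_comm, sub_eq_zero] at hz2
      exact Y'.isExtension.incl_injective hz2
    · obtain ⟨v, rfl⟩ := Ideal.Quotient.mk_surjective x
      have hv1 : Y.proj v.1.1 = 0 := hx
      obtain ⟨z, hz⟩ := (Y.isExtension.exact _).1 hv1
      obtain ⟨z', hz'⟩ := (Y'.isExtension.exact _).1 ((mem_fib.1 v.2).symm.trans hv1)
      refine ⟨z' - z, Ideal.Quotient.eq.2 ⟨-z, ?_, ?_⟩⟩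
      · change Y.incl (-z) = 0 - v.1.1
        rw [map_neg, hz, zero_sub]
      · change Y'.incl (-z) = Y'.incl (z' - z) - v.1.2
        rw [map_neg, map_sub, hz']; abel
    · rintro ⟨z, rfl⟩
      exact map_zero Y.proj
    · obtain ⟨v, rfl⟩ := Ideal.Quotient.mk_surjective x
      refine (map_mul (Ideal.Quotient.mk D) v _).symm.trans (congrArg _ (Subtype.ext (Prod.ext ?_ ?_)))
      · exact mul_zero v.1.1
      · change v.1.2 * Y'.incl z = Y'.incl (Y.proj v.1.1 • z)
        rw [Y'.isExtension.mul_incl, mem_fib.1 v.2]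
  refine ⟨⟨(fib Y Y') ⧸ D, Ideal.Quotient.liftₐ D pr hpr, i₀, hext⟩, Ideal.Quotient.mkₐ k D,
    Ideal.Quotient.mkₐ_surjective k D, fun w => rfl, fun w => Ideal.Quotient.eq_zero_iff_mem,
    fun z w h1 h2 => ?_⟩
  exact congrArg (Ideal.Quotient.mk D) (Subtype.ext (Prod.ext h1 h2))

theorem nonempty_equiv_of_pullback
    (hX : ∀ X : Ext Λ R L, X.IsTrivial) (Y Y' : Ext k R L)
    (h : Nonempty ((Y.pullback Λ).Equiv (Y'.pullback Λ))) : Nonempty (Y.Equiv Y') := by
  obtain ⟨e⟩ := h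
  obtain ⟨Z, π, hπ, hπp, hπ0, hπi⟩ := exists_diff Y Y'
  let ι₀ : (Y.pullback Λ).E →ₐ[k] Y.E × Y'.E :=
    (((AlgHom.fst k Y.E Λ).comp (Y.fiberProd Λ).val)).prod
      (((AlgHom.fst k Y'.E Λ).comp (Y'.fiberProd Λ).val).comp e.toAlgEquiv.toAlgHom)
  have hι₀ : ∀ q, ι₀ q ∈ fib Y Y' := by
    intro q
    rw [mem_fib]
    have h1 : Y.proj (q : Y.fiberProd Λ).1.1 = algebraMap Λ R (q : Y.fiberProd Λ).1.2 := q.2
    have h2 : Y'.proj (e.toAlgEquiv q : Y'.fiberProd Λ).1.1 =
        algebraMap Λ R (e.toAlgEquiv q : Y'.fiberProd Λ).1.2 := (e.toAlgEquiv q).2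
    have h3 : (e.toAlgEquiv q : Y'.fiberProd Λ).1.2 = (q : Y.fiberProd Λ).1.2 := e.proj_apply q
    change Y.proj (q : Y.fiberProd Λ).1.1 = Y'.proj (e.toAlgEquiv q : Y'.fiberProd Λ).1.1
    rw [h1, h2, h3]
  let ι₁ : (Y.pullback Λ).E →ₐ[k] Z.E := π.comp (ι₀.codRestrict (fib Y Y') hι₀)
  have hι₁0 : ∀ q ∈ RingHom.ker (Y.pullback Λ).proj, ι₁ q = 0 := by
    intro q hq
    obtain ⟨z, rfl⟩ := ((Y.pullback Λ).isExtension.exact q).1 hq
    refine (hπ0 _).2 ⟨z, rfl, ?_⟩
    exact (congrArg (fun x : Y'.fiberProd Λ => x.1.1) (e.apply_incl z)).symm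
  let ι : Λ →ₐ[k] Z.E := (Ideal.Quotient.liftₐ _ ι₁ hι₁0).comp
    (Ideal.quotientKerAlgEquivOfSurjective (Y.pullback Λ).isExtension.proj_surjective).symm.toAlgHom
  have hι : ∀ a, Z.proj (ι a) = algebraMap Λ R a := by
    intro a
    obtain ⟨q, rfl⟩ := (Y.pullback Λ).isExtension.proj_surjective a
    have h : ι ((Y.pullback Λ).proj q) = ι₁ q := by
      change Ideal.Quotient.liftₐ _ ι₁ hι₁0 ((Ideal.quotientKerAlgEquivOfSurjective
        (Y.pullback Λ).isExtension.proj_surjective).symm ((Y.pullback Λ).proj q)) = _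
      rw [Ideal.quotientKerAlgEquivOfSurjective_symm_apply]
      rfl
    rw [h]
    refine (hπp _).trans ?_
    exact q.2
  obtain ⟨X, ⟨eX⟩⟩ := (pullback_isTrivial_iff Z).1
    ⟨(AlgHom.prod ι (AlgHom.id k Λ)).codRestrict (Z.fiberProd Λ) hι, fun a => rfl⟩
  obtain ⟨s₀, hs₀⟩ := hX X
  let s₁ : R →ₐ[k] (X.restrictBase k).E :=
    { toFun := s₀, map_one' := map_one s₀, map_mul' := map_mul s₀, map_zero' := map_zero s₀
      map_add' := map_add s₀
      commutes' := fun c => (congrArg s₀ (IsScalarTower.algebraMap_apply k Λ R c)).trans (s₀.commutes _) }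
  let s : R →ₐ[k] Z.E := eX.toAlgEquiv.toAlgHom.comp s₁
  have hs : ∀ r, Z.proj (s r) = r := fun r => (eX.proj_apply _).trans (hs₀ r)
  have hf : ∀ y : Y.E, ∃ y', ∃ h : Y.proj y = Y'.proj y',
      s (Y.proj y) = π ⟨(y, y'), mem_fib.2 h⟩ := by
    intro y
    obtain ⟨v, hv⟩ := hπ (s (Y.proj y))
    have h1 : Y.proj v.1.1 = Y.proj y := by rw [← hπp v, hv, hs]
    obtain ⟨z, hz⟩ := (Y.isExtension.exact (y - v.1.1)).1 (by rw [map_sub, h1, sub_self])
    refine ⟨v.1.2 + Y'.incl z, by rw [map_add, proj_incl, add_zero, ← h1]; exact v.2, ?_⟩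
    rw [← hv, ← sub_eq_zero, ← map_sub]
    refine (hπ0 _).2 ⟨-z, ?_, ?_⟩
    · change Y.incl (-z) = v.1.1 - y
      rw [map_neg, hz, neg_sub]
    · change Y'.incl (-z) = v.1.2 - (v.1.2 + Y'.incl z)
      rw [map_neg]; abel
  choose f hf1 hf2 using hf
  have hfu : ∀ (y : Y.E) y' (h : Y.proj y = Y'.proj y') (r : R), Y.proj y = r →
      s r = π ⟨(y, y'), mem_fib.2 h⟩ → f y = y' := by
    intro y y' h r hr hy
    subst hr
    have h0 : π (⟨(y, f y), mem_fib.2 (hf1 y)⟩ - ⟨(y, y'), mem_fib.2 h⟩) = 0 := by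
      rw [map_sub, ← hf2, ← hy, sub_self]
    obtain ⟨z, hz1, hz2⟩ := (hπ0 _).1 h0
    change Y.incl z = y - y at hz1
    change Y'.incl z = f y - y' at hz2
    rw [sub_self, ← map_zero Y.incl] at hz1
    rw [Y.isExtension.incl_injective hz1, map_zero, eq_comm, sub_eq_zero] at hz2
    exact hz2
  let F : Y.E →ₐ[k] Y'.E :=
    { toFun := f
      map_one' := hfu 1 1 (by rw [map_one, map_one]) 1 (map_one _)
        ((map_one s).trans (map_one π).symm)
      map_zero' := hfu 0 0 (by rw [map_zero, map_zero]) 0 (map_zero _)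
        ((map_zero s).trans (map_zero π).symm)
      map_add' := fun a b => hfu _ _ (by rw [map_add, map_add, hf1, hf1]) _ (map_add _ _ _) (by
        rw [map_add, hf2, hf2, ← map_add]; rfl)
      map_mul' := fun a b => hfu _ _ (by rw [map_mul, map_mul, hf1, hf1]) _ (map_mul _ _ _) (by
        rw [map_mul, hf2, hf2, ← map_mul]; rfl)
      commutes' := fun c => hfu _ _ (by rw [AlgHom.commutes, AlgHom.commutes]) _ (Y.proj.commutes c)
        ((s.commutes c).trans (π.commutes c).symm) }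
  refine ⟨equivOfHom F (fun y => (hf1 y).symm) fun z =>
    hfu _ _ (by rw [proj_incl, proj_incl]) 0 (proj_incl Y z) ?_⟩
  exact (map_zero s).trans ((hπ0 _).2 ⟨z, rfl, rfl⟩).symm

theorem nonempty_equiv_trivial {A B M : Type u} [CommRing A] [CommRing B] [Algebra A B]
    [AddCommGroup M] [Module B M] {X : Ext A B M} (h : X.IsTrivial) :
    Nonempty ((Ext.trivial A B M).Equiv X) := by
  obtain ⟨s, hs⟩ := h
  let f : (Ext.trivial A B M).E →ₐ[A] X.E :=
    { toFun := fun x => s (TrivSqZeroExt.fst x) + X.incl (TrivSqZeroExt.snd x)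
      map_one' := (by simp : s (TrivSqZeroExt.fst (1 : TrivSqZeroExt B M)) + X.incl (TrivSqZeroExt.snd (1 : TrivSqZeroExt B M)) = 1)
      map_zero' := (by simp : s (TrivSqZeroExt.fst (0 : TrivSqZeroExt B M)) + X.incl (TrivSqZeroExt.snd (0 : TrivSqZeroExt B M)) = 0)
      map_add' := fun x y => by
        change s (TrivSqZeroExt.fst x + TrivSqZeroExt.fst y) + X.incl (TrivSqZeroExt.snd x + TrivSqZeroExt.snd y) = _
        rw [map_add, map_add]; abel
      map_mul' := fun (x y : TrivSqZeroExt B M) => by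
        change s (TrivSqZeroExt.fst x * TrivSqZeroExt.fst y) +
          X.incl (TrivSqZeroExt.fst x • TrivSqZeroExt.snd y +
            MulOpposite.op (TrivSqZeroExt.fst y) • TrivSqZeroExt.snd x) = _
        rw [op_smul_eq_smul, map_mul, map_add]
        have h0 := incl_mul_incl X (TrivSqZeroExt.snd x) (TrivSqZeroExt.snd y)
        have h1 := X.isExtension.mul_incl (s (TrivSqZeroExt.fst x)) (TrivSqZeroExt.snd y)
        have h2 := X.isExtension.mul_incl (s (TrivSqZeroExt.fst y)) (TrivSqZeroExt.snd x)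
        rw [hs] at h1 h2
        linear_combination -h0 - h1 - h2
      commutes' := fun a => by
        change s (algebraMap A B a) + X.incl 0 = _
        rw [map_zero, add_zero, AlgHom.commutes] }
  exact ⟨equivOfHom f (fun x => by
      change X.proj (s _ + X.incl _) = _
      rw [map_add, hs, proj_incl, add_zero]; rfl) fun z => by
      change s 0 + X.incl z = _
      rw [map_zero, zero_add]⟩

variable [Module k L] [IsScalarTower k Λ L] [IsScalarTower k R L]

theorem trivial_of_injective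
    (hD : ∀ D : Derivation k Λ L, ∃ D' : Derivation k R L, ∀ a, D' (algebraMap Λ R a) = D a)
    (hY : ∀ Y Y' : Ext k R L,
      Nonempty ((Y.pullback Λ).Equiv (Y'.pullback Λ)) → Nonempty (Y.Equiv Y'))
    (X : Ext Λ R L) : X.IsTrivial := by
  have h1 : ((X.restrictBase k).pullback Λ).IsTrivial :=
    (pullback_isTrivial_iff _).2 ⟨X, ⟨Ext.Equiv.refl _⟩⟩
  have h2 : ((Ext.trivial k R L).pullback Λ).IsTrivial :=
    (pullback_isTrivial_iff _).2 ⟨Ext.trivial Λ R L, ⟨equivOfHom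
      { toFun := fun x => x, map_one' := rfl, map_zero' := rfl, map_add' := fun _ _ => rfl,
        map_mul' := fun _ _ => rfl,
        commutes' := fun c => by
          change (TrivSqZeroExt.inl (algebraMap Λ R (algebraMap k Λ c)) : TrivSqZeroExt R L) =
            TrivSqZeroExt.inl (algebraMap k R c)
          rw [← IsScalarTower.algebraMap_apply] } (fun _ => rfl) fun _ => rfl⟩⟩
  obtain ⟨e1⟩ := nonempty_equiv_trivial h1
  obtain ⟨e2⟩ := nonempty_equiv_trivial h2
  obtain ⟨e⟩ := hY _ _ ⟨e2.symm.trans e1⟩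
  have h3 : X.IsTrivialOver k := isTrivial_of_equiv e ⟨
    { toFun := fun r => (TrivSqZeroExt.inl r : TrivSqZeroExt R L)
      map_one' := TrivSqZeroExt.inl_one _
      map_zero' := TrivSqZeroExt.inl_zero _
      map_add' := fun _ _ => TrivSqZeroExt.inl_add _ _ _
      map_mul' := fun _ _ => TrivSqZeroExt.inl_mul _ _ _
      commutes' := fun _ => rfl }, fun _ => rfl⟩
  obtain ⟨D, ⟨e'⟩⟩ := exists_equiv_ofDerivation X h3
  obtain ⟨D', hD'⟩ := hD D
  exact isTrivial_of_equiv e'.symm ((ofDerivation_isTrivial_iff D).2 ⟨D', Derivation.ext hD'⟩)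

theorem exists_extend (hX : ∀ X : Ext Λ R L, X.IsTrivial) (D : Derivation k Λ L) :
    ∃ D' : Derivation k R L, ∀ a, D' (algebraMap Λ R a) = D a := by
  obtain ⟨D', hD'⟩ := (ofDerivation_isTrivial_iff D).1 (hX (Exal.Ext.ofDerivation (C := R) D))
  exact ⟨D', fun a => by rw [← hD']; rfl⟩

end Groth.Agent.Deform85.ExBase
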