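import Groth.Agent.Deform85.ExArtin
import Groth.Agent.EGA4Alg4.Exal
import Groth.Agent.CAlg6.PSEndo
import Mathlib.RingTheory.MvPowerSeries.Trunc
import Mathlib.RingTheory.MvPowerSeries.Equiv
import Mathlib.RingTheory.SimpleModule.Basic

/-!
Extensions of a quotient of a power series ring by a simple module.
-/

set_option autoImplicit false

universe u

namespace Groth.Agent.Deform85.ExPower

open Exal IsLocalRing ExArtin MvPowerSeries

lemma smul_eq_zero_of_isSimple {R L : Type u} [CommRing R] [IsLocalRing R] [AddCommGroup L]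
    [Module R L] [IsSimpleModule R L] : ∀ r ∈ maximalIdeal R, ∀ z : L, r • z = 0 := by
  intro r hr z
  rw [← IsLocalRing.eq_maximalIdeal (IsSimpleModule.annihilator_isMaximal (R := R) (M := L))] at hr
  exact Module.mem_annihilator.1 hr z

variable {Λ : Type u} [CommRing Λ] {d : ℕ}

local notation "P" => MvPowerSeries (Fin d) Λ

lemma mem_span_X_pow {N : ℕ} {f : P} (h : CAlg6.OrdGE N f) :
    f ∈ Ideal.span (Set.range (MvPowerSeries.X : Fin d → P)) ^ N := by
  induction N generalizing f with
  | zero => simp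
  | succ N ih =>
    obtain ⟨g, hg, rfl⟩ := CAlg6.exists_decomp h
    refine Submodule.sum_mem _ fun i _ => ?_
    rw [pow_succ']
    exact Ideal.mul_mem_mul (Ideal.subset_span ⟨i, rfl⟩) (ih (hg i))

lemma span_X_le_ker :
    Ideal.span (Set.range (MvPowerSeries.X : Fin d → P)) ≤ RingHom.ker (constantCoeff : P →+* Λ) := by
  rw [Ideal.span_le]
  rintro _ ⟨i, rfl⟩
  exact constantCoeff_X i

lemma exists_sub_mem (N : ℕ) (f : P) :
    f - ((truncTotal N f : MvPolynomial (Fin d) Λ) : P) ∈
      Ideal.span (Set.range (MvPowerSeries.X : Fin d → P)) ^ N := by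
  refine mem_span_X_pow fun e he => ?_
  rw [map_sub, MvPolynomial.coeff_coe, coeff_truncTotal _ he, sub_self]

variable {J : Ideal (MvPowerSeries (Fin d) Λ)} {L : Type u} [AddCommGroup L]
  [Module (MvPowerSeries (Fin d) Λ ⧸ J) L]

lemma nontrivial_quot [Nontrivial Λ]
    (hJ : J ≤ Ideal.span (Set.range (MvPowerSeries.X : Fin d → P)) ^ 2) : Nontrivial (P ⧸ J) :=
  Ideal.Quotient.nontrivial_iff.mpr fun h => RingHom.ker_ne_top (constantCoeff : P →+* Λ)
    (top_le_iff.1 (h.symm.le.trans (hJ.trans ((Ideal.pow_le_self two_ne_zero).trans span_X_le_ker))))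

lemma mk_X_mem [IsLocalRing Λ] [IsLocalRing (P ⧸ J)] {f : P}
    (hf : f ∈ Ideal.span (Set.range (MvPowerSeries.X : Fin d → P))) :
    Ideal.Quotient.mk J f ∈ maximalIdeal (P ⧸ J) := by
  rw [← IsLocalRing.map_maximalIdeal_of_surjective (Ideal.Quotient.mk J) Ideal.Quotient.mk_surjective]
  refine Ideal.mem_map_of_mem _ ?_
  rw [mem_maximalIdeal, mem_nonunits_iff, MvPowerSeries.isUnit_iff_constantCoeff,
    RingHom.mem_ker.1 (span_X_le_ker hf)]
  exact not_isUnit_zero

/-- Lifts of the quotient map to the middle ring. -/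
theorem exists_lift [IsLocalRing Λ] [IsNoetherianRing Λ] [IsLocalRing (P ⧸ J)]
    [IsSimpleModule (P ⧸ J) L] (X : Ext Λ (P ⧸ J) L) :
    ∃ u : P →ₐ[Λ] X.E, ∀ p, X.proj (u p) = Ideal.Quotient.mk J p := by
  haveI : IsNoetherianRing (P ⧸ J) := Ideal.Quotient.isNoetherianRing J
  obtain ⟨D, hD⟩ := exists_bound.{u} (R := P ⧸ J)
  let N := D + 1
  let I : Ideal X.E := mE X ^ N
  have hI : ∀ y ∈ I, X.proj y = 0 → y = 0 := hD Λ _ smul_eq_zero_of_isSimple X N (Nat.lt_succ_self D)
  choose y hy using fun i : Fin d => X.isExtension.proj_surjective (Ideal.Quotient.mk J (MvPowerSeries.X i))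
  let ev : MvPolynomial (Fin d) Λ →ₐ[Λ] X.E := MvPolynomial.aeval y
  have hev : MvPolynomial.idealOfVars (Fin d) Λ ^ N ≤ I.comap ev := by
    refine (Ideal.pow_right_mono ?_ N).trans (Ideal.le_comap_pow _ _)
    rw [MvPolynomial.idealOfVars, Ideal.span_le]
    rintro _ ⟨i, rfl⟩
    change ev (MvPolynomial.X i) ∈ mE X
    rw [MvPolynomial.aeval_X, Ideal.mem_comap, hy]
    exact mk_X_mem (Ideal.subset_span ⟨i, rfl⟩)
  have hproj : ∀ q : MvPolynomial (Fin d) Λ,
      X.proj (ev q) = Ideal.Quotient.mk J (q : P) := by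
    intro q
    induction q using MvPolynomial.induction_on with
    | C a =>
      rw [MvPolynomial.aeval_C, AlgHom.commutes, MvPolynomial.coe_C]
      rfl
    | add p q hp hq => rw [map_add, map_add, hp, hq, MvPolynomial.coe_add, map_add]
    | mul_X p i hp =>
      rw [map_mul, map_mul, hp, MvPolynomial.aeval_X, hy, MvPolynomial.coe_mul, MvPolynomial.coe_X,
        map_mul]
  haveI : IsScalarTower Λ (MvPolynomial (Fin d) Λ) P :=
    IsScalarTower.of_algebraMap_eq fun l => by
      simp [MvPowerSeries.algebraMap_apply', MvPolynomial.algebraMap_apply,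
        MvPowerSeries.algebraMap_apply, MvPolynomial.coe_C]
  let g : P →ₐ[Λ] X.E ⧸ I :=
    (Ideal.Quotient.liftₐ _ ((Ideal.Quotient.mkₐ Λ I).comp ev) fun a ha =>
      Ideal.Quotient.eq_zero_iff_mem.2 (hev ha)).comp ((truncTotalAlgHom (Fin d) Λ N).restrictScalars Λ)
  have hw : ∀ c, ∃ w, Ideal.Quotient.mk I w = g c ∧
      X.proj w - Ideal.Quotient.mkₐ Λ J c ∈ I.map X.proj := by
    intro c
    refine ⟨ev (truncTotal N c), rfl, ?_⟩
    rw [hproj, Ideal.Quotient.mkₐ_eq_mk, ← map_sub, map_mE_pow]
    have h := Ideal.mem_map_of_mem (Ideal.Quotient.mk J) (Submodule.neg_mem _ (exists_sub_mem N c))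
    rw [neg_sub, Ideal.map_pow] at h
    refine Ideal.pow_right_mono ?_ N h
    rw [Ideal.map_le_iff_le_comap]
    exact fun f hf => mk_X_mem hf
  obtain ⟨u, hu, -⟩ := exists_pair (X := X) hI (Ideal.Quotient.mkₐ Λ J) g hw
  exact ⟨u, hu⟩

theorem equiv_iff [IsLocalRing Λ] [IsLocalRing (P ⧸ J)] [IsSimpleModule (P ⧸ J) L]
    (hJ : J ≤ Ideal.span (Set.range (MvPowerSeries.X : Fin d → P)) ^ 2)
    (X X' : Ext Λ (P ⧸ J) L) (u : P →ₐ[Λ] X.E) (u' : P →ₐ[Λ] X'.E)
    (hu : ∀ p, X.proj (u p) = Ideal.Quotient.mk J p) (hu' : ∀ p, X'.proj (u' p) = Ideal.Quotient.mk J p) :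
    Nonempty (X.Equiv X') ↔ ∀ j ∈ J, ∃ z : L, X.incl z = u j ∧ X'.incl z = u' j := by
  constructor
  · rintro ⟨e⟩ j hj
    obtain ⟨z, hz⟩ := (X.isExtension.exact (u j)).1
      (by rw [hu, Ideal.Quotient.eq_zero_iff_mem.2 hj])
    refine ⟨z, hz, ?_⟩
    rw [← e.apply_incl, hz]
    have key : ∀ f ∈ Ideal.span (Set.range (MvPowerSeries.X : Fin d → P)) ^ 2,
        e.toAlgEquiv (u f) = u' f := by
      intro f hf
      rw [pow_two] at hf
      refine Submodule.mul_induction_on hf (fun a ha b hb => ?_)
        (fun a b ha hb => by rw [map_add, map_add, map_add, ha, hb])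
      have hz : ∀ c, ∃ z, e.toAlgEquiv (u c) = u' c + X'.incl z := by
        intro c
        obtain ⟨z, hz⟩ := (X'.isExtension.exact (e.toAlgEquiv (u c) - u' c)).1
          (by rw [map_sub, e.proj_apply, hu, hu', sub_self])
        exact ⟨z, by rw [hz, add_sub_cancel]⟩
      obtain ⟨za, hza⟩ := hz a
      obtain ⟨zb, hzb⟩ := hz b
      have h1 : u' a * X'.incl zb = 0 :=
        mul_incl_eq_zero smul_eq_zero_of_isSimple X' (by rw [hu']; exact mk_X_mem ha) zb
      have h2 : u' b * X'.incl za = 0 :=
        mul_incl_eq_zero smul_eq_zero_of_isSimple X' (by rw [hu']; exact mk_X_mem hb) za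
      have h3 : X'.incl za * X'.incl zb = 0 :=
        mul_incl_eq_zero smul_eq_zero_of_isSimple X' (by rw [proj_incl]; exact zero_mem _) zb
      rw [map_mul, map_mul, map_mul, hza, hzb]
      linear_combination h1 + h2 + h3
    exact key j (hJ hj)
  · intro H
    have hex : ∀ y, ∃ y', ∃ p z, y = u p + X.incl z ∧ y' = u' p + X'.incl z := by
      intro y
      obtain ⟨p, hp⟩ := Ideal.Quotient.mk_surjective (X.proj y)
      obtain ⟨z, hz⟩ := (X.isExtension.exact (y - u p)).1 (by rw [map_sub, hu, hp, sub_self])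
      exact ⟨_, p, z, by rw [hz, add_sub_cancel], rfl⟩
    have huniq : ∀ {p q : P} {z w : L}, u p + X.incl z = u q + X.incl w →
        u' p + X'.incl z = u' q + X'.incl w := by
      intro p q z w h
      have hpq : p - q ∈ J := by
        have := congrArg X.proj h
        rw [map_add, map_add, hu, hu, proj_incl, proj_incl, add_zero, add_zero] at this
        exact Ideal.Quotient.eq.1 this
      obtain ⟨v, hv, hv'⟩ := H _ hpq
      rw [map_sub] at hv hv'
      have : v = w - z := X.isExtension.incl_injective (by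
        rw [hv, map_sub]; linear_combination h)
      subst this
      rw [map_sub] at hv'
      linear_combination -hv'
    choose f p z hy hf using hex
    have hf' : ∀ q w, f (u q + X.incl w) = u' q + X'.incl w := fun q w => by
      rw [hf]; exact (huniq (hy _).symm)
    have hmul : ∀ q w q' w', (u q + X.incl w) * (u q' + X.incl w') =
        u (q * q') + X.incl (Ideal.Quotient.mk J q • w' + Ideal.Quotient.mk J q' • w) := by
      intro q w q' w'
      rw [map_mul, map_add, ← hu q, ← hu q', ← X.isExtension.mul_incl, ← X.isExtension.mul_incl]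
      have h0 : X.incl w * X.incl w' = 0 :=
        mul_incl_eq_zero smul_eq_zero_of_isSimple X (by rw [proj_incl]; exact zero_mem _) w'
      linear_combination h0
    have hmul' : ∀ q w q' w', (u' q + X'.incl w) * (u' q' + X'.incl w') =
        u' (q * q') + X'.incl (Ideal.Quotient.mk J q • w' + Ideal.Quotient.mk J q' • w) := by
      intro q w q' w'
      rw [map_mul, map_add, ← hu' q, ← hu' q', ← X'.isExtension.mul_incl, ← X'.isExtension.mul_incl]
      have h0 : X'.incl w * X'.incl w' = 0 :=
        mul_incl_eq_zero smul_eq_zero_of_isSimple X' (by rw [proj_incl]; exact zero_mem _) w'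
      linear_combination h0
    have hf0 : ∀ q, f (u q) = u' q := fun q => by simpa using hf' q 0
    let F : X.E →ₐ[Λ] X'.E :=
      { toFun := f
        map_one' := by simpa using hf0 1
        map_zero' := by simpa using hf0 0
        map_add' := fun a b => by
          rw [hy a, hy b, show u (p a) + X.incl (z a) + (u (p b) + X.incl (z b)) =
            u (p a + p b) + X.incl (z a + z b) by rw [map_add, map_add]; abel,
            hf', hf', hf', map_add, map_add]
          abel
        map_mul' := fun a b => by rw [hy a, hy b, hmul, hf', hf', hf', hmul']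
        commutes' := fun a => by simpa using hf0 (algebraMap Λ P a) }
    refine ⟨EGA4Alg4.Exal13.equivOfHom F (fun y => ?_) (fun w => ?_)⟩
    · change X'.proj (f y) = _
      rw [hf, map_add, hu', proj_incl]
      conv_rhs => rw [hy y, map_add, hu, proj_incl]
    · change f _ = _
      simpa using hf' 0 w

theorem exists_ext [IsLocalRing Λ] [IsLocalRing (P ⧸ J)] [IsSimpleModule (P ⧸ J) L]
    [Module P L] [IsScalarTower P (P ⧸ J) L]
    (hJ : J ≤ Ideal.span (Set.range (MvPowerSeries.X : Fin d → P)) ^ 2) (δ : J →ₗ[P] L) :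
    ∃ (X : Ext Λ (P ⧸ J) L) (u : P →ₐ[Λ] X.E),
      (∀ p, X.proj (u p) = Ideal.Quotient.mk J p) ∧ ∀ j : J, X.incl (δ j) = u j := by
  have hker : J • (⊤ : Submodule P J) ≤ LinearMap.ker δ := by
    rw [Submodule.smul_le]
    intro a ha x _
    rw [LinearMap.mem_ker, map_smul, ← IsScalarTower.algebraMap_smul (P ⧸ J) a,
      Ideal.Quotient.algebraMap_eq, Ideal.Quotient.eq_zero_iff_mem.2 ha]
    exact zero_smul (P ⧸ J) (δ x)
  let w : J.Cotangent →ₗ[P] L := Submodule.liftQ _ δ hker
  obtain ⟨Y, hY⟩ := EGA4Alg4.Exal13.exists_ext_conormalMap_eq J w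
  refine ⟨Y.restrictBase Λ, { toFun := algebraMap P Y.E
                              map_one' := map_one _
                              map_mul' := map_mul _
                              map_zero' := map_zero _
                              map_add' := map_add _
                              commutes' := fun _ => rfl }, fun p => Y.proj.commutes p, fun j => ?_⟩
  have h : w (J.toCotangent j) = δ j := rfl
  change Y.incl (δ j) = algebraMap P Y.E j
  rw [← h, ← hY]
  exact EGA4Alg4.Exal13.incl_conormalMap J Y j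

end Groth.Agent.Deform85.ExPower
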