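import Groth.Agent.Deform85.ExArtin
import Groth.Agent.Deform85.ExPower
import Groth.Agent.Cohen12.Completion
import Groth.Prelude.Def_Exal2

/-!
Extensions of a Noetherian local ring and of its completion by a simple module.
-/

set_option autoImplicit false

universe u

namespace Groth.Agent.Deform85.ExCompletion

open Exal IsLocalRing ExArtin

variable {R : Type u} [CommRing R] [IsLocalRing R] [IsNoetherianRing R]

local notation "RH" => AdicCompletion (maximalIdeal R) R

lemma evalₐ_algebraMap (n : ℕ) (r : R) :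
    AdicCompletion.evalₐ (maximalIdeal R) n (algebraMap R RH r) = Ideal.Quotient.mk _ r :=
  (AdicCompletion.evalₐ (maximalIdeal R) n).commutes r

lemma mem_pow_iff (n : ℕ) (r : R) :
    algebraMap R RH r ∈ maximalIdeal RH ^ n ↔ r ∈ maximalIdeal R ^ n := by
  rw [← Cohen12.evalₐ_eq_zero_iff, evalₐ_algebraMap, Ideal.Quotient.eq_zero_iff_mem]

lemma exists_sub_mem (n : ℕ) (c : RH) : ∃ r : R, c - algebraMap R RH r ∈ maximalIdeal RH ^ n := by
  obtain ⟨r, hr⟩ := Ideal.Quotient.mk_surjective (AdicCompletion.evalₐ (maximalIdeal R) n c)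
  exact ⟨r, by rw [← Cohen12.evalₐ_eq_zero_iff, map_sub, evalₐ_algebraMap, hr, sub_self]⟩

variable {Λ : Type u} [CommRing Λ] [Algebra Λ R]
variable {L : Type u} [AddCommGroup L] [Module (AdicCompletion (maximalIdeal R) R) L] [Module R L]
  [IsScalarTower R (AdicCompletion (maximalIdeal R) R) L] [IsSimpleModule R L]

lemma smul_completion_eq_zero : ∀ c ∈ maximalIdeal RH, ∀ z : L, c • z = 0 := by
  intro c hc z
  rw [AdicCompletion.maximalIdeal_eq_map] at hc
  unfold Ideal.map at hc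
  induction hc using Submodule.span_induction with
  | mem x hx =>
    obtain ⟨r, hr, rfl⟩ := hx
    rw [algebraMap_smul]
    exact ExPower.smul_eq_zero_of_isSimple r hr z
  | zero => rw [zero_smul]
  | add a b _ _ ha hb => rw [add_smul, ha, hb, add_zero]
  | smul a b _ hb => rw [smul_eq_mul, mul_smul, hb, smul_zero]

/-- The first projection of a pulled back extension. -/
noncomputable def pfst (Z : Ext Λ RH L) : (Z.pullback R).E →ₐ[Λ] Z.E :=
  (AlgHom.fst Λ Z.E R).comp (Z.fiberProd R).val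

omit [IsSimpleModule R L] in
lemma proj_pfst (Z : Ext Λ RH L) (y : (Z.pullback R).E) :
    Z.proj (pfst Z y) = algebraMap R RH ((Z.pullback R).proj y) :=
  (y : Z.fiberProd R).2

omit [IsSimpleModule R L] in
lemma pfst_incl (Z : Ext Λ RH L) (z : L) : pfst Z ((Z.pullback R).incl z) = Z.incl z := rfl

theorem pullback_injective (X X' : Ext Λ RH L)
    (h : Nonempty ((X.pullback R).Equiv (X'.pullback R))) : Nonempty (X.Equiv X') := by
  obtain ⟨e⟩ := h
  haveI := Cohen12.isNoetherianRing_completion R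
  obtain ⟨D, hD⟩ := exists_bound.{u} (R := RH)
  obtain ⟨D₀, hD₀⟩ := exists_bound.{u} (R := R)
  let N := D + D₀ + 1
  have hI : ∀ {Z : Ext Λ RH L}, ∀ y ∈ mE Z ^ N, Z.proj y = 0 → y = 0 := fun {Z} =>
    hD Λ L smul_completion_eq_zero Z N (by omega)
  have hπ : ∀ (Z : Ext Λ RH L) (y : (Z.pullback R).E), y ∈ mE (Z.pullback R) ^ N →
      pfst Z y ∈ mE Z ^ N := by
    intro Z y hy
    have hle : mE (Z.pullback R) ≤ (mE Z).comap (pfst Z) := by
      intro x hx
      rw [Ideal.mem_comap, Ideal.mem_comap, proj_pfst, ← pow_one (maximalIdeal RH), mem_pow_iff, pow_one]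
      exact hx
    exact (Ideal.pow_right_mono hle N).trans (Ideal.le_comap_pow _ _) hy
  let q : (X.pullback R).E →ₐ[Λ] X.E ⧸ mE X ^ N :=
    (Ideal.Quotient.mkₐ Λ _).comp (pfst X)
  let q' : (X.pullback R).E →ₐ[Λ] X'.E ⧸ mE X' ^ N :=
    ((Ideal.Quotient.mkₐ Λ _).comp (pfst X')).comp
      e.toAlgEquiv.toAlgHom
  have hqq' : ∀ y ∈ RingHom.ker q, q' y = 0 := by
    intro y hy
    have hy1 : pfst X y ∈ mE X ^ N := Ideal.Quotient.eq_zero_iff_mem.1 hy
    have hr : (X.pullback R).proj y ∈ maximalIdeal R ^ N := by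
      rw [← mem_pow_iff]
      have h1 := proj_pfst X y
      rw [← h1]
      exact proj_mem_of_mem hy1
    obtain ⟨y₀, hy₀, hp₀⟩ := exists_mem_of_proj_mem (X.pullback R) hr
    obtain ⟨z, hz⟩ := ((X.pullback R).isExtension.exact (y - y₀)).1
      (by rw [map_sub, hp₀, sub_self])
    have hz1 : X.incl z = pfst X y - pfst X y₀ := by
      rw [← map_sub, ← hz]; rfl
    have hz0 : X.incl z = 0 := hI _ (hz1 ▸ sub_mem hy1 (hπ X y₀ hy₀)) (proj_incl X z)
    have hyy : y = y₀ := by
      rw [← sub_eq_zero, ← hz, X.isExtension.incl_injective (hz0.trans (map_zero X.incl).symm),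
        map_zero]
    subst hyy
    refine Ideal.Quotient.eq_zero_iff_mem.2 (hπ X' _ ?_)
    have hle : mE (X.pullback R) ≤ (mE (X'.pullback R)).comap e.toAlgEquiv.toAlgHom := fun x hx => by
      rw [Ideal.mem_comap, Ideal.mem_comap]
      exact (e.proj_apply x).symm ▸ hx
    exact (Ideal.pow_right_mono hle N).trans (Ideal.le_comap_pow _ _) hy₀
  have hqs : Function.Surjective q := by
    intro x
    obtain ⟨x, rfl⟩ := Ideal.Quotient.mk_surjective x
    obtain ⟨r, hr⟩ := exists_sub_mem N (X.proj x)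
    obtain ⟨i, hi, hpi⟩ := exists_mem_of_proj_mem X hr
    refine ⟨(⟨(x - i, r), ?_⟩ : X.fiberProd R), ?_⟩
    · change X.proj (x - i) = algebraMap R RH r
      rw [map_sub, hpi, sub_sub_cancel]
    · change Ideal.Quotient.mk _ (x - i) = Ideal.Quotient.mk _ x
      rw [map_sub, Ideal.Quotient.eq_zero_iff_mem.2 hi, sub_zero]
  let g : X.E →ₐ[Λ] X'.E ⧸ mE X' ^ N :=
    ((Ideal.Quotient.liftₐ (RingHom.ker q) q' hqq').comp
      (Ideal.quotientKerAlgEquivOfSurjective hqs).symm.toAlgHom).comp (Ideal.Quotient.mkₐ Λ _)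
  have hg : ∀ y, g (pfst X y) = q' y := by
    intro y
    change Ideal.Quotient.liftₐ (RingHom.ker q) q' hqq'
      ((Ideal.quotientKerAlgEquivOfSurjective hqs).symm (q y)) = q' y
    rw [Ideal.quotientKerAlgEquivOfSurjective_symm_apply]
    rfl
  have hcomp : ∀ x : X.E, ∃ w, Ideal.Quotient.mk _ w = g x ∧
      X'.proj w - X.proj x ∈ (mE X' ^ N).map X'.proj := by
    intro x
    obtain ⟨y, hy⟩ := hqs (Ideal.Quotient.mk _ x)
    have hyx : pfst X y - x ∈ mE X ^ N := Ideal.Quotient.eq.1 hy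
    refine ⟨pfst X' (e.toAlgEquiv y), ?_, ?_⟩
    · have : g (pfst X y) = g x := congrArg
        ((Ideal.Quotient.liftₐ (RingHom.ker q) q' hqq').comp
          (Ideal.quotientKerAlgEquivOfSurjective hqs).symm.toAlgHom) (Ideal.Quotient.eq.2 hyx)
      rw [← this, hg]
      rfl
    · rw [map_mE_pow]
      have h1 := proj_pfst X y
      have h2 := proj_pfst X' (e.toAlgEquiv y)
      have h3 : (X'.pullback R).proj (e.toAlgEquiv y) = (X.pullback R).proj y := e.proj_apply y
      rw [h2, h3, ← h1, ← map_sub]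
      exact proj_mem_of_mem hyx
  obtain ⟨F, hF1, hF2⟩ := exists_pair (X := X') hI X.proj g hcomp
  refine ⟨{ toAlgEquiv := AlgEquiv.ofBijective F ?_, proj_apply := hF1, apply_incl := ?_ }⟩
  rotate_left
  · intro z
    refine sub_eq_zero.1 (hI _ ?_ ?_)
    · rw [← Ideal.Quotient.eq]
      refine (hF2 _).trans ?_
      refine (hg ((X.pullback R).incl z)).trans ?_
      change Ideal.Quotient.mk _ (pfst X' (e.toAlgEquiv ((X.pullback R).incl z))) = _
      rw [e.apply_incl]
      rfl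
    · rw [map_sub, proj_incl]
      exact (sub_zero _).trans ((hF1 _).trans (proj_incl X z))
  · have hFi : ∀ z, F (X.incl z) = X'.incl z := by
      intro z
      refine sub_eq_zero.1 (hI _ ?_ ?_)
      · rw [← Ideal.Quotient.eq]
        refine (hF2 _).trans ?_
        refine (hg ((X.pullback R).incl z)).trans ?_
        change Ideal.Quotient.mk _ (pfst X' (e.toAlgEquiv ((X.pullback R).incl z))) = _
        rw [e.apply_incl]
        rfl
      · rw [map_sub, hF1, proj_incl, proj_incl, sub_self]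
    refine ⟨(injective_iff_map_eq_zero F).2 fun x hx => ?_, fun y => ?_⟩
    · obtain ⟨z, rfl⟩ := (X.isExtension.exact x).1 (by rw [← hF1, hx, map_zero])
      rw [hFi, ← map_zero X'.incl] at hx
      rw [X'.isExtension.incl_injective hx, map_zero]
    · obtain ⟨x, hx⟩ := X.isExtension.proj_surjective (X'.proj y)
      obtain ⟨z, hz⟩ := (X'.isExtension.exact (y - F x)).1 (by rw [map_sub, hF1, hx, sub_self])
      exact ⟨x + X.incl z, by rw [map_add, hFi, hz, add_sub_cancel]⟩

theorem pullback_surjective (Y : Ext Λ R L) :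
    ∃ X : Ext Λ RH L, Nonempty ((X.pullback R).Equiv Y) := by
  obtain ⟨D, hD⟩ := exists_bound.{u} (R := R)
  let N := D + 1
  have hL := ExPower.smul_eq_zero_of_isSimple (R := R) (L := L)
  have hI : ∀ y ∈ mE Y ^ N, Y.proj y = 0 → y = 0 := hD Λ L hL Y N (Nat.lt_succ_self D)
  let pbar : Y.E ⧸ mE Y ^ N →ₐ[Λ] R ⧸ maximalIdeal R ^ N :=
    Ideal.Quotient.liftₐ _ ((Ideal.Quotient.mkₐ Λ _).comp Y.proj)
      fun y hy => Ideal.Quotient.eq_zero_iff_mem.2 (proj_mem_of_mem hy)
  let evN : RH →ₐ[Λ] R ⧸ maximalIdeal R ^ N :=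
    (AdicCompletion.evalₐ (maximalIdeal R) N).restrictScalars Λ
  have hevN : ∀ r : R, evN (algebraMap R RH r) = Ideal.Quotient.mk _ r := evalₐ_algebraMap N
  let E : Subalgebra Λ (RH × (Y.E ⧸ mE Y ^ N)) :=
    AlgHom.equalizer (evN.comp (AlgHom.fst Λ RH (Y.E ⧸ mE Y ^ N)))
      (pbar.comp (AlgHom.snd Λ RH (Y.E ⧸ mE Y ^ N)))
  have hE : ∀ (c : RH) (y : Y.E), ((c, Ideal.Quotient.mk _ y) : RH × (Y.E ⧸ mE Y ^ N)) ∈ E ↔
      evN c = Ideal.Quotient.mk _ (Y.proj y) := fun c y => Iff.rfl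
  have hinclE : ∀ z, ((0, Ideal.Quotient.mk _ (Y.incl z)) : RH × (Y.E ⧸ mE Y ^ N)) ∈ E := fun z =>
    (hE 0 _).2 (by rw [map_zero, proj_incl, map_zero])
  let incl₀ : L →+ E :=
    { toFun := fun z => ⟨_, hinclE z⟩
      map_zero' := Subtype.ext (Prod.ext rfl
        ((congrArg (Ideal.Quotient.mk (mE Y ^ N)) (map_zero Y.incl)).trans (map_zero _)))
      map_add' := fun a b => Subtype.ext (Prod.ext (add_zero (0 : RH)).symm
        ((congrArg (Ideal.Quotient.mk (mE Y ^ N)) (map_add Y.incl a b)).trans (map_add _ _ _))) }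
  have hext : IsExtension (A := Λ) (B := RH) (E := E) (L := L)
      ((AlgHom.fst Λ RH (Y.E ⧸ mE Y ^ N)).comp E.val) incl₀ := by
    refine ⟨fun c => ?_, fun a b hab => ?_, fun x => ⟨fun hx => ?_, ?_⟩, fun x z => ?_⟩
    · obtain ⟨r, hr⟩ := Ideal.Quotient.mk_surjective (evN c)
      obtain ⟨y, hy⟩ := Y.isExtension.proj_surjective r
      exact ⟨⟨(c, Ideal.Quotient.mk _ y), (hE _ _).2 (by rw [hy, hr])⟩, rfl⟩
    · have h1 : Ideal.Quotient.mk (mE Y ^ N) (Y.incl a) = Ideal.Quotient.mk _ (Y.incl b) :=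
        congrArg (fun x : E => x.1.2) hab
      exact Y.isExtension.incl_injective (sub_eq_zero.1
        (hI _ (Ideal.Quotient.eq.1 h1) (by rw [map_sub, proj_incl, proj_incl, sub_zero])))
    · obtain ⟨⟨c, w⟩, hcw⟩ := x
      change c = 0 at hx
      subst hx
      obtain ⟨w, rfl⟩ := Ideal.Quotient.mk_surjective w
      have h1 := (hE 0 w).1 hcw
      rw [map_zero, eq_comm, Ideal.Quotient.eq_zero_iff_mem] at h1
      obtain ⟨i, hi, hpi⟩ := exists_mem_of_proj_mem Y h1
      obtain ⟨z, hz⟩ := (Y.isExtension.exact (w - i)).1 (by rw [map_sub, hpi, sub_self])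
      refine ⟨z, Subtype.ext (Prod.ext rfl ?_)⟩
      change Ideal.Quotient.mk (mE Y ^ N) (Y.incl z) = _
      rw [hz, map_sub, Ideal.Quotient.eq_zero_iff_mem.2 hi, sub_zero]
    · rintro ⟨z, rfl⟩; rfl
    · obtain ⟨⟨c, w⟩, hcw⟩ := x
      obtain ⟨w, rfl⟩ := Ideal.Quotient.mk_surjective w
      refine Subtype.ext (Prod.ext (mul_zero c) ?_)
      change Ideal.Quotient.mk _ w * Ideal.Quotient.mk _ (Y.incl z) = Ideal.Quotient.mk _ (Y.incl (c • z))
      rw [← map_mul, Y.isExtension.mul_incl]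
      congr 2
      obtain ⟨r, hr⟩ := exists_sub_mem 1 c
      rw [pow_one] at hr
      have hc : c • z = r • z := by
        rw [← algebraMap_smul RH r z, ← sub_eq_zero, ← sub_smul]
        exact smul_completion_eq_zero _ hr z
      rw [hc, ← sub_eq_zero, ← sub_smul]
      refine hL _ ?_ z
      have h1 := (hE c w).1 hcw
      obtain ⟨r', hr'⟩ := Ideal.Quotient.mk_surjective (evN c)
      have h2 : Y.proj w - r' ∈ maximalIdeal R := by
        refine Ideal.pow_le_self (n := N) (Nat.succ_ne_zero D) ?_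
        rw [← Ideal.Quotient.eq, ← h1, hr']
      have h3 : r' - r ∈ maximalIdeal R := by
        have : algebraMap R RH r' - c ∈ maximalIdeal RH ^ N := by
          rw [← Cohen12.evalₐ_eq_zero_iff, map_sub, evalₐ_algebraMap, hr']
          exact sub_self _
        rw [← pow_one (maximalIdeal R), ← mem_pow_iff, pow_one, map_sub,
          show algebraMap R RH r' - algebraMap R RH r =
            (algebraMap R RH r' - c) + (c - algebraMap R RH r) by ring]
        exact add_mem (Ideal.pow_le_self (Nat.succ_ne_zero D) this) hr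
      have := add_mem h2 h3
      rwa [sub_add_sub_cancel] at this
  let X : Ext Λ RH L := ⟨E, (AlgHom.fst Λ RH (Y.E ⧸ mE Y ^ N)).comp E.val, incl₀, hext⟩
  have hmem : ∀ y : Y.E, ((algebraMap R RH (Y.proj y), Ideal.Quotient.mk _ y) :
      RH × (Y.E ⧸ mE Y ^ N)) ∈ E := fun y => (hE _ _).2 (hevN _)
  let g : Y.E →ₐ[Λ] E :=
    (AlgHom.prod ((IsScalarTower.toAlgHom Λ R RH).comp Y.proj) (Ideal.Quotient.mkₐ Λ _)).codRestrict E hmem
  let G : Y.E →ₐ[Λ] (X.pullback R).E :=
    ((AlgHom.prod (show Y.E →ₐ[Λ] X.E from g) Y.proj).codRestrict (X.fiberProd R) fun y => rfl)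
  refine ⟨X, ⟨(Exal.Ext.Equiv.symm ?_)⟩⟩
  refine { toAlgEquiv := AlgEquiv.ofBijective G ?_, proj_apply := fun y => rfl, apply_incl := fun z => ?_ }
  · have hGi : ∀ z, G (Y.incl z) = (X.pullback R).incl z := fun z =>
      Subtype.ext (Prod.ext (Subtype.ext (Prod.ext (by
        change algebraMap R RH (Y.proj (Y.incl z)) = 0
        rw [proj_incl, map_zero]) rfl)) (proj_incl Y z))
    refine ⟨(injective_iff_map_eq_zero G).2 fun y hy => ?_, fun w => ?_⟩
    · have h0 : Y.proj y = 0 := congrArg (X.pullback R).proj hy |>.trans (map_zero _)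
      obtain ⟨z, rfl⟩ := (Y.isExtension.exact y).1 h0
      rw [hGi, ← map_zero (X.pullback R).incl] at hy
      rw [(X.pullback R).isExtension.incl_injective hy, map_zero]
    · obtain ⟨y, hy⟩ := Y.isExtension.proj_surjective ((X.pullback R).proj w)
      obtain ⟨z, hz⟩ := ((X.pullback R).isExtension.exact (w - G y)).1 (by
        rw [map_sub, show (X.pullback R).proj (G y) = Y.proj y from rfl, hy, sub_self])
      exact ⟨y + Y.incl z, by rw [map_add, hGi, hz, add_sub_cancel]⟩
  · exact Subtype.ext (Prod.ext (Subtype.ext (Prod.ext (by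
      change algebraMap R RH (Y.proj (Y.incl z)) = 0
      rw [proj_incl, map_zero]) rfl)) (proj_incl Y z))

end Groth.Agent.Deform85.ExCompletion
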