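import Mathlib.RingTheory.Smooth.Locus
import Mathlib.Algebra.TrivSqZeroExt.Basic
import Mathlib.RingTheory.Nilpotent.Lemmas
import Mathlib.RingTheory.Ideal.MinimalPrime.Basic

/-!
# Square-zero extensions and their conormal sequences
-/

set_option autoImplicit false

universe u

open TensorProduct

noncomputable section

namespace Deform85

variable {A B : Type u} [CommRing A] [CommRing B] [Algebra A B] (P : Algebra.Extension.{u} A B)

lemma smul_zero_of_sq (hsq : P.ker ^ 2 = ⊥) {a b : P.Ring} (ha : a ∈ P.ker) (hb : b ∈ P.ker) : a * b = 0 := by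
  have : a * b ∈ P.ker ^ 2 := by
    rw [pow_two]
    exact Ideal.mul_mem_mul ha hb
  rwa [hsq, Ideal.mem_bot] at this

lemma cotangentMk_injective (hsq : P.ker ^ 2 = ⊥) :
    Function.Injective (Algebra.Extension.Cotangent.mk (P := P)) := by
  refine (injective_iff_map_eq_zero _).2 fun x hx => Subtype.ext ?_
  have := (Algebra.Extension.Cotangent.mk_eq_zero_iff x).1 hx
  rwa [hsq, Ideal.mem_bot] at this

section Local

variable (p : Ideal B) [p.IsPrime]

/-- At a formally smooth point an element of the kernel of the conormal map is killed by a denominator. -/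
theorem exists_smul_eq_zero_of_formallySmooth (hsq : P.ker ^ 2 = ⊥)
    [Algebra.FormallySmooth A (Localization.AtPrime p)] (x : P.Cotangent)
    (hx : P.cotangentComplex x = 0) : ∃ t ∉ p, t • x = 0 := by
  obtain ⟨⟨e, he⟩, rfl⟩ := Algebra.Extension.Cotangent.mk_surjective x
  let f : P.Ring →+* B := algebraMap P.Ring B
  have hf : Function.Surjective f := P.algebraMap_surjective
  let q : Ideal P.Ring := p.comap f
  let E := Localization.AtPrime q
  let g₀ : E →+* Localization.AtPrime p := Localization.localRingHom q p f rfl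
  let g : E →ₐ[A] Localization.AtPrime p := AlgHom.mk g₀ fun a => by
    change g₀ (algebraMap A E a) = _
    rw [IsScalarTower.algebraMap_apply A P.Ring E, Localization.localRingHom_to_map,
      IsScalarTower.algebraMap_apply A B (Localization.AtPrime p), IsScalarTower.algebraMap_apply A P.Ring B]
  have hg : Function.Surjective g := by
    intro y
    obtain ⟨⟨b, s⟩, rfl⟩ := IsLocalization.mk'_surjective p.primeCompl y
    obtain ⟨r, rfl⟩ := hf b
    obtain ⟨t, ht⟩ := hf (s : B)
    refine ⟨IsLocalization.mk' E r (⟨t, fun h => s.2 (ht ▸ h)⟩ : q.primeCompl), ?_⟩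
    change g₀ _ = _
    rw [Localization.localRingHom_mk']
    congr 1
    exact Subtype.ext ht
  have hker : RingHom.ker g₀ ≤ P.ker.map (algebraMap P.Ring E) := by
    intro y hy
    obtain ⟨⟨r, s⟩, rfl⟩ := IsLocalization.mk'_surjective q.primeCompl y
    rw [RingHom.mem_ker, Localization.localRingHom_mk', IsLocalization.mk'_eq_zero_iff] at hy
    obtain ⟨⟨t, ht⟩, htr⟩ := hy
    obtain ⟨t', rfl⟩ := hf t
    exact (IsLocalization.mk'_mem_map_algebraMap_iff q.primeCompl E P.ker r s).2
      ⟨t', ht, by change f (t' * r) = 0; rw [map_mul]; exact htr⟩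
  have hJ : ∀ a ∈ RingHom.ker g₀, ∀ b ∈ RingHom.ker g₀, a * b = 0 := fun a ha b hb => by
    have : a * b ∈ (P.ker ^ 2).map (algebraMap P.Ring E) := by
      rw [Ideal.map_pow, pow_two]
      exact Ideal.mul_mem_mul (hker ha) (hker hb)
    rwa [hsq, Ideal.map_bot, Ideal.mem_bot] at this
  have hnil : IsNilpotent (RingHom.ker (g : E →+* Localization.AtPrime p)) := by
    refine ⟨2, ?_⟩
    rw [pow_two, Submodule.zero_eq_bot, eq_bot_iff]
    exact Ideal.mul_le.2 fun a ha b hb => Ideal.mem_bot.2 (hJ a ha b hb)
  let s : Localization.AtPrime p →ₐ[A] E :=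
    Algebra.FormallySmooth.liftOfSurjective (AlgHom.id A _) g hg hnil
  have hs : ∀ y, g (s y) = y := fun y => Algebra.FormallySmooth.liftOfSurjective_apply _ _ _ _ y
  have hgj : ∀ r, g (algebraMap P.Ring E r) = algebraMap B _ (f r) := fun r =>
    Localization.localRingHom_to_map q p f rfl r
  let D₀ : P.Ring → E := fun r => algebraMap P.Ring E r - s (algebraMap B _ (f r))
  have hD₀ : ∀ r, D₀ r ∈ RingHom.ker g₀ := fun r => by
    change g (D₀ r) = 0
    rw [map_sub, hgj, hs, sub_self]
  let J : Submodule P.Ring E := (RingHom.ker g₀).restrictScalars P.Ring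
  let D : Derivation A P.Ring J := Derivation.mk'
    { toFun := fun r => ⟨D₀ r, hD₀ r⟩
      map_add' := fun a b => Subtype.ext (by
        change D₀ (a + b) = D₀ a + D₀ b
        simp only [D₀, map_add]; ring)
      map_smul' := fun c r => Subtype.ext (by
        change D₀ (c • r) = c • D₀ r
        simp only [D₀, f, Algebra.smul_def, map_mul, ← IsScalarTower.algebraMap_apply, AlgHom.commutes]
        ring) }
    (fun a b => Subtype.ext (by
      change D₀ (a * b) = a • D₀ b + b • D₀ a
      have h0 := hJ _ (hD₀ a) _ (hD₀ b)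
      simp only [D₀, map_mul, Algebra.smul_def] at h0 ⊢
      linear_combination -h0))
  have hkill : ∀ r ∈ P.ker, ∀ y : J, r • y = 0 := by
    intro r hr y
    refine Subtype.ext ?_
    change r • (y : E) = 0
    rw [Algebra.smul_def]
    refine hJ _ ?_ _ y.2
    change g (algebraMap P.Ring E r) = 0
    rw [hgj, show f r = 0 from hr, map_zero]
  have hsigma : ∀ r r' : P.Ring, f r = f r' → ∀ y : J, r • y = r' • y := fun r r' h y => by
    refine Subtype.ext ?_
    have h0 := congrArg Subtype.val (hkill (r - r')
      (by change f (r - r') = 0; rw [map_sub, h, sub_self]) y)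
    change (r - r') • (y : E) = 0 at h0
    rw [sub_smul, sub_eq_zero] at h0
    exact h0
  have hσ : ∀ b, f (P.σ b) = b := P.algebraMap_σ
  let L := D.liftKaehlerDifferential
  let Φ : B ⊗[P.Ring] Ω[P.Ring⁄A] →+ J := TensorProduct.liftAddHom
    { toFun := fun b =>
        { toFun := fun w => P.σ b • L w
          map_zero' := by rw [map_zero, smul_zero]
          map_add' := fun w w' => by rw [map_add, smul_add] }
      map_zero' := AddMonoidHom.ext fun w => by
        change P.σ 0 • L w = 0
        exact hkill _ (hσ 0) _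
      map_add' := fun b b' => AddMonoidHom.ext fun w => by
        change P.σ (b + b') • L w = P.σ b • L w + P.σ b' • L w
        rw [← add_smul]
        exact hsigma _ _ (by rw [map_add, hσ, hσ, hσ]) _ }
    (fun r b w => by
      change P.σ (r • b) • L w = P.σ b • L (r • w)
      rw [map_smul, smul_smul]
      exact hsigma _ _ (by rw [map_mul, hσ, hσ, Algebra.smul_def, mul_comm]) _)
  have hzero : (D e : J) = 0 := by
    rw [Algebra.Extension.cotangentComplex_mk] at hx
    have h1 := congrArg Φ hx
    rw [map_zero] at h1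
    have h2 : P.σ 1 • L (KaehlerDifferential.D A P.Ring e) = 0 := h1
    rw [Derivation.liftKaehlerDifferential_comp_D, hsigma (P.σ 1) 1 (by rw [hσ, map_one]) _, one_smul] at h2
    exact h2
  have hzero' : algebraMap P.Ring E e = 0 := by
    have := congrArg Subtype.val hzero
    change D₀ e = 0 at this
    simp only [D₀, show f e = 0 from he, map_zero, sub_zero] at this
    exact this
  obtain ⟨t, ht⟩ := (IsLocalization.map_eq_zero_iff q.primeCompl E e).1 hzero'
  refine ⟨f t, t.2, ?_⟩
  change algebraMap P.Ring B (t : P.Ring) • _ = _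
  rw [algebraMap_smul, ← map_smul]
  convert map_zero (Algebra.Extension.Cotangent.mk (P := P)) using 2
  exact Subtype.ext ht

end Local

/-- For a reduced algebra, formally smooth at its minimal primes, the conormal map of a square-zero extension with
projective kernel is injective. -/
theorem cotangentComplex_injective_of_sq_zero (hsq : P.ker ^ 2 = ⊥) [IsReduced B]
    (hsm : ∀ p : PrimeSpectrum B, p.asIdeal ∈ minimalPrimes B → Algebra.IsSmoothAt A p.asIdeal)
    [Module.Projective B P.Cotangent] : Function.Injective P.cotangentComplex := by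
  refine (injective_iff_map_eq_zero _).2 fun x hx => ?_
  obtain ⟨s, hs⟩ := Module.projective_def'.1 ‹Module.Projective B P.Cotangent›
  suffices h : s x = 0 by
    have := LinearMap.congr_fun hs x
    rw [LinearMap.comp_apply, h, map_zero, LinearMap.id_apply] at this
    exact this.symm
  ext i
  rw [Finsupp.zero_apply]
  refine IsNilpotent.eq_zero (mem_nilradical.1 ?_)
  rw [nilradical, ← Ideal.sInf_minimalPrimes, Submodule.mem_sInf]
  intro p hp
  have hpp : Ideal.IsPrime p := hp.1.1
  have : Algebra.FormallySmooth A (Localization.AtPrime p) := hsm ⟨p, hpp⟩ hp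
  obtain ⟨t, ht, htx⟩ := exists_smul_eq_zero_of_formallySmooth P p hsq x hx
  have : t * s x i = 0 := by rw [← smul_eq_mul, ← Finsupp.smul_apply, ← map_smul, htx, map_zero]; rfl
  exact (hpp.mem_or_mem (this ▸ zero_mem p)).resolve_left ht

end Deform85
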