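import Groth.Agent.Deform85.ExConormal

/-!
# Extensions of an algebra and extensions of its module of differentials
-/

set_option autoImplicit false

universe u

open TensorProduct

noncomputable section

namespace Deform85

variable {A B : Type u} [CommRing A] [CommRing B] [Algebra A B]

section Unique

variable (P P' : Algebra.Extension.{u} A B) (hsq' : P'.ker ^ 2 = ⊥)
variable (hinj' : Function.Injective P'.cotangentComplex)

include hsq' hinj' in
lemma eq_of_algebraMap_eq_of_dTmul_eq {r r' : P'.Ring}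
    (h1 : algebraMap P'.Ring B r = algebraMap P'.Ring B r')
    (h2 : (1 : B) ⊗ₜ[P'.Ring] KaehlerDifferential.D A P'.Ring r =
      (1 : B) ⊗ₜ KaehlerDifferential.D A P'.Ring r') : r = r' := by
  have hmem : r - r' ∈ P'.ker := by
    change algebraMap P'.Ring B (r - r') = 0
    rw [map_sub, h1, sub_self]
  have h : Algebra.Extension.Cotangent.mk (P := P') ⟨r - r', hmem⟩ = 0 := by
    apply hinj'
    rw [Algebra.Extension.cotangentComplex_mk, map_zero]
    change (1 : B) ⊗ₜ[P'.Ring] KaehlerDifferential.D A P'.Ring (r - r') = 0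
    rw [map_sub, tmul_sub, h2, sub_self]
  have := cotangentMk_injective P' hsq' (h.trans (map_zero _).symm)
  exact sub_eq_zero.1 (congrArg Subtype.val this)

lemma dTmul_mul (r s : P.Ring) :
    (1 : B) ⊗ₜ[P.Ring] KaehlerDifferential.D A P.Ring (r * s) =
      algebraMap P.Ring B r • ((1 : B) ⊗ₜ KaehlerDifferential.D A P.Ring s) +
      algebraMap P.Ring B s • ((1 : B) ⊗ₜ KaehlerDifferential.D A P.Ring r) := by
  rw [Derivation.leibniz, tmul_add, ← smul_tmul, ← smul_tmul, smul_tmul' , smul_tmul', Algebra.smul_def,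
    Algebra.smul_def, smul_eq_mul, smul_eq_mul]

lemma toKaehler_dTmul (r : P.Ring) :
    P.toKaehler ((1 : B) ⊗ₜ KaehlerDifferential.D A P.Ring r) =
      KaehlerDifferential.D A B (algebraMap P.Ring B r) := by
  change KaehlerDifferential.mapBaseChange A P.Ring B ((1 : B) ⊗ₜ KaehlerDifferential.D A P.Ring r) = _
  rw [KaehlerDifferential.mapBaseChange_tmul, one_smul, KaehlerDifferential.map_D]

include hsq' hinj' in
theorem exists_hom_of_conormal_iso (e₂ : P.CotangentSpace →ₗ[B] P'.CotangentSpace)
    (h₂ : ∀ y, P'.toKaehler (e₂ y) = P.toKaehler y) :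
    ∃ f : P.Hom P', ∀ r, (1 : B) ⊗ₜ[P'.Ring] KaehlerDifferential.D A P'.Ring (f.toRingHom r) =
      e₂ ((1 : B) ⊗ₜ KaehlerDifferential.D A P.Ring r) := by
  have hex : ∀ r : P.Ring, ∃ r' : P'.Ring, algebraMap P'.Ring B r' = algebraMap P.Ring B r ∧
      (1 : B) ⊗ₜ[P'.Ring] KaehlerDifferential.D A P'.Ring r' =
        e₂ ((1 : B) ⊗ₜ KaehlerDifferential.D A P.Ring r) := by
    intro r
    let r₀ := P'.σ (algebraMap P.Ring B r)
    have hr₀ : algebraMap P'.Ring B r₀ = algebraMap P.Ring B r := P'.algebraMap_σ _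
    have hk : P'.toKaehler (e₂ ((1 : B) ⊗ₜ KaehlerDifferential.D A P.Ring r) -
        (1 : B) ⊗ₜ KaehlerDifferential.D A P'.Ring r₀) = 0 := by
      rw [map_sub, h₂, toKaehler_dTmul, toKaehler_dTmul, hr₀, sub_self]
    obtain ⟨z, hz⟩ := (Algebra.Extension.exact_cotangentComplex_toKaehler (P := P') _).1 hk
    obtain ⟨⟨j, hj⟩, rfl⟩ := Algebra.Extension.Cotangent.mk_surjective z
    refine ⟨r₀ + j, by rw [map_add, show algebraMap P'.Ring B j = 0 from hj, add_zero, hr₀], ?_⟩
    rw [Algebra.Extension.cotangentComplex_mk] at hz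
    rw [map_add, tmul_add, hz, add_sub_cancel]
  choose g hg₁ hg₂ using hex
  have huniq : ∀ r r', algebraMap P'.Ring B r' = algebraMap P.Ring B r →
      (1 : B) ⊗ₜ[P'.Ring] KaehlerDifferential.D A P'.Ring r' =
        e₂ ((1 : B) ⊗ₜ KaehlerDifferential.D A P.Ring r) → g r = r' := fun r r' h1 h2 =>
    eq_of_algebraMap_eq_of_dTmul_eq P' hsq' hinj' ((hg₁ r).trans h1.symm) ((hg₂ r).trans h2.symm)
  have hcomm : ∀ a, g (algebraMap A P.Ring a) = algebraMap A P'.Ring a := fun a => huniq _ _
    (by rw [← IsScalarTower.algebraMap_apply, ← IsScalarTower.algebraMap_apply])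
    (by rw [Derivation.map_algebraMap, Derivation.map_algebraMap, tmul_zero, tmul_zero, map_zero])
  refine ⟨{
    toRingHom :=
      { toFun := g
        map_one' := by rw [← map_one (algebraMap A P.Ring), hcomm, map_one]
        map_mul' := fun r s => huniq _ _ (by rw [map_mul, map_mul, hg₁, hg₁]) (by
          rw [dTmul_mul, dTmul_mul, map_add, map_smul, map_smul, hg₁, hg₁, hg₂, hg₂])
        map_zero' := by rw [← map_zero (algebraMap A P.Ring), hcomm, map_zero]
        map_add' := fun r s => huniq _ _ (by rw [map_add, map_add, hg₁, hg₁]) (by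
          rw [map_add, map_add, tmul_add, tmul_add, map_add, hg₂, hg₂]) }
    toRingHom_algebraMap := hcomm
    algebraMap_toRingHom := hg₁ }, hg₂⟩

end Unique

/-- An isomorphism of conormal sequences comes from a bijective map of extensions. -/
theorem exists_bijective_hom_of_conormal_iso (P P' : Algebra.Extension.{u} A B)
    (hsq : P.ker ^ 2 = ⊥) (hsq' : P'.ker ^ 2 = ⊥) (hinj : Function.Injective P.cotangentComplex)
    (e₁ : P.Cotangent ≃ₗ[B] P'.Cotangent) (e₂ : P.CotangentSpace ≃ₗ[B] P'.CotangentSpace)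
    (h₁ : ∀ x, e₂ (P.cotangentComplex x) = P'.cotangentComplex (e₁ x))
    (h₂ : ∀ y, P'.toKaehler (e₂ y) = P.toKaehler y) :
    ∃ f : P.Hom P', Function.Bijective f.toRingHom ∧
      Algebra.Extension.Cotangent.map f = e₁.toLinearMap := by
  have hinj' : Function.Injective P'.cotangentComplex := by
    intro a b hab
    apply e₁.symm.injective
    apply hinj
    apply e₂.injective
    rw [h₁, h₁, e₁.apply_symm_apply, e₁.apply_symm_apply, hab]
  obtain ⟨f, hf⟩ := exists_hom_of_conormal_iso P P' hsq' hinj' e₂.toLinearMap h₂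
  obtain ⟨g, hg⟩ := exists_hom_of_conormal_iso P' P hsq hinj e₂.symm.toLinearMap
    (fun y => by rw [← h₂]; exact congrArg _ (e₂.apply_symm_apply y))
  refine ⟨f, ⟨Function.LeftInverse.injective (g := g.toRingHom) fun r =>
      eq_of_algebraMap_eq_of_dTmul_eq P hsq hinj (by simp) (by
        rw [hg, hf]; exact e₂.symm_apply_apply _),
    Function.RightInverse.surjective (g := g.toRingHom) fun r =>
      eq_of_algebraMap_eq_of_dTmul_eq P' hsq' hinj' (by simp) (by
        rw [hf, hg]; exact e₂.apply_symm_apply _)⟩, ?_⟩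
  refine LinearMap.ext fun x => hinj' ?_
  obtain ⟨j, rfl⟩ := Algebra.Extension.Cotangent.mk_surjective x
  rw [Algebra.Extension.Cotangent.map_mk, Algebra.Extension.cotangentComplex_mk]
  change _ = P'.cotangentComplex (e₁ _)
  rw [← h₁, Algebra.Extension.cotangentComplex_mk]
  exact hf j

/-- Every extension of the differentials comes from a square-zero extension of the algebra. -/
theorem exists_extension_realizing {M N : Type u} [AddCommGroup M] [Module B M] [AddCommGroup N] [Module B N]
    (i : M →ₗ[B] N) (q : N →ₗ[B] Ω[B⁄A]) (hi : Function.Injective i) (hq : Function.Surjective q)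
    (hex : Function.Exact i q) :
    ∃ P : Algebra.Extension.{u} A B, P.ker ^ 2 = ⊥ ∧
      ∃ (e₁ : P.Cotangent ≃ₗ[B] M) (e₂ : P.CotangentSpace ≃ₗ[B] N),
        (∀ x, e₂ (P.cotangentComplex x) = i (e₁ x)) ∧ (∀ y, q (e₂ y) = P.toKaehler y) := by
  letI : Module Bᵐᵒᵖ N := Module.compHom N (RingEquiv.toOpposite B).symm.toRingHom
  haveI : IsCentralScalar B N := ⟨fun _ _ => rfl⟩
  letI : Module A N := Module.compHom N (algebraMap A B)
  haveI : IsScalarTower A B N := IsScalarTower.of_compHom A B N
  let S : Subalgebra A (TrivSqZeroExt B N) :=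
    { carrier := {x | q x.snd = KaehlerDifferential.D A B x.fst}
      mul_mem' := fun {x y} hx hy => by
        change q _ = _
        rw [TrivSqZeroExt.snd_mul, op_smul_eq_smul, TrivSqZeroExt.fst_mul, map_add, map_smul, map_smul,
          Derivation.leibniz, show q x.snd = _ from hx, show q y.snd = _ from hy]
      add_mem' := fun {x y} hx hy => by
        change q _ = _
        rw [TrivSqZeroExt.snd_add, TrivSqZeroExt.fst_add, map_add, map_add, show q x.snd = _ from hx,
          show q y.snd = _ from hy]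
      algebraMap_mem' := fun a => by
        change q _ = _
        rw [TrivSqZeroExt.algebraMap_eq_inl', TrivSqZeroExt.snd_inl, TrivSqZeroExt.fst_inl,
          Derivation.map_algebraMap, map_zero] }
  have hS : ∀ x, x ∈ S ↔ q x.snd = KaehlerDifferential.D A B x.fst := fun _ => Iff.rfl
  let π : S →ₐ[A] B := (TrivSqZeroExt.fstHom A B N).comp S.val
  have hπs : Function.Surjective π := by
    intro b
    obtain ⟨n, hn⟩ := hq (KaehlerDifferential.D A B b)
    exact ⟨⟨TrivSqZeroExt.inl b + TrivSqZeroExt.inr n, (hS _).2 (by simp [hn])⟩, by simp [π]⟩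
  let P : Algebra.Extension.{u} A B := Algebra.Extension.ofSurjective π hπs
  let fs : P.Ring → TrivSqZeroExt B N := Subtype.val
  have hfst : ∀ r, algebraMap P.Ring B r = (fs r).fst := fun _ => rfl
  have hker : ∀ r, r ∈ P.ker ↔ (fs r).fst = 0 := fun _ => Iff.rfl
  have hsq : P.ker ^ 2 = ⊥ := by
    rw [pow_two, eq_bot_iff]
    refine Ideal.mul_le.2 fun x hx y hy => Ideal.mem_bot.2 (Subtype.ext ?_)
    change fs x * fs y = 0
    refine TrivSqZeroExt.ext ?_ ?_
    · rw [TrivSqZeroExt.fst_mul, (hker x).1 hx, zero_mul]; rfl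
    · rw [TrivSqZeroExt.snd_mul, op_smul_eq_smul, (hker x).1 hx, (hker y).1 hy, zero_smul, zero_smul,
        add_zero]; rfl
  have hmem : ∀ m, TrivSqZeroExt.inr (i m) ∈ S := fun m => (hS _).2 (by simp [hex.apply_apply_eq_zero])
  let jm : M → P.ker := fun m => ⟨⟨TrivSqZeroExt.inr (i m), hmem m⟩, (hker _).2 (TrivSqZeroExt.fst_inr B (i m))⟩
  let ε : M →ₗ[B] P.Cotangent :=
    { toFun := fun m => Algebra.Extension.Cotangent.mk (jm m)
      map_add' := fun m m' => by
        rw [← map_add]
        refine congrArg _ (Subtype.ext (Subtype.ext ?_))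
        change TrivSqZeroExt.inr (i (m + m')) = TrivSqZeroExt.inr (i m) + TrivSqZeroExt.inr (i m')
        rw [map_add, TrivSqZeroExt.inr_add]
      map_smul' := fun b m => by
        obtain ⟨r, rfl⟩ := P.algebraMap_surjective b
        rw [RingHom.id_apply, algebraMap_smul B r (Algebra.Extension.Cotangent.mk (jm m)), ← map_smul]
        refine congrArg _ (Subtype.ext (Subtype.ext ?_))
        change TrivSqZeroExt.inr (i (algebraMap P.Ring B r • m)) = fs r * TrivSqZeroExt.inr (i m)
        refine TrivSqZeroExt.ext (by simp) ?_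
        simp [hfst, map_smul] }
  have hε : Function.Bijective ε := by
    refine ⟨fun m m' h => hi ?_, fun z => ?_⟩
    · have := congrArg (fun r : P.ker => (fs r.1).snd) (cotangentMk_injective P hsq h)
      simpa [jm, fs] using this
    · obtain ⟨⟨r, hr⟩, rfl⟩ := Algebra.Extension.Cotangent.mk_surjective z
      obtain ⟨m, hm⟩ := (hex ((fs r).snd)).1 (by rw [(hS (fs r)).1 r.2, (hker r).1 hr, map_zero])
      refine ⟨m, congrArg _ (Subtype.ext (Subtype.ext ?_))⟩
      exact TrivSqZeroExt.ext ((TrivSqZeroExt.fst_inr _ _).trans ((hker r).1 hr).symm)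
        ((TrivSqZeroExt.snd_inr _ _).trans hm)
  let e₁ : P.Cotangent ≃ₗ[B] M := (LinearEquiv.ofBijective ε hε).symm
  letI : Module P.Ring N := Module.compHom N (algebraMap P.Ring B)
  haveI : IsScalarTower P.Ring B N := IsScalarTower.of_compHom P.Ring B N
  haveI : IsScalarTower A P.Ring N := IsScalarTower.of_algebraMap_smul fun a n => by
    change algebraMap P.Ring B (algebraMap A P.Ring a) • n = algebraMap A B a • n
    rw [← IsScalarTower.algebraMap_apply]
  let d : Derivation A P.Ring N := Derivation.mk'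
    { toFun := fun r => (fs r).snd
      map_add' := fun _ _ => rfl
      map_smul' := fun a r => by
        change (fs (a • r)).snd = algebraMap A B a • (fs r).snd
        rw [show fs (a • r) = a • fs r from rfl, TrivSqZeroExt.snd_smul]
        rfl }
    (fun x y => by
      change (fs x * fs y).snd = (fs x).fst • (fs y).snd + (fs y).fst • (fs x).snd
      rw [TrivSqZeroExt.snd_mul, op_smul_eq_smul])
  let Φ : P.CotangentSpace →ₗ[B] N := LinearMap.liftBaseChange B d.liftKaehlerDifferential
  have hΦ : ∀ (b : B) (r : P.Ring), Φ (b ⊗ₜ KaehlerDifferential.D A P.Ring r) = b • (fs r).snd := fun b r => by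
    change LinearMap.liftBaseChange B d.liftKaehlerDifferential _ = _
    rw [LinearMap.liftBaseChange_tmul, Derivation.liftKaehlerDifferential_comp_D]
    rfl
  have hqΦ : ∀ y, q (Φ y) = P.toKaehler y := by
    intro y
    induction y using TensorProduct.induction_on with
    | zero => simp
    | add x y hx hy => rw [map_add, map_add, hx, hy, map_add]
    | tmul b w =>
      have hw : w ∈ Submodule.span P.Ring (Set.range (KaehlerDifferential.D A P.Ring)) := by
        rw [KaehlerDifferential.span_range_derivation]; trivial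
      induction hw using Submodule.span_induction generalizing b with
      | mem w hw =>
        obtain ⟨r, rfl⟩ := hw
        rw [hΦ, map_smul, (hS (fs r)).1 r.2, show b ⊗ₜ[P.Ring] KaehlerDifferential.D A P.Ring r =
          b • ((1 : B) ⊗ₜ[P.Ring] KaehlerDifferential.D A P.Ring r) by
            rw [smul_tmul', smul_eq_mul, mul_one], map_smul, toKaehler_dTmul, ← hfst]
      | zero => simp
      | add u v _ _ hu hv => rw [tmul_add, map_add, map_add, hu, hv, map_add]
      | smul r u _ hu => rw [← smul_tmul, hu]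
  have hΦcc : ∀ m, Φ (P.cotangentComplex (ε m)) = i m := fun m => by
    change Φ (P.cotangentComplex (Algebra.Extension.Cotangent.mk (jm m))) = _
    rw [Algebra.Extension.cotangentComplex_mk, hΦ, one_smul]
    rfl
  have hΦbij : Function.Bijective Φ := by
    refine ⟨(injective_iff_map_eq_zero Φ).2 fun y hy => ?_, fun n => ?_⟩
    · obtain ⟨z, rfl⟩ := (Algebra.Extension.exact_cotangentComplex_toKaehler (P := P) y).1
        (by rw [← hqΦ, hy, map_zero])
      obtain ⟨m, rfl⟩ := hε.2 z
      rw [hΦcc, ← map_zero i] at hy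
      rw [hi hy, map_zero, map_zero]
    · obtain ⟨y, hy⟩ := Algebra.Extension.toKaehler_surjective (P := P) (q n)
      obtain ⟨m, hm⟩ := (hex (n - Φ y)).1 (by rw [map_sub, hqΦ, hy, sub_self])
      exact ⟨y + P.cotangentComplex (ε m), by rw [map_add, hΦcc, hm, add_sub_cancel]⟩
  refine ⟨P, hsq, e₁, LinearEquiv.ofBijective Φ hΦbij, fun x => ?_, hqΦ⟩
  obtain ⟨m, rfl⟩ := hε.2 x
  rw [show e₁ (ε m) = m from (LinearEquiv.ofBijective ε hε).symm_apply_apply m]
  exact hΦcc m

end Deform85
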