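import Groth.Agent.Deform85.ExArtin
import Mathlib.RingTheory.HopkinsLevitzki
import Mathlib.RingTheory.Noetherian.OfPrime
import Mathlib.RingTheory.Artinian.Ring
import Mathlib.RingTheory.Ideal.Quotient.Operations
import Mathlib.RingTheory.LocalRing.ResidueField.Basic
import Mathlib.Algebra.Algebra.Subalgebra.Basic
import Mathlib.Algebra.Algebra.Prod

/-!
Triviality of extensions by the residue field and lifting along small extensions of Artinian rings.
-/

set_option autoImplicit false

universe u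

namespace Groth.Agent.Deform85.ExSmall

open Exal IsLocalRing ExArtin

variable {k : Type u} [Field k] {Λ : Type u} [CommRing Λ] [Algebra k Λ]
variable {R : Type u} [CommRing R] [Algebra Λ R] [IsLocalRing R]

lemma residue_smul_eq_zero :
    ∀ r ∈ maximalIdeal R, ∀ z : ResidueField R, r • z = 0 := by
  intro r hr z
  obtain ⟨s, rfl⟩ := residue_surjective z
  change residue R (r * s) = 0
  exact (residue_eq_zero_iff _).2 (Ideal.mul_mem_right _ _ hr)

lemma isNoetherianRing_ext [IsNoetherianRing R] (X : Ext Λ R (ResidueField R)) :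
    IsNoetherianRing X.E := by
  refine IsNoetherianRing.of_prime fun P hP => ?_
  have hK : RingHom.ker X.proj ≤ P := by
    intro y hy
    obtain ⟨z, rfl⟩ := (X.isExtension.exact y).1 hy
    refine hP.mem_of_pow_mem 2 ?_
    rw [pow_two, X.isExtension.mul_incl, proj_incl, zero_smul, map_zero]
    exact zero_mem _
  have hKfg : (RingHom.ker X.proj).FG := by
    refine ⟨{X.incl 1}, le_antisymm ?_ ?_⟩
    · simp [Ideal.span_le, proj_incl]
    · intro y hy
      obtain ⟨z, rfl⟩ := (X.isExtension.exact y).1 hy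
      obtain ⟨r, rfl⟩ := residue_surjective z
      obtain ⟨e, rfl⟩ := X.isExtension.proj_surjective r
      rw [Finset.coe_singleton, Ideal.mem_span_singleton']
      refine ⟨e, ?_⟩
      rw [X.isExtension.mul_incl, Algebra.smul_def, mul_one]
      rfl
  obtain ⟨s, hs⟩ := (P.map X.proj).fg_of_isNoetherianRing
  classical
  choose σ hσ using X.isExtension.proj_surjective
  obtain ⟨t, ht⟩ := hKfg
  refine ⟨s.image σ ∪ t, ?_⟩
  rw [Finset.coe_union, Ideal.span_union]
  rw [ht]
  have h1 : Ideal.span (↑(s.image σ) : Set X.E) ⊔ RingHom.ker X.proj =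
      ((Ideal.span (↑(s.image σ) : Set X.E)).map X.proj).comap X.proj :=
    (Ideal.comap_map_of_surjective' _ X.isExtension.proj_surjective _).symm
  rw [h1, Ideal.map_span, Finset.coe_image, ← Set.image_comp]
  have : (X.proj ∘ σ) = id := funext hσ
  rw [this, Set.image_id, hs, Ideal.comap_map_of_surjective' _ X.isExtension.proj_surjective,
    sup_eq_left.2 hK]

theorem exists_section_of_small [IsNoetherianRing R]
    (hR : ∀ r : R, ∃ c : k, r - algebraMap Λ R (algebraMap k Λ c) ∈ maximalIdeal R)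
    (H : ∀ (B : Type u) [CommRing B] [Algebra Λ B] [IsLocalRing B] [IsArtinianRing B],
      (∀ b : B, ∃ c : k, b - algebraMap Λ B (algebraMap k Λ c) ∈ maximalIdeal B) →
      ∀ t : B, t ∈ maximalIdeal B → (∀ b ∈ maximalIdeal B, b * t = 0) →
      ∀ φ : R →ₐ[Λ] B ⧸ Ideal.span {t},
        ∃ φ' : R →ₐ[Λ] B, (Ideal.Quotient.mkₐ Λ (Ideal.span {t})).comp φ' = φ)
    (X : Ext Λ R (ResidueField R)) : X.IsTrivial := by
  obtain ⟨D, hD⟩ := exists_bound.{u} (R := R)
  let N := D + 1
  let I : Ideal X.E := mE X ^ N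
  have hI : ∀ y ∈ I, X.proj y = 0 → y = 0 := hD Λ _ residue_smul_eq_zero X N (by omega)
  haveI := isLocalRing X
  haveI := isNoetherianRing_ext X
  have hm := maximalIdeal_eq X
  have hItop : I ≠ ⊤ := fun h => (maximalIdeal.isMaximal X.E).ne_top
    (top_le_iff.1 (h.symm.le.trans ((Ideal.pow_le_self (by omega)).trans hm.ge)))
  haveI : Nontrivial (X.E ⧸ I) := Ideal.Quotient.nontrivial_iff.mpr hItop
  haveI : IsLocalRing (X.E ⧸ I) := .of_surjective' _ Ideal.Quotient.mk_surjective
  have hmB : maximalIdeal (X.E ⧸ I) = (mE X).map (Ideal.Quotient.mk I) := by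
    rw [← hm]
    exact (IsLocalRing.map_maximalIdeal_of_surjective _ Ideal.Quotient.mk_surjective).symm
  haveI : IsNoetherianRing (X.E ⧸ I) := isNoetherianRing_of_surjective X.E _ _ Ideal.Quotient.mk_surjective
  haveI : IsArtinianRing (X.E ⧸ I) := by
    rw [isArtinianRing_iff_isNilpotent_maximalIdeal]
    exact ⟨N, by rw [hmB, ← Ideal.map_pow, Ideal.map_quotient_self]; rfl⟩
  let t : X.E ⧸ I := Ideal.Quotient.mk I (X.incl 1)
  have hres : ∀ b : X.E ⧸ I, ∃ c : k,
      b - algebraMap Λ (X.E ⧸ I) (algebraMap k Λ c) ∈ maximalIdeal (X.E ⧸ I) := by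
    intro b
    obtain ⟨e, rfl⟩ := Ideal.Quotient.mk_surjective b
    obtain ⟨c, hc⟩ := hR (X.proj e)
    refine ⟨c, ?_⟩
    rw [IsScalarTower.algebraMap_apply Λ X.E (X.E ⧸ I), Ideal.Quotient.algebraMap_eq, ← map_sub, hmB]
    refine Ideal.mem_map_of_mem _ ?_
    rwa [Ideal.mem_comap, map_sub, AlgHom.commutes]
  have ht : t ∈ maximalIdeal (X.E ⧸ I) := hmB ▸ Ideal.mem_map_of_mem _ (incl_mem_mE X 1)
  have hbt : ∀ b ∈ maximalIdeal (X.E ⧸ I), b * t = 0 := by
    intro b hb
    rw [hmB, Ideal.mem_map_iff_of_surjective _ Ideal.Quotient.mk_surjective] at hb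
    obtain ⟨e, he, rfl⟩ := hb
    rw [← map_mul, mul_incl_eq_zero residue_smul_eq_zero X he, map_zero]
  -- the map `R → B/tB`
  let q : X.E →ₐ[Λ] (X.E ⧸ I) ⧸ Ideal.span {t} :=
    (Ideal.Quotient.mkₐ Λ _).comp (Ideal.Quotient.mkₐ Λ I)
  have hq : ∀ e ∈ RingHom.ker X.proj, q e = 0 := by
    intro e he
    obtain ⟨z, rfl⟩ := (X.isExtension.exact e).1 he
    obtain ⟨r, rfl⟩ := residue_surjective z
    obtain ⟨e, rfl⟩ := X.isExtension.proj_surjective r
    have : X.incl (residue R (X.proj e)) = e * X.incl 1 := by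
      rw [X.isExtension.mul_incl, Algebra.smul_def, mul_one]; rfl
    rw [this, map_mul]
    refine mul_eq_zero_of_right _ (Ideal.Quotient.eq_zero_iff_mem.2 (Ideal.mem_span_singleton_self t))
  let φ : R →ₐ[Λ] (X.E ⧸ I) ⧸ Ideal.span {t} :=
    (Ideal.Quotient.liftₐ (RingHom.ker X.proj) q hq).comp
      (Ideal.quotientKerAlgEquivOfSurjective X.isExtension.proj_surjective).symm.toAlgHom
  have hφ : ∀ e, φ (X.proj e) = q e := by
    intro e
    change (Ideal.Quotient.liftₐ (RingHom.ker X.proj) q hq)
      ((Ideal.quotientKerAlgEquivOfSurjective X.isExtension.proj_surjective).symm (X.proj e)) = q e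
    rw [Ideal.quotientKerAlgEquivOfSurjective_symm_apply]
    rfl
  obtain ⟨φ', hφ'⟩ := H (X.E ⧸ I) hres t ht hbt φ
  have hw : ∀ c, ∃ w, Ideal.Quotient.mk I w = φ' c ∧ X.proj w - c ∈ I.map X.proj := by
    intro c
    obtain ⟨e, rfl⟩ := X.isExtension.proj_surjective c
    obtain ⟨w, hw⟩ := Ideal.Quotient.mk_surjective (φ' (X.proj e))
    refine ⟨w, hw, ?_⟩
    have h := (AlgHom.congr_fun hφ' (X.proj e)).trans (hφ e)
    change Ideal.Quotient.mk _ (φ' (X.proj e)) = Ideal.Quotient.mk _ (Ideal.Quotient.mk I e) at h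
    rw [← hw, Ideal.Quotient.eq, ← map_sub, Ideal.mem_span_singleton'] at h
    obtain ⟨b, hb⟩ := h
    obtain ⟨b, rfl⟩ := Ideal.Quotient.mk_surjective b
    rw [← map_mul, Ideal.Quotient.eq] at hb
    have hb' := Ideal.mem_map_of_mem X.proj hb
    rw [map_sub, map_mul, proj_incl, mul_zero, zero_sub, map_sub] at hb'
    simpa using Submodule.neg_mem _ hb'
  obtain ⟨s, hs, -⟩ := exists_pair (X := X) hI (AlgHom.id Λ R) φ' hw
  exact ⟨s, hs⟩

theorem exists_lift_of_trivial
    (hX : ∀ X : Ext Λ R (ResidueField R), X.IsTrivial)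
    (B : Type u) [CommRing B] [Algebra Λ B] [IsLocalRing B]
    (hB : ∀ b : B, ∃ c : k, b - algebraMap Λ B (algebraMap k Λ c) ∈ maximalIdeal B)
    (t : B) (ht : t ∈ maximalIdeal B) (hbt : ∀ b ∈ maximalIdeal B, b * t = 0)
    (φ : R →ₐ[Λ] B ⧸ Ideal.span {t}) :
    ∃ φ' : R →ₐ[Λ] B, (Ideal.Quotient.mkₐ Λ (Ideal.span {t})).comp φ' = φ := by
  by_cases ht0 : t = 0
  · have hbij : Function.Bijective (Ideal.Quotient.mkₐ Λ (Ideal.span {t})) := by
      refine ⟨(injective_iff_map_eq_zero _).2 fun b hb => ?_, Ideal.Quotient.mkₐ_surjective _ _⟩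
      rw [Ideal.Quotient.mkₐ_eq_mk, Ideal.Quotient.eq_zero_iff_mem, ht0,
        Set.singleton_zero, Ideal.span_zero, Submodule.mem_bot] at hb
      exact hb
    exact ⟨(AlgEquiv.ofBijective _ hbij).symm.toAlgHom.comp φ,
      AlgHom.ext fun r => (AlgEquiv.ofBijective _ hbij).apply_symm_apply (φ r)⟩
  -- `φ` is local
  have hloc : ∀ r ∈ maximalIdeal R, ∀ b, Ideal.Quotient.mk (Ideal.span {t}) b = φ r →
      b ∈ maximalIdeal B := by
    have hlift : ∀ b ∈ Ideal.span {t}, residue B b = 0 := fun b hb => by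
      obtain ⟨c, rfl⟩ := Ideal.mem_span_singleton'.1 hb
      exact (residue_eq_zero_iff _).2 (Ideal.mul_mem_left _ _ ht)
    let ψ : R →+* ResidueField B :=
      (Ideal.Quotient.lift (Ideal.span {t}) (residue B) hlift).comp φ.toRingHom
    have hψ : ∀ r b, Ideal.Quotient.mk (Ideal.span {t}) b = φ r → ψ r = residue B b := by
      intro r b h
      change Ideal.Quotient.lift (Ideal.span {t}) (residue B) hlift (φ r) = _
      rw [← h]; rfl
    have hψsurj : Function.Surjective ψ := by
      intro x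
      obtain ⟨b, rfl⟩ := residue_surjective x
      obtain ⟨c, hc⟩ := hB b
      refine ⟨algebraMap Λ R (algebraMap k Λ c), ?_⟩
      rw [hψ _ (algebraMap Λ B (algebraMap k Λ c)) (by
        rw [AlgHom.commutes]; rfl), eq_comm]
      exact Ideal.Quotient.eq.2 hc
    have hker : RingHom.ker ψ = maximalIdeal R :=
      eq_maximalIdeal (RingHom.ker_isMaximal_of_surjective _ hψsurj)
    intro r hr b hb
    rw [← hker, RingHom.mem_ker, hψ r b hb] at hr
    exact (residue_eq_zero_iff _).1 hr
  have hex : ∀ ξ : ResidueField R, ∃ b, ∃ r, residue R r = ξ ∧ Ideal.Quotient.mk (Ideal.span {t}) b = φ r := by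
    intro ξ
    obtain ⟨r, rfl⟩ := residue_surjective ξ
    obtain ⟨b, hb⟩ := Ideal.Quotient.mk_surjective (φ r)
    exact ⟨b, r, rfl, hb⟩
  have hwd : ∀ {r r' b b'}, residue R r = residue R r' →
      Ideal.Quotient.mk (Ideal.span {t}) b = φ r →
      Ideal.Quotient.mk (Ideal.span {t}) b' = φ r' → b * t = b' * t := by
    intro r r' b b' h hb hb'
    rw [← sub_eq_zero, ← sub_mul]
    refine hbt _ (hloc (r - r') (Ideal.Quotient.eq.1 h) _ ?_)
    rw [map_sub, hb, hb', map_sub]
  choose β ρ hρ hβ using hex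
  let j : ResidueField R → B := fun ξ => β ξ * t
  have hj : ∀ r b, Ideal.Quotient.mk (Ideal.span {t}) b = φ r → j (residue R r) = b * t :=
    fun r b hb => hwd (hρ _) (hβ _) hb
  have hjadd : ∀ ξ η, j (ξ + η) = j ξ + j η := fun ξ η => by
    change β (ξ + η) * t = β ξ * t + β η * t
    rw [← add_mul]
    exact hwd (r' := ρ ξ + ρ η) (by rw [hρ, map_add, hρ, hρ]) (hβ _) (by rw [map_add, hβ, hβ, map_add])
  let E : Subalgebra Λ (R × B) := AlgHom.equalizer (φ.comp (AlgHom.fst Λ R B))
    ((Ideal.Quotient.mkₐ Λ (Ideal.span {t})).comp (AlgHom.snd Λ R B))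
  have hE : ∀ (x : R × B), x ∈ E ↔ φ x.1 = Ideal.Quotient.mk _ x.2 := fun x => Iff.rfl
  let X : Ext Λ R (ResidueField R) :=
    { E := E
      proj := (AlgHom.fst Λ R B).comp E.val
      incl :=
        { toFun := fun ξ => ⟨(0, j ξ), (hE _).2 (by
            rw [map_zero, eq_comm, Ideal.Quotient.eq_zero_iff_mem]
            exact Ideal.mul_mem_left _ _ (Ideal.mem_span_singleton_self t))⟩
          map_zero' := Subtype.ext (Prod.ext rfl (by
            change j 0 = 0
            rw [← map_zero (residue R), hj 0 0 (by simp), zero_mul]))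
          map_add' := fun ξ η => Subtype.ext (Prod.ext (add_zero (0 : R)).symm (hjadd ξ η)) }
      isExtension :=
        { proj_surjective := fun r => by
            obtain ⟨b, hb⟩ := Ideal.Quotient.mk_surjective (φ r)
            exact ⟨⟨(r, b), (hE _).2 hb.symm⟩, rfl⟩
          incl_injective := fun ξ η h => by
            have h' : β ξ * t = β η * t := congrArg (fun x : E => x.1.2) h
            rw [← sub_eq_zero, ← sub_mul] at h'
            by_contra hne
            apply ht0
            have hu : IsUnit (β ξ - β η) := by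
              by_contra hu
              have hmem : β ξ - β η ∈ maximalIdeal B := (mem_maximalIdeal _).2 hu
              refine hne ?_
              rw [← sub_eq_zero, ← hρ ξ, ← hρ η, ← map_sub, residue_eq_zero_iff, mem_maximalIdeal,
                mem_nonunits_iff]
              intro hu'
              have h1 : IsUnit (Ideal.Quotient.mk (Ideal.span {t}) (β ξ - β η)) := by
                rw [map_sub, hβ, hβ, ← map_sub]; exact hu'.map φ
              obtain ⟨c, hc⟩ := h1.exists_right_inv
              obtain ⟨c, rfl⟩ := Ideal.Quotient.mk_surjective c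
              rw [← map_mul, ← map_one (Ideal.Quotient.mk (Ideal.span {t})),
                Ideal.Quotient.eq] at hc
              have h2 := (Ideal.span_le.2 (Set.singleton_subset_iff.2 ht) :
                Ideal.span {t} ≤ maximalIdeal B) hc
              have h3 : (1 : B) ∈ maximalIdeal B := by
                have := sub_mem (Ideal.mul_mem_right c _ hmem) h2
                rwa [sub_sub_cancel] at this
              exact (maximalIdeal.isMaximal B).ne_top ((Ideal.eq_top_iff_one _).2 h3)
            exact hu.mul_right_eq_zero.1 h'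
          exact := fun x => by
            constructor
            · intro hx
              have h0 : φ x.1.1 = Ideal.Quotient.mk _ x.1.2 := (hE x.1).1 x.2
              change x.1.1 = 0 at hx
              rw [hx, map_zero, eq_comm, Ideal.Quotient.eq_zero_iff_mem,
                Ideal.mem_span_singleton'] at h0
              obtain ⟨b, hb⟩ := h0
              obtain ⟨c, hc⟩ := hB b
              refine ⟨residue R (algebraMap Λ R (algebraMap k Λ c)), Subtype.ext (Prod.ext hx.symm ?_)⟩
              change j _ = _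
              rw [hj _ (algebraMap Λ B (algebraMap k Λ c)) (by rw [AlgHom.commutes]; rfl), ← hb,
                eq_comm, ← sub_eq_zero, ← sub_mul]
              exact hbt _ hc
            · rintro ⟨z, rfl⟩; rfl
          mul_incl := fun x ξ => by
            refine Subtype.ext (Prod.ext (mul_zero _) ?_)
            change x.1.2 * j ξ = j (x.1.1 • ξ)
            rw [← hρ ξ, show x.1.1 • residue R (ρ ξ) = residue R (x.1.1 * ρ ξ) from rfl, hj _ (β ξ) (hβ ξ), hj _ (x.1.2 * β ξ)
              (by rw [map_mul, hβ, ← (hE x.1).1 x.2, map_mul]), mul_assoc] } }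
  obtain ⟨s, hs⟩ := hX X
  refine ⟨(AlgHom.snd Λ R B).comp (E.val.comp s), AlgHom.ext fun r => ?_⟩
  have h := (hE _).1 (s r).2
  have h' : (s r).1.1 = r := hs r
  rw [h'] at h
  exact h.symm

end Groth.Agent.Deform85.ExSmall
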