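import Groth.Agent.Deform85.AffineTriv

/-!
# Global functions on flat schemes over Artinian local rings
-/

set_option autoImplicit false

universe u

open CategoryTheory Limits AlgebraicGeometry Opposite TopologicalSpace TensorProduct

noncomputable section

namespace Groth.Agent.Deform85

/-- Colon ideals commute with flat base change, up to the maximal ideal. -/
theorem mem_map_maximalIdeal_of_mul_mem {C : Type u} [CommRing C] [IsLocalRing C] {B : Type u} [CommRing B]
    (φ : C →+* B) (hφ : φ.Flat) {J : Ideal C} {t : C} (ht : t ∉ J) {b : B} (hb : φ t * b ∈ J.map φ) :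
    b ∈ (IsLocalRing.maximalIdeal C).map φ := by
  letI : Algebra C B := φ.toAlgebra
  haveI : Module.Flat C B := hφ
  let K : Ideal C := LinearMap.ker (J.mkQ ∘ₗ LinearMap.mulLeft C t)
  have hK : K ≤ IsLocalRing.maximalIdeal C := fun a ha hu => ht (by
    have h : t * a ∈ J := (Submodule.Quotient.mk_eq_zero J).1 ha
    obtain ⟨u, rfl⟩ := hu
    simpa using Ideal.mul_mem_right (↑u⁻¹ : C) J h)
  have hex : Function.Exact K.subtype (J.mkQ ∘ₗ LinearMap.mulLeft C t) := LinearMap.exact_subtype_ker_map _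
  have h0 : (J.mkQ ∘ₗ LinearMap.mulLeft C t).lTensor B (b ⊗ₜ (1 : C)) = 0 := by
    have key : ∀ z ∈ J • (⊤ : Submodule C B), z ⊗ₜ[C] J.mkQ 1 = 0 := fun z hz => by
      induction hz using Submodule.smul_induction_on' with
      | smul j hj p _ =>
        rw [TensorProduct.smul_tmul, ← map_smul, smul_eq_mul, mul_one,
          Submodule.mkQ_apply, (Submodule.Quotient.mk_eq_zero J).2 hj, tmul_zero]
      | add p _ q _ hp hq => rw [add_tmul, hp, hq, add_zero]
    have hz := key (φ t * b) (by rw [Ideal.smul_top_eq_map]; exact hb)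
    rw [LinearMap.lTensor_tmul, LinearMap.comp_apply, LinearMap.mulLeft_apply, mul_one]
    rw [show φ t * b = t • b from (Algebra.smul_def t b).symm, TensorProduct.smul_tmul, ← map_smul,
      smul_eq_mul, mul_one] at hz
    exact hz
  obtain ⟨y, hy⟩ := (Module.Flat.lTensor_exact B hex _).1 h0
  have key : ∀ z : B ⊗[C] K, TensorProduct.rid C B (K.subtype.lTensor B z) ∈
      (IsLocalRing.maximalIdeal C).map φ := fun z => by
    induction z with
    | zero => simp
    | tmul x a =>
      rw [LinearMap.lTensor_tmul, TensorProduct.rid_tmul, Algebra.smul_def]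
      exact Ideal.mul_mem_right _ _ (Ideal.mem_map_of_mem φ (hK a.2))
    | add x y hx hy => rw [map_add, map_add]; exact Ideal.add_mem _ hx hy
  have h := key y
  rwa [hy, TensorProduct.rid_tmul, one_smul] at h

variable {C k : Type u} [CommRing C] [CommRing k] (π : C →+* k)

/-- The kernel of restriction to a fibre over a closed subscheme of the affine base, affine total space. -/
theorem ker_appTop_le_of_isPullback {X X' : Scheme.{u}} [IsAffine X'] {i : X ⟶ X'}
    {f₀ : X ⟶ Spec (CommRingCat.of k)} {g : X' ⟶ Spec (CommRingCat.of C)}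
    (hπ : Function.Surjective π) (hsq : IsPullback i f₀ g (Spec.map (CommRingCat.ofHom π))) :
    RingHom.ker i.appTop.hom ≤ (RingHom.ker π).map (baseMap g) := by
  intro b hb
  have hpo := isPushout_appTop_of_isPullback hsq
  let J := (RingHom.ker π).map (baseMap g)
  let h : Γ(X', ⊤) ⟶ CommRingCat.of (Γ(X', ⊤) ⧸ J) := CommRingCat.ofHom (Ideal.Quotient.mk J)
  have hle : RingHom.ker π ≤ RingHom.ker ((Ideal.Quotient.mk J).comp (baseMap g)) := fun a ha => by
    rw [RingHom.mem_ker, RingHom.comp_apply, Ideal.Quotient.eq_zero_iff_mem]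
    exact Ideal.mem_map_of_mem _ ha
  let h' : Γ(Spec (CommRingCat.of k), ⊤) ⟶ CommRingCat.of (Γ(X', ⊤) ⧸ J) :=
    (Scheme.ΓSpecIso (CommRingCat.of k)).hom ≫
      CommRingCat.ofHom (RingHom.liftOfSurjective π hπ ⟨(Ideal.Quotient.mk J).comp (baseMap g), hle⟩)
  have hw : g.appTop ≫ h = (Spec.map (CommRingCat.ofHom π)).appTop ≫ h' := by
    rw [← cancel_epi (Scheme.ΓSpecIso (CommRingCat.of C)).inv]
    dsimp only [h']
    rw [← Scheme.ΓSpecIso_inv_naturality_assoc, Iso.inv_hom_id_assoc]
    refine CommRingCat.hom_ext (RingHom.ext fun a => ?_)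
    change Ideal.Quotient.mk J (baseMap g a) =
      RingHom.liftOfSurjective π hπ ⟨(Ideal.Quotient.mk J).comp (baseMap g), hle⟩ (π a)
    rw [RingHom.liftOfRightInverse_comp_apply]
    rfl
  have h3 : h b = hpo.desc h h' hw (i.appTop b) := congr($(hpo.inl_desc h h' hw).hom b).symm
  rw [show i.appTop b = 0 from hb, map_zero] at h3
  exact Ideal.Quotient.eq_zero_iff_mem.1 h3

/-- Restriction of sections. -/
abbrev resTo {X : Scheme.{u}} {U V : X.Opens} (h : U ≤ V) : Γ(X, V) →+* Γ(X, U) :=
  (X.presheaf.map (homOfLE h).op).hom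

theorem resTo_resTo {X : Scheme.{u}} {U V W : X.Opens} (h : U ≤ V) (h' : V ≤ W) (x : Γ(X, W)) :
    resTo h (resTo h' x) = resTo (h.trans h') x := by
  show X.presheaf.map _ (X.presheaf.map _ x) = X.presheaf.map _ x
  rw [← CommRingCat.comp_apply, ← Functor.map_comp]
  rfl

theorem app_resTo {X X' : Scheme.{u}} (i : X ⟶ X') {U W : X'.Opens} (h : W ≤ U) (x : Γ(X', U)) :
    i.app W (resTo h x) = resTo (i.preimage_mono h) (i.app U x) :=
  congr($(i.naturality (homOfLE h).op) x)

/-- The base map followed by restriction. -/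
abbrev baseRes {X : Scheme.{u}} (g : X ⟶ Spec (CommRingCat.of C)) (U : X.Opens) : C →+* Γ(X, U) :=
  (resTo (le_top (a := U))).comp (baseMap g)

theorem resTo_baseRes {X : Scheme.{u}} (g : X ⟶ Spec (CommRingCat.of C)) {U V : X.Opens} (h : U ≤ V) :
    (resTo h).comp (baseRes g V) = baseRes g U :=
  RingHom.ext fun _ => resTo_resTo h le_top _

theorem baseRes_eq_topIso {X : Scheme.{u}} (g : X ⟶ Spec (CommRingCat.of C)) (U : X.Opens) :
    baseRes g U = U.topIso.hom.hom.comp (baseMap (U.ι ≫ g)) := by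
  refine RingHom.ext fun a => ?_
  rw [RingHom.comp_apply, RingHom.comp_apply, baseMap_comp]
  change resTo (le_top (a := U)) (baseMap g a) =
    resTo U.ι_image_top.ge (resTo (le_top (a := U.ι ''ᵁ ⊤)) (baseMap g a))
  rw [resTo_resTo]

theorem flat_baseRes {X : Scheme.{u}} (g : X ⟶ Spec (CommRingCat.of C)) [Flat g] {U : X.Opens}
    (hU : IsAffineOpen U) : (baseRes g U).Flat := by
  haveI : IsAffine U.toScheme := hU
  rw [baseRes_eq_topIso]
  exact (RingHom.Flat.comp (RingHom.Flat.of_bijective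
    (ConcreteCategory.bijective_of_isIso (Scheme.ΓSpecIso (CommRingCat.of C)).inv))
      (U.ι ≫ g).flat_appTop).comp
    (RingHom.Flat.of_bijective (ConcreteCategory.bijective_of_isIso U.topIso.hom))

/-- On an affine open, functions vanishing on the fibre lie in the extended ideal. -/
theorem mem_map_of_app_eq_zero {X X' : Scheme.{u}} {i : X ⟶ X'}
    {f₀ : X ⟶ Spec (CommRingCat.of k)} {g : X' ⟶ Spec (CommRingCat.of C)}
    (hπ : Function.Surjective π) (hsq : IsPullback i f₀ g (Spec.map (CommRingCat.ofHom π)))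
    {U : X'.Opens} (hU : IsAffineOpen U) {b : Γ(X', U)} (hb : i.app U b = 0) :
    b ∈ (RingHom.ker π).map (baseRes g U) := by
  haveI : IsAffine U.toScheme := hU
  have hsqU : IsPullback (i ∣_ U) ((i ⁻¹ᵁ U).ι ≫ f₀) (U.ι ≫ g) (Spec.map (CommRingCat.ofHom π)) :=
    (isPullback_morphismRestrict i U).paste_vert hsq
  have h0 : (i ∣_ U).appTop (U.topIso.inv b) = 0 := by
    rw [morphismRestrict_appTop]
    change resTo (image_morphismRestrict_preimage i U ⊤).le
      (i.app _ (resTo U.ι_image_top.le b)) = 0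
    rw [app_resTo, hb, map_zero, map_zero]
  have h1 := Ideal.mem_map_of_mem U.topIso.hom.hom (ker_appTop_le_of_isPullback π hπ hsqU h0)
  rw [Ideal.map_map, ← baseRes_eq_topIso] at h1
  rwa [show U.topIso.hom.hom (U.topIso.inv b) = b from congr($(U.topIso.inv_hom_id) b)] at h1

variable {π}

theorem app_baseRes {X X' : Scheme.{u}} {i : X ⟶ X'}
    {f₀ : X ⟶ Spec (CommRingCat.of k)} {g : X' ⟶ Spec (CommRingCat.of C)}
    (hsq : IsPullback i f₀ g (Spec.map (CommRingCat.ofHom π))) (U : X'.Opens) (a : C) :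
    i.app U (baseRes g U a) = resTo le_top (baseMap f₀ (π a)) := by
  have h : baseMap (i ≫ g) a = baseMap f₀ (π a) := by rw [hsq.w, baseMap_SpecMap_comp]
  rw [← h, baseMap_comp]
  exact congr($(i.naturality (homOfLE (le_top (a := U))).op) (baseMap g a))

variable [IsLocalRing C] [IsArtinianRing C]

/-- Global functions on a flat scheme over an Artinian local ring with fibre having only constants. -/
theorem baseMap_bijective_of_fibre [Nontrivial k] (hπ : Function.Surjective π)
    (hker : RingHom.ker π = IsLocalRing.maximalIdeal C) {X X' : Scheme.{u}} {i : X ⟶ X'}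
    {f₀ : X ⟶ Spec (CommRingCat.of k)} {g : X' ⟶ Spec (CommRingCat.of C)} [Flat g]
    (hsq : IsPullback i f₀ g (Spec.map (CommRingCat.ofHom π)))
    (h0 : Function.Bijective (baseMap f₀)) : Function.Bijective (baseMap g) := by
  have hcov : ∀ x : X', ∃ U : X'.affineOpens, x ∈ (U : X'.Opens) := fun x => by
    obtain ⟨U, hU, hx, -⟩ :=
      exists_isAffineOpen_mem_and_subset (U := (⊤ : X'.Opens)) (x := x) trivial
    exact ⟨⟨U, hU⟩, hx⟩
  have hmem : ∀ (U : X'.affineOpens) (b : Γ(X', U)), i.app U b = 0 →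
      b ∈ (IsLocalRing.maximalIdeal C).map (baseRes g U) := fun U b hb =>
    hker ▸ mem_map_of_app_eq_zero π hπ hsq U.2 hb
  have hzero : ∀ (U : X'.affineOpens), ∀ b ∈ (IsLocalRing.maximalIdeal C).map (baseRes g U),
      i.app U b = 0 := fun U => by
    refine fun b hb => RingHom.mem_ker.1 (Ideal.map_le_iff_le_comap.2 (fun a ha => ?_) hb :
      b ∈ RingHom.ker (i.app U).hom)
    change baseRes g U a ∈ RingHom.ker (i.app U).hom
    rw [← hker, RingHom.mem_ker] at ha
    rw [RingHom.mem_ker]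
    exact (app_baseRes hsq _ a).trans (by rw [ha, map_zero, map_zero])
  refine ⟨(injective_iff_map_eq_zero _).2 fun c hc => by_contra fun hc0 => ?_, fun f => ?_⟩
  · have h1 : ∀ U : X'.affineOpens, (1 : Γ(X, i ⁻¹ᵁ U)) = 0 := fun U => by
      rw [← hzero U 1 (mem_map_maximalIdeal_of_mul_mem (baseRes g U) (flat_baseRes g U.2)
        (J := ⊥) (t := c) hc0 (by rw [mul_one, RingHom.comp_apply, hc, map_zero]; exact zero_mem _)),
        map_one]
    apply zero_ne_one (α := k)
    apply h0.1
    rw [map_one, map_zero]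
    refine X.sheaf.eq_of_locally_eq' (fun U : X'.affineOpens => i ⁻¹ᵁ (U : X'.Opens)) ⊤
      (fun U => homOfLE le_top) (fun x _ => ?_) _ _ fun U => ?_
    · obtain ⟨U, hU⟩ := hcov (i x)
      exact Opens.mem_iSup.2 ⟨U, hU⟩
    · refine (map_zero (resTo (le_top (a := i ⁻¹ᵁ (U : X'.Opens))))).trans ?_
      exact (h1 U).symm.trans (map_one (resTo (le_top (a := i ⁻¹ᵁ (U : X'.Opens))))).symm
  suffices H : ∀ J : Ideal C, ∀ f : Γ(X', ⊤),
      (∀ U : X'.affineOpens, resTo le_top f ∈ J.map (baseRes g U)) → ∃ c ∈ J, baseMap g c = f by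
    obtain ⟨c, -, hc⟩ := H ⊤ f fun U => by rw [Ideal.map_top]; trivial
    exact ⟨c, hc⟩
  intro J
  induction J using WellFoundedLT.induction with
  | ind J ih =>
  intro f hf
  rcases eq_or_ne J ⊥ with rfl | hJ
  · refine ⟨0, zero_mem _, ?_⟩
    rw [map_zero]
    refine (X'.sheaf.eq_of_locally_eq' (fun U : X'.affineOpens => (U : X'.Opens)) ⊤
      (fun U => homOfLE le_top) (fun x _ => ?_) _ _ fun U => ?_)
    · obtain ⟨U, hU⟩ := hcov x
      exact Opens.mem_iSup.2 ⟨U, hU⟩
    · have h := hf U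
      rw [Ideal.map_bot, Ideal.mem_bot] at h
      exact (map_zero (resTo (le_top (a := (U : X'.Opens))))).trans h.symm
  obtain ⟨J', hJ'J, hmax⟩ := wellFounded_gt.has_min {I : Ideal C | I < J} ⟨⊥, bot_lt_iff_ne_bot.2 hJ⟩
  replace hJ'J : J' < J := hJ'J
  obtain ⟨t, htJ, htJ'⟩ := SetLike.exists_of_lt hJ'J
  have hgen : ∀ x ∈ J, x ∉ J' → J' ⊔ Ideal.span {x} = J := fun x hx hx' => by
    refine le_antisymm (sup_le hJ'J.le ((Ideal.span_singleton_le_iff_mem _).2 hx)) (not_not.1 fun h => ?_)
    refine hmax _ (lt_of_le_not_ge (sup_le hJ'J.le ((Ideal.span_singleton_le_iff_mem _).2 hx)) h) ?_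
    exact lt_of_le_not_ge le_sup_left fun h' => hx' (h' (Ideal.mem_sup_right (Ideal.mem_span_singleton_self x)))
  have hmt : ∀ a ∈ IsLocalRing.maximalIdeal C, a * t ∈ J' := fun a ha => not_not.1 fun h => htJ' (by
    have ht : t ∈ J' ⊔ Ideal.span {a * t} := (hgen _ (J.mul_mem_left a htJ) h).symm ▸ htJ
    obtain ⟨j, hj, y, hy, hjy⟩ := Submodule.mem_sup.1 ht
    obtain ⟨r, rfl⟩ := Ideal.mem_span_singleton'.1 hy
    have hu : IsUnit (1 - r * a) := IsLocalRing.isUnit_one_sub_self_of_mem_nonunits _ (Ideal.mul_mem_left _ r ha)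
    refine (Ideal.unit_mul_mem_iff_mem _ hu).1 ?_
    rwa [show (1 - r * a) * t = j by linear_combination (-1 : C) * hjy])
  have hdec : ∀ U : X'.affineOpens, ∃ b : Γ(X', U),
      resTo le_top f - baseRes g U t * b ∈ J'.map (baseRes g U) := fun U => by
    have h := hf U
    rw [← hgen t htJ htJ', Ideal.map_sup, Ideal.map_span, Set.image_singleton, Submodule.mem_sup] at h
    obtain ⟨j, hj, y, hy, hjy⟩ := h
    obtain ⟨b, rfl⟩ := Ideal.mem_span_singleton'.1 hy
    exact ⟨b, by rwa [show resTo le_top f - baseRes g U t * b = j by rw [← hjy]; ring]⟩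
  choose b hb using hdec
  let V : X'.affineOpens → X.Opens := fun U => i ⁻¹ᵁ (U : X'.Opens)
  have hcompat : TopCat.Presheaf.IsCompatible X.presheaf V fun U => i.app U (b U) := by
    intro U W
    refine X.sheaf.eq_of_locally_eq' (fun T : {T : X'.affineOpens // (T : X'.Opens) ≤ (U : X'.Opens) ⊓ W} =>
      i ⁻¹ᵁ (T.1 : X'.Opens)) (V U ⊓ V W) (fun T => homOfLE (i.preimage_mono T.2)) (fun x hx => ?_) _ _
      fun T => ?_
    · obtain ⟨T, hT, hxT, hle⟩ := exists_isAffineOpen_mem_and_subset
        (U := (U : X'.Opens) ⊓ W) (x := i x) hx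
      exact Opens.mem_iSup.2 ⟨⟨⟨T, hT⟩, hle⟩, hxT⟩
    · have hU : (T.1 : X'.Opens) ≤ U := T.2.trans inf_le_left
      have hW : (T.1 : X'.Opens) ≤ W := T.2.trans inf_le_right
      have e : ∀ (S : X'.affineOpens) (hS : (T.1 : X'.Opens) ≤ S),
          resTo le_top f - baseRes g T.1 t * resTo hS (b S) ∈ J'.map (baseRes g T.1) := fun S hS => by
        have h := Ideal.mem_map_of_mem (resTo hS) (hb S)
        rw [Ideal.map_map, resTo_baseRes, map_sub, map_mul, resTo_resTo,
          ← RingHom.comp_apply (resTo hS) (baseRes g S), resTo_baseRes] at h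
        exact h
      have hd : resTo hU (b U) - resTo hW (b W) ∈ (IsLocalRing.maximalIdeal C).map (baseRes g T.1) := by
        refine mem_map_maximalIdeal_of_mul_mem _ (flat_baseRes g T.1.2) htJ' ?_
        have h := Ideal.sub_mem _ (e W hW) (e U hU)
        rwa [show baseRes g T.1 t * (resTo hU (b U) - resTo hW (b W)) =
          (resTo le_top f - baseRes g T.1 t * resTo hW (b W)) -
            (resTo le_top f - baseRes g T.1 t * resTo hU (b U)) by ring]
      have h := hzero T.1 _ hd
      rw [map_sub, sub_eq_zero, app_resTo, app_resTo] at h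
      exact (resTo_resTo _ _ _).trans (h.trans (resTo_resTo _ _ _).symm)
  obtain ⟨s, hs, -⟩ := X.sheaf.existsUnique_gluing' V ⊤ (fun U => homOfLE le_top) (fun x _ => by
    obtain ⟨U, hU⟩ := hcov (i x)
    exact Opens.mem_iSup.2 ⟨U, hU⟩) (fun U => i.app U (b U)) hcompat
  obtain ⟨kc, rfl⟩ := h0.2 s
  obtain ⟨c, rfl⟩ := hπ kc
  obtain ⟨c', hc', e⟩ := ih J' hJ'J (f - baseMap g (t * c)) fun U => by
    have hm := hmem U (b U - baseRes g U c) (by
      rw [map_sub, app_baseRes hsq, sub_eq_zero]; exact (hs U).symm)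
    have h2 : baseRes g U t * (b U - baseRes g U c) ∈ J'.map (baseRes g U) := by
      refine (Ideal.mul_mem_mul (Ideal.mem_map_of_mem _ (Ideal.mem_span_singleton_self t)) hm :
        _ ∈ (Ideal.span {t}).map (baseRes g U) * _) |> fun h => ?_
      rw [← Ideal.map_mul] at h
      refine Ideal.map_mono (Ideal.mul_le.2 fun x hx a ha => ?_) h
      obtain ⟨r, rfl⟩ := Ideal.mem_span_singleton'.1 hx
      rw [show r * t * a = r * (a * t) by ring]
      exact J'.mul_mem_left r (hmt a ha)
    have h3 := Ideal.add_mem _ (hb U) h2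
    rw [map_sub]
    change resTo le_top f - baseRes g U (t * c) ∈ _
    rwa [show resTo le_top f - baseRes g U (t * c) =
      (resTo le_top f - baseRes g U t * b U) + baseRes g U t * (b U - baseRes g U c) by
        rw [map_mul]; ring]
  exact ⟨c' + t * c, J.add_mem (hJ'J.le hc') (J.mul_mem_right c htJ), by rw [map_add, e]; ring⟩

end Groth.Agent.Deform85
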