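import Groth.Agent.CAlg1.AB
import Groth.Agent.CAlg1.CMPoly
import Groth.Agent.CAlg1.Serre
import Groth.Agent.Minor14.HilbertBurch

/-!
# Cohen–Macaulay codimension two ideals in regular local rings
-/

set_option autoImplicit false

universe u

open IsLocalRing CategoryTheory RingTheory.Sequence

noncomputable section

namespace Groth.Agent.Deform85.HB

/-- Depth over a ring of a quotient ring is its own depth. -/
theorem depth_quotient_self {A : Type u} [CommRing A] [IsLocalRing A] [IsNoetherianRing A] (I : Ideal A)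
    [Nontrivial (A ⧸ I)] [IsLocalRing (A ⧸ I)] :
    LocCoh.depth A (A ⧸ I) = LocCoh.depth (A ⧸ I) (A ⧸ I) := by
  haveI : IsLocalHom (Ideal.Quotient.mk I) := IsLocalHom.of_surjective _ Ideal.Quotient.mk_surjective
  have hm : ∀ a : A, Ideal.Quotient.mk I a ∈ maximalIdeal (A ⧸ I) ↔ a ∈ maximalIdeal A := fun a => by
    simp only [mem_maximalIdeal, mem_nonunits_iff, isUnit_map_iff]
  rw [EGA4Alg4.depth_eq_iSup, EGA4Alg4.depth_eq_iSup]
  refine le_antisymm (iSup₂_le fun rs hrs => ?_) (iSup₂_le fun rs hrs => ?_)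
  · refine le_iSup₂_of_le (rs.map (algebraMap A (A ⧸ I)))
      ⟨(isWeaklyRegular_map_algebraMap_iff _ _ _).2 hrs.1, fun r hr => ?_⟩ (by simp)
    obtain ⟨a, ha, rfl⟩ := List.mem_map.1 hr
    exact (hm a).2 (hrs.2 a ha)
  · obtain ⟨l, rfl⟩ : ∃ l : List A, l.map (algebraMap A (A ⧸ I)) = rs :=
      ⟨rs.map (Function.surjInv Ideal.Quotient.mk_surjective), by
        rw [List.map_map]
        exact (List.map_congr_left fun x _ => Function.surjInv_eq Ideal.Quotient.mk_surjective x).trans
          (List.map_id rs)⟩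
    refine le_iSup₂_of_le l ⟨(isWeaklyRegular_map_algebraMap_iff _ _ _).1 hrs.1, fun a ha => ?_⟩ (by simp)
    exact (hm a).1 (hrs.2 _ (List.mem_map_of_mem ha))

/-- Auslander–Buchsbaum in the case at hand. -/
theorem hasPD_le_two {A : Type u} [CommRing A] [IsRegularLocalRing A] (I : Ideal A)
    [LocCoh.IsCohenMacaulayLocalRing (A ⧸ I)] (hcodim : ringKrullDim (A ⧸ I) + 2 = ringKrullDim A) :
    HasProjectiveDimensionLE (ModuleCat.of A (A ⧸ I)) 2 := by
  haveI := CAlg1.cm_of_isRegularLocalRing A
  obtain ⟨dA, hdA⟩ := EGA4Alg4.exists_depth_eq (A := A) (M := A)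
  obtain ⟨dQ, hdQ⟩ := EGA4Alg4.exists_depth_eq (A := A ⧸ I) (M := A ⧸ I)
  have h1 : ringKrullDim A = (dA : ℕ∞) := by
    rw [← Module.supportDim_self_eq_ringKrullDim, LocCoh.IsCohenMacaulayLocalRing.supportDim_eq_depth, hdA]
  have h2 : ringKrullDim (A ⧸ I) = (dQ : ℕ∞) := by
    rw [← Module.supportDim_self_eq_ringKrullDim, LocCoh.IsCohenMacaulayLocalRing.supportDim_eq_depth, hdQ]
  rw [h1, h2] at hcodim
  have hd : dQ + 2 = dA := by
    have : ((dQ : ℕ∞) + 2 : ℕ∞) = (dA : ℕ∞) := WithBot.coe_injective (by push_cast; exact hcodim)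
    exact_mod_cast this
  obtain ⟨e₀, -, h3, h4⟩ := CAlg1.auslander_buchsbaum_exists (R := A) (A ⧸ I) (e := dA)
    (CAlg1.hasPD_of_regular A h1 _)
  rw [depth_quotient_self, hdA, hdQ] at h4
  have : dA = e₀ + dQ := by exact_mod_cast h4
  obtain rfl : e₀ = 2 := by omega
  exact h3

/-- A free resolution of length one of a codimension two Cohen–Macaulay ideal, with the minimal number
of generators. -/
theorem exists_minimal_resolution {A : Type u} [CommRing A] [IsRegularLocalRing A] (I : Ideal A)
    [LocCoh.IsCohenMacaulayLocalRing (A ⧸ I)] (hcodim : ringKrullDim (A ⧸ I) + 2 = ringKrullDim A) :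
    ∃ (m n : ℕ) (Ψ : Matrix (Fin n) (Fin m) A) (π : (Fin n → A) →ₗ[A] A),
      LinearMap.ker Ψ.mulVecLin = ⊥ ∧ LinearMap.ker π = LinearMap.range Ψ.mulVecLin ∧
      LinearMap.range π = I ∧ I.spanFinrank = n := by
  obtain ⟨n, f, hf, hker⟩ := CAlg1.exists_minimal_presentation (R := A) I
  have hI1 : HasProjectiveDimensionLE (ModuleCat.of A I) 1 :=
    (EGA4H10.hasPD_succ_iff I.subtype I.mkQ Subtype.val_injective (LinearMap.exact_subtype_mkQ I)
      (Submodule.mkQ_surjective I) 1).1 (hasPD_le_two I hcodim)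
  have hK0 : HasProjectiveDimensionLE (ModuleCat.of A (LinearMap.ker f)) 0 :=
    (EGA4H10.hasPD_succ_iff (LinearMap.ker f).subtype f Subtype.val_injective
      (LinearMap.exact_subtype_ker_map f) hf 0).1 hI1
  haveI : Module.Projective A (LinearMap.ker f) := (EGA4H10.hasPD_zero_iff _).1 hK0
  haveI : Module.FinitePresentation A (LinearMap.ker f) := Module.finitePresentation_of_finite A _
  haveI : Module.Free A (LinearMap.ker f) := Module.free_of_flat_of_isLocalRing
  let b := Module.finBasis A (LinearMap.ker f)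
  let g : (Fin (Module.finrank A (LinearMap.ker f)) → A) →ₗ[A] (Fin n → A) :=
    (LinearMap.ker f).subtype ∘ₗ b.equivFun.symm.toLinearMap
  have hg : (LinearMap.toMatrix' g).mulVecLin = g := by
    rw [← Matrix.toLin'_apply', Matrix.toLin'_toMatrix']
  refine ⟨_, n, LinearMap.toMatrix' g, I.subtype ∘ₗ f, ?_, ?_, ?_, ?_⟩
  · rw [hg, LinearMap.ker_eq_bot]
    exact Subtype.val_injective.comp b.equivFun.symm.injective
  · rw [hg, LinearMap.ker_comp, Submodule.ker_subtype, LinearMap.range_comp,
      LinearEquiv.range, Submodule.map_top, Submodule.range_subtype]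
    rfl
  · rw [LinearMap.range_comp, LinearMap.range_eq_top.2 hf, Submodule.map_top, Submodule.range_subtype]
  · refine le_antisymm ?_ ?_
    · have : I = Submodule.span A (Set.range fun i : Fin n => ((f (Pi.single i 1) : I) : A)) := by
        conv_lhs => rw [← Submodule.range_subtype I, ← Submodule.map_top,
          ← LinearMap.range_eq_top.2 hf, ← LinearMap.range_comp]
        rw [LinearMap.range_eq_map, ← (Pi.basisFun A (Fin n)).span_eq, Submodule.map_span, ← Set.range_comp]
        congr 2
        ext i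
        simp
      conv_lhs => rw [this]
      refine (Submodule.spanFinrank_span_le_ncard_of_finite (Set.finite_range _)).trans ?_
      rw [← Nat.card_coe_set_eq]
      exact (Nat.card_le_card_of_surjective _ Set.rangeFactorization_surjective).trans_eq (by simp)
    · obtain ⟨s, hcard, hspan⟩ := Submodule.FG.exists_span_finset_card_eq_spanFinrank I.fg_of_isNoetherianRing
      choose v hv using fun x : s => hf ⟨x, hspan ▸ Submodule.subset_span x.2⟩
      have htop : (⊤ : Submodule A (Fin n → A)) ≤ Submodule.span A (Set.range v) := by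
        refine Submodule.le_of_le_smul_of_le_jacobson_bot Module.Finite.fg_top
          (IsLocalRing.maximalIdeal_le_jacobson ⊥) fun w _ => ?_
        have hw : (f w : A) ∈ Submodule.span A (Set.range fun x : s => (x : A)) := by
          rw [show (Set.range fun x : s => (x : A)) = ↑s from Subtype.range_coe, hspan]; exact (f w).2
        obtain ⟨c, hc⟩ := (Submodule.mem_span_range_iff_exists_fun A).1 hw
        have h1 : w - ∑ x, c x • v x ∈ maximalIdeal A • (⊤ : Submodule A (Fin n → A)) := hker (by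
          rw [LinearMap.mem_ker, map_sub, map_sum, sub_eq_zero]
          refine Subtype.ext ?_
          simp [← hc, hv])
        rw [← add_sub_cancel (∑ x, c x • v x) w]
        exact Submodule.add_mem_sup ((Submodule.mem_span_range_iff_exists_fun A).2 ⟨c, rfl⟩) h1
      have hsurj : Function.Surjective
          (Fintype.linearCombination A (fun i => v (s.equivFin.symm i))) := by
        rw [← LinearMap.range_eq_top, Fintype.range_linearCombination]
        refine top_le_iff.1 (htop.trans (Submodule.span_mono ?_))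
        rintro _ ⟨x, rfl⟩
        exact ⟨s.equivFin x, by simp⟩
      rw [← hcard]
      exact le_of_fin_surjective A _ hsurj

/-- The Hilbert–Burch theorem for codimension two Cohen–Macaulay quotients of regular local rings. -/
theorem exists_minors_resolution {A : Type u} [CommRing A] [IsRegularLocalRing A] (I : Ideal A)
    [LocCoh.IsCohenMacaulayLocalRing (A ⧸ I)] (hcodim : ringKrullDim (A ⧸ I) + 2 = ringKrullDim A) :
    ∃ (r : ℕ) (φ : Matrix (Fin (r + 1)) (Fin r) A),
      Ideal.span (Set.range (Minor14.sMinor φ)) = I ∧ I.spanFinrank = r + 1 ∧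
      Function.Injective φ.mulVecLin ∧
      LinearMap.range φ.mulVecLin = LinearMap.ker (Fintype.linearCombination A (Minor14.sMinor φ)) := by
  obtain ⟨m, n, Ψ, π, h1, h2, h3, h4⟩ := exists_minimal_resolution I hcodim
  haveI : IsDomain A := CAlg1.isDomain_regular A
  haveI := CAlg1.cm_of_isRegularLocalRing A
  obtain ⟨dA, hdA⟩ := EGA4Alg4.exists_depth_eq (A := A) (M := A)
  have hA : ringKrullDim A = (dA : ℕ∞) := by
    rw [← Module.supportDim_self_eq_ringKrullDim, LocCoh.IsCohenMacaulayLocalRing.supportDim_eq_depth, hdA]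
  have hIbot : I ≠ ⊥ := fun h => by
    rw [ringKrullDim_eq_of_ringEquiv ((Ideal.quotEquivOfEq h).trans (RingEquiv.quotientBot A)), hA] at hcodim
    have h' : ((dA : ℕ∞) + 2 : ℕ∞) = (dA : ℕ∞) := WithBot.coe_injective (by push_cast; exact hcodim)
    have : dA + 2 = dA := by exact_mod_cast h'
    omega
  obtain ⟨rfl, ⟨a, ha, hIa⟩, hdepth⟩ := Minor14.length_one_resolution m n Ψ π h1 h2 (h3 ▸ hIbot)
  rw [h3] at hIa
  have hu : IsUnit a := by
    by_contra hu
    have ham : a ∈ maximalIdeal A := hu
    have hle : I ≤ Ideal.span {a} := hIa ▸ Ideal.mul_le_left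
    have h5 : ringKrullDim (A ⧸ Ideal.span {a}) ≤ ringKrullDim (A ⧸ I) :=
      ringKrullDim_le_of_surjective (Ideal.Quotient.factor hle) (Ideal.Quotient.factor_surjective hle)
    have h6 : ringKrullDim (A ⧸ Ideal.span {a}) + 1 = ringKrullDim A :=
      ringKrullDim_quotient_span_singleton_succ_eq_ringKrullDim
        ((isRegular_iff_mem_nonZeroDivisors.2 ha).left) ham
    obtain ⟨dQ, hdQ⟩ := EGA4Alg4.exists_depth_eq (A := A ⧸ I) (M := A ⧸ I)
    have hQ : ringKrullDim (A ⧸ I) = (dQ : ℕ∞) := by
      rw [← Module.supportDim_self_eq_ringKrullDim, LocCoh.IsCohenMacaulayLocalRing.supportDim_eq_depth, hdQ]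
    rw [hA, hQ] at hcodim
    have h7 := (add_le_add_left h5 1)
    rw [h6, hA, hQ] at h7
    have e1' : ((dQ : ℕ∞) + 2 : ℕ∞) = (dA : ℕ∞) := WithBot.coe_injective (by push_cast; exact hcodim)
    have e1 : dQ + 2 = dA := by exact_mod_cast e1'
    have e2' : (dA : ℕ∞) ≤ ((dQ : ℕ∞) + 1 : ℕ∞) := WithBot.coe_le_coe.1 (by push_cast; exact h7)
    have e2 : dA ≤ dQ + 1 := by exact_mod_cast e2'
    omega
  rw [Ideal.span_singleton_eq_top.2 hu, Ideal.top_mul, ← Minor14.span_sMinor] at hIa
  obtain ⟨e1, e2, -⟩ := Minor14.exact_of_depth Ψ hdepth 1 (one_mem _)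
  simp only [one_mul] at e2
  exact ⟨m, Ψ, hIa.symm, h4, LinearMap.ker_eq_bot.1 e1, e2.symm⟩

end Groth.Agent.Deform85.HB
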