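import Groth.Agent.S14359
import Groth.Agent.Deform85.FibreGamma

/-!
# Algebraic Hartogs for locally normal Noetherian rings, and its deformations
-/

set_option autoImplicit false

universe u

namespace Groth.Agent.Deform85

/-- Every compatible family of fractions `a g / g ^ N` over `G` comes from a unique element. -/
structure IsHartogs {A : Type u} [CommRing A] (G : Finset A) : Prop where
  sep : ∀ a : A, (∀ g ∈ G, ∃ n : ℕ, g ^ n * a = 0) → a = 0
  glue : ∀ (N : ℕ) (f : A → A), (∀ g ∈ G, ∀ h ∈ G, g ^ N * f h = h ^ N * f g) →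
    ∃ a, ∀ g ∈ G, g ^ N * a = f g

/-- A Noetherian ring whose localisations at primes are normal domains is Hartogs in codimension two. -/
theorem isHartogs_of_normal {A : Type u} [CommRing A] [IsNoetherianRing A]
    (hnorm : ∀ (P : Ideal A) [P.IsPrime],
      IsDomain (Localization.AtPrime P) ∧ IsIntegrallyClosed (Localization.AtPrime P))
    (G : Finset A) (hG : ∀ P : Ideal A, P.IsPrime → (G : Set A) ⊆ P → (2 : ℕ∞) ≤ P.height) :
    IsHartogs G := by
  classical
  have hne : ∀ (M : Ideal A) [M.IsPrime], ∃ g ∈ G, algebraMap A (Localization.AtPrime M) g ≠ 0 := fun M _ => by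
    haveI := (hnorm M).1
    by_contra! h
    have hb := hG ((⊥ : Ideal (Localization.AtPrime M)).comap (algebraMap A _))
      (Ideal.IsPrime.comap _) fun g hg => by
        change algebraMap A (Localization.AtPrime M) g ∈ (⊥ : Ideal (Localization.AtPrime M))
        exact Ideal.mem_bot.2 (h g hg)
    rw [← Ideal.under_def, IsLocalization.height_under M.primeCompl, Ideal.height_bot] at hb
    exact absurd hb (by simp)
  constructor
  · intro a ha
    by_contra ha0
    obtain ⟨M, hM, hle⟩ := Ideal.exists_le_maximal (LinearMap.ker (LinearMap.mulRight A a) : Ideal A)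
      fun h => ha0 (by simpa using (h ▸ Submodule.mem_top : (1 : A) ∈ LinearMap.ker (LinearMap.mulRight A a)))
    haveI := (hnorm M).1
    obtain ⟨g, hg, hg0⟩ := hne M
    obtain ⟨n, hn⟩ := ha g hg
    have h1 := congrArg (algebraMap A (Localization.AtPrime M)) hn
    rw [map_mul, map_pow, map_zero, mul_eq_zero] at h1
    obtain ⟨⟨s, hs⟩, hs0⟩ := (IsLocalization.map_eq_zero_iff M.primeCompl (Localization.AtPrime M) a).1
      (h1.resolve_left (pow_ne_zero n hg0))
    exact hs (hle hs0)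
  · intro N f hf
    let K : Ideal A :=
      { carrier := {d | ∃ a, ∀ g ∈ G, g ^ N * a = d * f g}
        zero_mem' := ⟨0, fun g _ => by simp⟩
        add_mem' := fun {d d'} ⟨a, ha⟩ ⟨a', ha'⟩ => ⟨a + a', fun g hg => by
          rw [mul_add, add_mul, ha g hg, ha' g hg]⟩
        smul_mem' := fun c d ⟨a, ha⟩ => ⟨c * a, fun g hg => by
          rw [smul_eq_mul, mul_left_comm, ha g hg, mul_assoc]⟩ }
    suffices hK : K = ⊤ by
      obtain ⟨a, ha⟩ : (1 : A) ∈ K := hK ▸ Submodule.mem_top
      exact ⟨a, fun g hg => by rw [ha g hg, one_mul]⟩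
    by_contra hK
    obtain ⟨M, hM, hle⟩ := Ideal.exists_le_maximal K hK
    haveI := (hnorm M).1
    haveI := (hnorm M).2
    haveI : IsNoetherianRing (Localization.AtPrime M) :=
      IsLocalization.isNoetherianRing M.primeCompl (Localization.AtPrime M) inferInstance
    obtain ⟨g₀, hg₀, hg₀0⟩ := hne M
    let ι := algebraMap A (Localization.AtPrime M)
    have hx : ι (g₀ ^ N) ≠ 0 := by rw [map_pow]; exact pow_ne_zero _ hg₀0
    have hy : ι (f g₀) ∈ Ideal.span {ι (g₀ ^ N)} := by
      by_contra hy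
      obtain ⟨P, hP, hPle⟩ := exists_le_isAssociatedPrime_of_isNoetherianRing (Localization.AtPrime M)
        (Ideal.Quotient.mk (Ideal.span {ι (g₀ ^ N)}) (ι (f g₀))) (by rwa [Ne, Ideal.Quotient.eq_zero_iff_mem])
      have h1 := Groth.Agent.S14359.result _ _ hx P hP
      haveI := hP.isPrime
      have h2 := hG (P.comap ι) (Ideal.IsPrime.comap _) fun g hg => by
        change ι g ∈ P
        refine hP.isPrime.mem_of_pow_mem N (hPle ?_)
        rw [Submodule.mem_colon_singleton, Submodule.mem_bot]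
        change Ideal.Quotient.mk _ (ι g ^ N * ι (f g₀)) = 0
        rw [Ideal.Quotient.eq_zero_iff_mem, ← map_pow, ← map_mul,
          ← hf g₀ hg₀ g hg, map_mul]
        exact Ideal.mul_mem_right _ _ (Ideal.mem_span_singleton_self _)
      rw [← Ideal.under_def, IsLocalization.height_under M.primeCompl, h1] at h2
      exact absurd h2 (by decide)
    obtain ⟨z, hz⟩ := Ideal.mem_span_singleton'.1 hy
    obtain ⟨⟨a, ⟨s, hs⟩⟩, hzs⟩ := IsLocalization.surj M.primeCompl z
    have hzs' : z * ι s = ι a := hzs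
    have heq : ∀ g ∈ G, ι (g ^ N * a) = ι (s * f g) := fun g hg => mul_left_cancel₀ hx (by
      calc ι (g₀ ^ N) * ι (g ^ N * a) = ι (g ^ N) * (z * ι (g₀ ^ N)) * ι s := by rw [map_mul, ← hzs']; ring
        _ = ι (g₀ ^ N * f g) * ι s := by rw [hz, ← map_mul, ← hf g₀ hg₀ g hg]
        _ = ι (g₀ ^ N) * ι (s * f g) := by rw [map_mul, map_mul]; ring)
    choose t ht using fun g : G => (IsLocalization.eq_iff_exists M.primeCompl _).1 (heq g g.2)
    have hd : s * ∏ g, (t g : A) ∈ K := ⟨a * ∏ g, (t g : A), fun g hg => by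
      have e := ht ⟨g, hg⟩
      obtain ⟨w, hw⟩ := Finset.dvd_prod_of_mem (fun g => (t g : A)) (Finset.mem_univ (⟨g, hg⟩ : G))
      rw [hw]
      linear_combination w * e⟩
    exact M.primeCompl.mul_mem hs (prod_mem fun g _ => (t g).2) (hle hd)

variable {C : Type u} [CommRing C] [IsLocalRing C] [IsArtinianRing C] {A : Type u} [CommRing A] [Algebra C A]

/-- One step down an Artinian ideal: a subideal with simple quotient killed by the maximal ideal. -/
theorem exists_pred {J : Ideal C} (hJ : J ≠ ⊥) :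
    ∃ (J' : Ideal C) (t : C), J' < J ∧ t ∉ J' ∧ J' ⊔ Ideal.span {t} = J ∧
      ∀ a ∈ IsLocalRing.maximalIdeal C, a * t ∈ J' := by
  obtain ⟨J', hJ'J, hmax⟩ := wellFounded_gt.has_min {I : Ideal C | I < J} ⟨⊥, bot_lt_iff_ne_bot.2 hJ⟩
  replace hJ'J : J' < J := hJ'J
  obtain ⟨t, htJ, htJ'⟩ := SetLike.exists_of_lt hJ'J
  have hgen : ∀ x ∈ J, x ∉ J' → J' ⊔ Ideal.span {x} = J := fun x hx hx' => by
    refine le_antisymm (sup_le hJ'J.le ((Ideal.span_singleton_le_iff_mem _).2 hx)) (not_not.1 fun h => ?_)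
    refine hmax _ (lt_of_le_not_ge (sup_le hJ'J.le ((Ideal.span_singleton_le_iff_mem _).2 hx)) h) ?_
    exact lt_of_le_not_ge le_sup_left fun h' => hx' (h' (Ideal.mem_sup_right (Ideal.mem_span_singleton_self x)))
  refine ⟨J', t, hJ'J, htJ', hgen t htJ htJ', fun a ha => not_not.1 fun h => htJ' ?_⟩
  have ht : t ∈ J' ⊔ Ideal.span {a * t} := (hgen _ (J.mul_mem_left a htJ) h).symm ▸ htJ
  obtain ⟨j, hj, y, hy, hjy⟩ := Submodule.mem_sup.1 ht
  obtain ⟨c, rfl⟩ := Ideal.mem_span_singleton'.1 hy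
  have hu : IsUnit (1 - c * a) :=
    IsLocalRing.isUnit_one_sub_self_of_mem_nonunits _ (Ideal.mul_mem_left _ c ha)
  refine (Ideal.unit_mul_mem_iff_mem _ hu).1 ?_
  rwa [show (1 - c * a) * t = j by linear_combination (-1 : C) * hjy]

omit [IsArtinianRing C] in
theorem mul_mem_map_of_mem_map {J' : Ideal C} {t : C}
    (hmt : ∀ a ∈ IsLocalRing.maximalIdeal C, a * t ∈ J') {b : A}
    (hb : b ∈ (IsLocalRing.maximalIdeal C).map (algebraMap C A)) :
    algebraMap C A t * b ∈ J'.map (algebraMap C A) := by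
  refine (Ideal.map_le_iff_le_comap.2 (fun a ha => ?_) hb :
    b ∈ (Submodule.comap (LinearMap.mulLeft A (algebraMap C A t)) (J'.map (algebraMap C A)) : Ideal A))
  change algebraMap C A t * algebraMap C A a ∈ J'.map (algebraMap C A)
  rw [← map_mul, mul_comm]
  exact Ideal.mem_map_of_mem _ (hmt a ha)

/-- The Hartogs property passes to flat deformations over Artinian local rings. -/
theorem isHartogs_of_fibre [Module.Flat C A] [DecidableEq A]
    [DecidableEq (A ⧸ (IsLocalRing.maximalIdeal C).map (algebraMap C A))] (G : Finset A)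
    (h₀ : IsHartogs (G.image (Ideal.Quotient.mk ((IsLocalRing.maximalIdeal C).map (algebraMap C A))))) :
    IsHartogs G := by
  classical
  have hflat : (algebraMap C A).Flat := RingHom.flat_algebraMap_iff.2 inferInstance
  let π := Ideal.Quotient.mk ((IsLocalRing.maximalIdeal C).map (algebraMap C A))
  have hπ0 : ∀ x, x ∈ (IsLocalRing.maximalIdeal C).map (algebraMap C A) ↔ π x = 0 := fun x =>
    Ideal.Quotient.eq_zero_iff_mem.symm
  have hdec : ∀ {J' : Ideal C} {t : C} (x : A), x ∈ (J' ⊔ Ideal.span {t}).map (algebraMap C A) →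
      ∃ j ∈ J'.map (algebraMap C A), ∃ b, x = j + algebraMap C A t * b := fun {J' t} x hx => by
    rw [Ideal.map_sup, Ideal.map_span, Set.image_singleton, Submodule.mem_sup] at hx
    obtain ⟨j, hj, y, hy, rfl⟩ := hx
    obtain ⟨b, rfl⟩ := Ideal.mem_span_singleton'.1 hy
    exact ⟨j, hj, b, by ring⟩
  constructor
  · suffices H : ∀ J : Ideal C, ∀ a ∈ J.map (algebraMap C A), (∀ g ∈ G, ∃ n : ℕ, g ^ n * a = 0) → a = 0 by
      exact fun a ha => H ⊤ a (by rw [Ideal.map_top]; trivial) ha
    intro J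
    induction J using WellFoundedLT.induction with
    | ind J ih =>
    intro a ha hga
    rcases eq_or_ne J ⊥ with rfl | hJ
    · rwa [Ideal.map_bot, Ideal.mem_bot] at ha
    obtain ⟨J', t, hlt, ht, rfl, hmt⟩ := exists_pred hJ
    obtain ⟨j, hj, b, rfl⟩ := hdec a ha
    have hb : π b = 0 := h₀.sep _ fun g' hg' => by
      obtain ⟨g, hg, rfl⟩ := Finset.mem_image.1 hg'
      obtain ⟨n, hn⟩ := hga g hg
      refine ⟨n, ?_⟩
      rw [← map_pow, ← map_mul, ← hπ0]
      refine mem_map_maximalIdeal_of_mul_mem _ hflat ht ?_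
      rw [show algebraMap C A t * (g ^ n * b) = 0 - g ^ n * j by rw [← hn]; ring]
      exact Ideal.sub_mem _ (zero_mem _) (Ideal.mul_mem_left _ _ hj)
    exact ih J' hlt _ (Ideal.add_mem _ hj (mul_mem_map_of_mem_map hmt ((hπ0 b).2 hb))) hga
  · intro N
    suffices H : ∀ J : Ideal C, ∀ f : A → A, (∀ g ∈ G, f g ∈ J.map (algebraMap C A)) →
        (∀ g ∈ G, ∀ h ∈ G, g ^ N * f h = h ^ N * f g) → ∃ a, ∀ g ∈ G, g ^ N * a = f g by
      exact fun f hf => H ⊤ f (fun g _ => by rw [Ideal.map_top]; trivial) hf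
    intro J
    induction J using WellFoundedLT.induction with
    | ind J ih =>
    intro f hfJ hf
    rcases eq_or_ne J ⊥ with rfl | hJ
    · exact ⟨0, fun g hg => by
        have := hfJ g hg
        rw [Ideal.map_bot, Ideal.mem_bot] at this
        rw [mul_zero, this]⟩
    obtain ⟨J', t, hlt, ht, rfl, hmt⟩ := exists_pred hJ
    choose j hj b hb using fun g : G => hdec (f g) (hfJ g g.2)
    have hbc : ∀ g h : G, π ((g : A) ^ N * b h) = π ((h : A) ^ N * b g) := fun g h => by
      rw [← sub_eq_zero, ← map_sub, ← hπ0]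
      refine mem_map_maximalIdeal_of_mul_mem _ hflat ht ?_
      rw [show algebraMap C A t * ((g : A) ^ N * b h - (h : A) ^ N * b g) = (h : A) ^ N * j g - (g : A) ^ N * j h by
        have e := hf g g.2 h h.2
        rw [hb g, hb h] at e
        linear_combination e]
      exact Ideal.sub_mem _ (Ideal.mul_mem_left _ _ (hj g)) (Ideal.mul_mem_left _ _ (hj h))
    choose pre hpre using fun x : G.image π => Finset.mem_image.1 x.2
    let F : A ⧸ (IsLocalRing.maximalIdeal C).map (algebraMap C A) →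
        A ⧸ (IsLocalRing.maximalIdeal C).map (algebraMap C A) := fun x =>
      if hx : x ∈ G.image π then π (b ⟨pre ⟨x, hx⟩, (hpre ⟨x, hx⟩).1⟩) else 0
    have hFv : ∀ (x) (hx : x ∈ G.image π), F x = π (b ⟨pre ⟨x, hx⟩, (hpre ⟨x, hx⟩).1⟩) := fun x hx => by
      simp only [F]
      split_ifs with h'
      · rfl
      · exact absurd hx h'
    obtain ⟨a₀, ha₀⟩ := h₀.glue N F fun g hg h hh => by
      rw [hFv g hg, hFv h hh]
      have e := hbc ⟨pre ⟨g, hg⟩, (hpre ⟨g, hg⟩).1⟩ ⟨pre ⟨h, hh⟩, (hpre ⟨h, hh⟩).1⟩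
      simp only [map_mul, map_pow, (hpre _).2] at e
      exact e
    obtain ⟨a, rfl⟩ := Ideal.Quotient.mk_surjective a₀
    have hab : ∀ g : G, π (b g) = π ((g : A) ^ N * a) := fun g => by
      -- both agree after multiplication by every `h ^ N`, so they agree by separatedness
      rw [← sub_eq_zero]
      refine h₀.sep _ fun h' hh' => ⟨N, ?_⟩
      obtain ⟨h, hh, rfl⟩ := Finset.mem_image.1 hh'
      have e := ha₀ (π h) hh'
      rw [hFv _ hh'] at e
      let p : G := ⟨pre ⟨π h, hh'⟩, (hpre ⟨π h, hh'⟩).1⟩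
      have hp : π p = π h := (hpre ⟨π h, hh'⟩).2
      have e2 := hbc p g
      simp only [map_mul, map_pow, hp] at e2
      rw [mul_sub, sub_eq_zero, e2, map_mul, map_pow, ← mul_left_comm, e]
    obtain ⟨a', ha'⟩ := ih J' hlt (fun g => f g - g ^ N * (algebraMap C A t * a))
      (fun g hg => by
        have h2 : π (b ⟨g, hg⟩ - g ^ N * a) = 0 := by rw [map_sub, hab ⟨g, hg⟩, sub_self]
        rw [show f g - g ^ N * (algebraMap C A t * a) =
          j ⟨g, hg⟩ + algebraMap C A t * (b ⟨g, hg⟩ - g ^ N * a) by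
            rw [show f g = j ⟨g, hg⟩ + algebraMap C A t * b ⟨g, hg⟩ from hb ⟨g, hg⟩]; ring]
        exact Ideal.add_mem _ (hj _) (mul_mem_map_of_mem_map hmt ((hπ0 _).2 h2)))
      (fun g hg h hh => by rw [mul_sub, mul_sub, hf g hg h hh]; ring)
    exact ⟨a' + algebraMap C A t * a, fun g hg => by rw [mul_add, ha' g hg]; ring⟩

end Groth.Agent.Deform85
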