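import Groth.Agent.EGA4Alg4.FlatReg
import Groth.Agent.CAlg9.CIT.TransReg
import Groth.Agent.Henz21.TensorNoethArtin

/-!
# Regular sequences on flat algebras over Artinian local rings
-/

set_option autoImplicit false

universe u

open RingTheory.Sequence IsLocalRing

namespace Groth.Agent.Deform85.RegArtin

variable {C : Type u} [CommRing C] [IsLocalRing C] [IsArtinianRing C] {A : Type u} [CommRing A] [Algebra C A]

theorem isNilpotent_map : IsNilpotent ((maximalIdeal C).map (algebraMap C A)) := by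
  obtain ⟨n, hn⟩ := IsArtinianRing.isNilpotent_jacobson_bot (R := C)
  rw [IsLocalRing.jacobson_eq_maximalIdeal ⊥ bot_ne_top] at hn
  exact ⟨n, by rw [← Ideal.map_pow, hn, Ideal.zero_eq_bot, Ideal.map_bot, Ideal.zero_eq_bot]⟩

theorem isNoetherianRing [IsNoetherianRing (A ⧸ (maximalIdeal C).map (algebraMap C A))] : IsNoetherianRing A :=
  Henz21.TensorNoeth.isNoetherianRing_of_nilpotent _
    (Ideal.FG.map (IsNoetherian.noetherian (maximalIdeal C)) (algebraMap C A)) isNilpotent_map

theorem isLocalRing [IsLocalRing (A ⧸ (maximalIdeal C).map (algebraMap C A))] : IsLocalRing A := by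
  haveI : IsLocalHom (Ideal.Quotient.mk ((maximalIdeal C).map (algebraMap C A))) := ⟨fun x hx => by
    obtain ⟨y, hy⟩ := Ideal.Quotient.mk_surjective (↑hx.unit⁻¹ : A ⧸ (maximalIdeal C).map (algebraMap C A))
    have h1 : x * y - 1 ∈ (maximalIdeal C).map (algebraMap C A) := by
      rw [← Ideal.Quotient.eq, map_mul, map_one, hy]
      exact hx.mul_val_inv
    obtain ⟨n, hn⟩ := isNilpotent_map (C := C) (A := A)
    have h2 : IsUnit (x * y) := by
      have : IsUnit (1 + (x * y - 1)) := IsNilpotent.isUnit_one_add ⟨n, by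
        have := Ideal.pow_mem_pow h1 n
        rwa [hn] at this⟩
      rwa [add_sub_cancel] at this
    exact (IsUnit.mul_iff.1 h2).1⟩
  exact RingHom.domain_isLocalRing (Ideal.Quotient.mk ((maximalIdeal C).map (algebraMap C A)))

theorem map_le_maximalIdeal [IsLocalRing A] :
    (maximalIdeal C).map (algebraMap C A) ≤ maximalIdeal A :=
  IsLocalRing.le_maximalIdeal fun h => by
    obtain ⟨n, hn⟩ := isNilpotent_map (C := C) (A := A)
    rw [h, Ideal.top_pow, Ideal.zero_eq_bot] at hn
    exact top_ne_bot hn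

theorem isLocalHom [IsLocalRing A] : IsLocalHom (algebraMap C A) :=
  ⟨fun _ hc => IsLocalRing.notMem_maximalIdeal.1 fun hcm =>
    IsLocalRing.notMem_maximalIdeal.2 hc (map_le_maximalIdeal (Ideal.mem_map_of_mem _ hcm))⟩

omit [IsLocalRing C] [IsArtinianRing C] in
theorem ofList_ofFn {r : ℕ} (a : Fin r → A) : Ideal.ofList (List.ofFn a) = Ideal.span (Set.range a) := by
  rw [Ideal.ofList]
  congr 1
  ext x
  simp [List.mem_ofFn']

/-- A regular sequence on `A/JA` with flat quotient over `C/J` is regular on the closed fibre. -/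
theorem isWeaklyRegular_closedFibre [IsLocalRing A] [IsNoetherianRing A] {J : Ideal C} (hJne : J ≠ ⊤)
    (fs : List A) (hreg : IsRegular (A ⧸ J.map (algebraMap C A))
      (fs.map (algebraMap A (A ⧸ J.map (algebraMap C A)))))
    [Module.Flat (C ⧸ J) ((A ⧸ J.map (algebraMap C A)) ⧸
      Ideal.ofList (fs.map (algebraMap A (A ⧸ J.map (algebraMap C A)))))] :
    IsWeaklyRegular (A ⧸ ((maximalIdeal C).map (algebraMap C A) • (⊤ : Submodule A A))) fs ∧
      ∀ f ∈ fs, f ∈ maximalIdeal A := by
  have hJm : J ≤ maximalIdeal C := IsLocalRing.le_maximalIdeal hJne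
  have hJA : J.map (algebraMap C A) ≤ (maximalIdeal C).map (algebraMap C A) := Ideal.map_mono hJm
  haveI : Nontrivial (A ⧸ J.map (algebraMap C A)) := Ideal.Quotient.nontrivial_iff.2 fun h =>
    Ideal.IsMaximal.ne_top (maximalIdeal.isMaximal A)
      (top_le_iff.1 (h.ge.trans (hJA.trans map_le_maximalIdeal)))
  haveI : IsLocalRing (A ⧸ J.map (algebraMap C A)) := .of_surjective' _ Ideal.Quotient.mk_surjective
  have htop : ∀ I : Ideal (A ⧸ J.map (algebraMap C A)),
      (I • ⊤ : Submodule (A ⧸ J.map (algebraMap C A)) (A ⧸ J.map (algebraMap C A))) = I := fun I => by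
    rw [smul_eq_mul, Ideal.mul_top]
  have hend : Module.Flat (C ⧸ J) ((A ⧸ J.map (algebraMap C A)) ⧸
      (Ideal.ofList (fs.map (algebraMap A (A ⧸ J.map (algebraMap C A)))) •
        (⊤ : Submodule (A ⧸ J.map (algebraMap C A)) (A ⧸ J.map (algebraMap C A))))) :=
    EGA4Alg4.FlatReg13.flat_of_linearEquiv (Submodule.quotEquivOfEq _ _ (htop _))
  have hmem : ∀ f ∈ fs.map (algebraMap A (A ⧸ J.map (algebraMap C A))),
      f ∈ maximalIdeal (A ⧸ J.map (algebraMap C A)) := by
    have hne : Ideal.ofList (fs.map (algebraMap A (A ⧸ J.map (algebraMap C A)))) ≠ ⊤ := fun h =>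
      hreg.top_ne_smul (by rw [h, Submodule.top_smul])
    exact fun f hf => IsLocalRing.le_maximalIdeal hne (Ideal.subset_span hf)
  have hflats := EGA4Alg4.FlatReg13.flat_take (A := C ⧸ J) _ (A ⧸ J.map (algebraMap C A)) hmem
    hreg.toIsWeaklyRegular hend
  have h1 := CAlg9.CIT.isWeaklyRegular_fibre ((maximalIdeal C).map (Ideal.Quotient.mk J)) _
    (A ⧸ J.map (algebraMap C A)) hreg.toIsWeaklyRegular hflats
  rw [isWeaklyRegular_map_algebraMap_iff] at h1
  let N : Submodule (A ⧸ J.map (algebraMap C A)) (A ⧸ J.map (algebraMap C A)) :=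
    ((maximalIdeal C).map (Ideal.Quotient.mk J)).map (algebraMap (C ⧸ J) (A ⧸ J.map (algebraMap C A))) • ⊤
  have hN : N = ((maximalIdeal C).map (algebraMap C A)).map (Ideal.Quotient.mk (J.map (algebraMap C A))) := by
    refine (htop _).trans ?_
    rw [Ideal.map_map, Ideal.map_map]
    rfl
  let ψ : A →ₗ[A] (A ⧸ J.map (algebraMap C A)) ⧸ N :=
    (N.mkQ.restrictScalars A).comp (Submodule.mkQ (J.map (algebraMap C A)))
  have hψ : ∀ x, x ∈ ((maximalIdeal C).map (algebraMap C A) • ⊤ : Submodule A A) ↔ x ∈ LinearMap.ker ψ :=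
    fun x => by
    rw [LinearMap.mem_ker, smul_eq_mul, Ideal.mul_top]
    change _ ↔ Submodule.Quotient.mk (p := N) (Ideal.Quotient.mk _ x) = 0
    rw [Submodule.Quotient.mk_eq_zero, hN, ← Ideal.mem_comap,
      Ideal.comap_map_of_surjective _ Ideal.Quotient.mk_surjective, ← RingHom.ker_eq_comap_bot, Ideal.mk_ker,
      sup_eq_left.2 hJA]
  have hψs : Function.Surjective ψ := fun y => by
    obtain ⟨z, rfl⟩ := Submodule.Quotient.mk_surjective _ y
    obtain ⟨x, rfl⟩ := Submodule.Quotient.mk_surjective _ z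
    exact ⟨x, rfl⟩
  refine ⟨(((Submodule.quotEquivOfEq _ _ (Submodule.ext hψ)).trans
    (ψ.quotKerEquivOfSurjective hψs)).isWeaklyRegular_congr fs).2 h1, fun f hf => ?_⟩
  by_contra hn
  rw [IsLocalRing.notMem_maximalIdeal] at hn
  exact IsLocalRing.notMem_maximalIdeal.2 (hn.map (algebraMap A (A ⧸ J.map (algebraMap C A))))
    (hmem _ (List.mem_map_of_mem hf))

/-- An ideal with flat quotient is generated by lifts of a regular sequence generating it on the fibre. -/
theorem eq_span_of_fibre [IsLocalRing A] [IsNoetherianRing A] [Module.Flat C A] (I : Ideal A)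
    [Module.Flat C (A ⧸ I)] {r : ℕ} (a : Fin r → A) (haI : ∀ i, a i ∈ I)
    (hreg : IsWeaklyRegular (A ⧸ ((maximalIdeal C).map (algebraMap C A) • (⊤ : Submodule A A))) (List.ofFn a))
    (hgen : I ≤ Ideal.span (Set.range a) ⊔ (maximalIdeal C).map (algebraMap C A)) :
    IsWeaklyRegular A (List.ofFn a) ∧ I = Ideal.span (Set.range a) := by
  haveI := isLocalHom (C := C) (A := A)
  have htop : ∀ K : Ideal A, (K • ⊤ : Submodule A A) = K := fun K => by rw [smul_eq_mul, Ideal.mul_top]
  have hle : Ideal.ofList (List.ofFn a) ≤ I := by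
    rw [ofList_ofFn, Ideal.span_le]
    exact Set.range_subset_iff.2 haI
  obtain ⟨h1, h2⟩ := EGA4Alg4.FlatReg13.eq_ofList_smul (A := C) A I inferInstance (List.ofFn a)
    ((htop _).trans_le hle) hreg (by
      rw [← Submodule.range_mkQ ((maximalIdeal C).map (algebraMap C A) • (⊤ : Submodule A A)),
        ← Submodule.map_top, ← Submodule.map_smul'', htop (Ideal.ofList _)]
      refine le_antisymm (Submodule.map_mono hle) ?_
      rintro _ ⟨x, hx, rfl⟩
      obtain ⟨y, hy, z, hz, rfl⟩ := Submodule.mem_sup.1 (hgen hx)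
      refine ⟨y, by rw [ofList_ofFn]; exact hy, ?_⟩
      rw [map_add, (Submodule.mkQ_apply _ z).trans ((Submodule.Quotient.mk_eq_zero _).2 (by rwa [htop])),
        add_zero])
  refine ⟨h1, h2.trans ((htop _).trans ?_)⟩
  rw [ofList_ofFn]

end Groth.Agent.Deform85.RegArtin
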