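import Groth.Agent.CAlg8.NilFlat
import Groth.Agent.FlatCrit65.Fibre
import Groth.Agent.Deform85.NormalHartogs
import Groth.Agent.CAlg9.Node.Fibral
import Groth.Agent.FlatMor67.SmoothIsRegular
import Groth.Agent.Deform85.RegArtin

/-!
# Deformations of determinantal ideals of codimension two (Hilbert–Burch)
-/

set_option autoImplicit false

universe u

open Matrix

noncomputable section

namespace Groth.Agent.Deform85.HB

variable {A : Type u} [CommRing A] {r : ℕ}

/-- Signed maximal minors. -/
abbrev minors (φ : Matrix (Fin (r + 1)) (Fin r) A) : Fin (r + 1) → A :=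
  fun i => (-1 : A) ^ (i : ℕ) * (φ.submatrix i.succAbove id).det

/-- The linear form attached to a row. -/
abbrev lc {n : ℕ} (a : Fin n → A) : (Fin n → A) →ₗ[A] A := Fintype.linearCombination A a

theorem lc_apply {n : ℕ} (a v : Fin n → A) : lc a v = ∑ i, v i * a i :=
  Fintype.linearCombination_apply A a v

theorem lc_minors_mulVec (φ : Matrix (Fin (r + 1)) (Fin r) A) (v : Fin r → A) :
    lc (minors φ) (φ *ᵥ v) = 0 := by
  have hcol : ∀ j : Fin r, ∑ i, φ i j * minors φ i = 0 := fun j => by
    let M : Matrix (Fin (r + 1)) (Fin (r + 1)) A := Matrix.of fun i => Fin.cons (φ i j) (φ i)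
    have h0 : M.det = 0 := Matrix.det_zero_of_column_eq (Fin.succ_ne_zero j).symm fun i => by simp [M]
    rw [Matrix.det_succ_column_zero] at h0
    refine Eq.trans (Finset.sum_congr rfl fun i _ => ?_) h0
    have hs : M.submatrix i.succAbove Fin.succ = φ.submatrix i.succAbove id := by
      ext a b
      simp [M]
    rw [hs]
    simp only [M, Matrix.of_apply, Fin.cons_zero, minors]
    ring
  rw [lc_apply]
  simp only [Matrix.mulVec, dotProduct, Finset.sum_mul]
  rw [Finset.sum_comm]
  refine Finset.sum_eq_zero fun j _ => ?_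
  rw [← mul_zero (v j), ← hcol j, Finset.mul_sum]
  exact Finset.sum_congr rfl fun i _ => by ring

theorem map_minors {B : Type u} [CommRing B] (π : A →+* B) (φ : Matrix (Fin (r + 1)) (Fin r) A)
    (i : Fin (r + 1)) : π (minors φ i) = minors (φ.map π) i := by
  simp only [minors, map_mul, map_pow, map_neg, map_one, RingHom.map_det, RingHom.mapMatrix_apply,
    Matrix.submatrix_map]

/-- Exactness of `φ`, `a` modulo an ideal, elementwise. -/
structure ExactMod {n : ℕ} (φ : Matrix (Fin n) (Fin r) A) (a : Fin n → A) (N : Ideal A) : Prop where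
  inj : ∀ v, (∀ i, (φ *ᵥ v) i ∈ N) → ∀ j, v j ∈ N
  exact : ∀ v, lc a v ∈ N → ∃ w, ∀ i, v i - (φ *ᵥ w) i ∈ N

theorem exactMod_congr {n : ℕ} {φ φ' : Matrix (Fin n) (Fin r) A} {a a' : Fin n → A} {N : Ideal A}
    (hφ : ∀ i j, φ i j - φ' i j ∈ N) (ha : ∀ i, a i - a' i ∈ N) (h : ExactMod φ a N) : ExactMod φ' a' N := by
  have hmv : ∀ v i, (φ *ᵥ v) i - (φ' *ᵥ v) i ∈ N := fun v i => by
    simp only [Matrix.mulVec, dotProduct, ← Finset.sum_sub_distrib, ← sub_mul]
    exact N.sum_mem fun j _ => N.mul_mem_right _ (hφ i j)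
  constructor
  · intro v hv
    refine h.inj v fun i => ?_
    have := N.add_mem (hmv v i) (hv i)
    rwa [sub_add_cancel] at this
  · intro v hv
    obtain ⟨w, hw⟩ := h.exact v (by
      have h2 : lc a v - lc a' v ∈ N := by
        rw [lc_apply, lc_apply, ← Finset.sum_sub_distrib]
        exact N.sum_mem fun i _ => by rw [← mul_sub]; exact N.mul_mem_left _ (ha i)
      have := N.add_mem h2 hv
      rwa [sub_add_cancel] at this)
    refine ⟨w, fun i => ?_⟩
    have := N.add_mem (hw i) (hmv w i)
    rwa [sub_add_sub_cancel] at this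

theorem exactMod_bot {n : ℕ} {φ : Matrix (Fin n) (Fin r) A} {a : Fin n → A}
    (h1 : Function.Injective φ.mulVecLin) (h2 : LinearMap.range φ.mulVecLin = LinearMap.ker (lc a)) :
    ExactMod φ a ⊥ := by
  constructor
  · intro v hv j
    have : v = 0 := h1 (by
      rw [map_zero]
      exact funext fun i => Ideal.mem_bot.1 (hv i))
    simp [this]
  · intro v hv
    obtain ⟨w, hw⟩ : v ∈ LinearMap.range φ.mulVecLin := by
      rw [h2, LinearMap.mem_ker]
      exact Ideal.mem_bot.1 hv
    exact ⟨w, fun i => Ideal.mem_bot.2 (sub_eq_zero.2 (congrFun hw i).symm)⟩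

theorem exactMod_comap {B : Type u} [CommRing B] (π : A →+* B) (hπ : Function.Surjective π) {n : ℕ}
    {φ : Matrix (Fin n) (Fin r) A} {a : Fin n → A} {φB : Matrix (Fin n) (Fin r) B} {aB : Fin n → B}
    (hφ : φ.map π = φB) (ha : ∀ i, π (a i) = aB i) {N : Ideal B} (h : ExactMod φB aB N) :
    ExactMod φ a (N.comap π) := by
  have hmv : ∀ v i, π ((φ *ᵥ v) i) = (φB *ᵥ (π ∘ v)) i := fun v i => by
    rw [RingHom.map_mulVec, hφ]
  constructor
  · intro v hv j
    exact h.inj (π ∘ v) (fun i => by rw [← hmv]; exact hv i) j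
  · intro v hv
    obtain ⟨w, hw⟩ := h.exact (π ∘ v) (by
      have h2 : π (lc a v) = lc aB (π ∘ v) := by simp [lc_apply, ha]
      rw [← h2]; exact hv)
    choose w' hw' using fun j => hπ (w j)
    refine ⟨w', fun i => ?_⟩
    rw [Ideal.mem_comap, map_sub, hmv, show π ∘ w' = w from funext hw']
    exact hw i

theorem exactMod_of_quotient {B : Type u} [CommRing B] (π : A →+* B) (hπ : Function.Surjective π)
    {φ : Matrix (Fin (r + 1)) (Fin r) A} {φB : Matrix (Fin (r + 1)) (Fin r) B} (hφ : φ.map π = φB) {N : Ideal B}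
    (h : ExactMod φB (minors φB) N) : ExactMod φ (minors φ) (N.comap π) :=
  exactMod_comap π hπ hφ (fun i => by rw [map_minors, hφ]) h

section base

variable {C : Type u} [CommRing C] [Algebra C A] {n : ℕ}

theorem pi_mem_smul_top_iff {m : ℕ} (I : Ideal C) (v : Fin m → A) :
    v ∈ I • (⊤ : Submodule C (Fin m → A)) ↔ ∀ i, v i ∈ I.map (algebraMap C A) := by
  constructor
  · intro hv i
    induction hv using Submodule.smul_induction_on' with
    | smul c hc w _ =>
      rw [Pi.smul_apply, Algebra.smul_def]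
      exact Ideal.mul_mem_right _ _ (Ideal.mem_map_of_mem _ hc)
    | add p _ q _ hp hq => exact Ideal.add_mem _ hp hq
  · intro hv
    rw [← Finset.univ_sum_single v]
    refine Submodule.sum_mem _ fun i _ => ?_
    have h1 : v i ∈ I • (⊤ : Submodule C A) := by rw [Ideal.smul_top_eq_map]; exact hv i
    have h2 := Submodule.mem_map_of_mem (f := LinearMap.single C (fun _ : Fin m => A) i) h1
    rw [Submodule.map_smul''] at h2
    exact Submodule.smul_mono le_rfl le_top h2

theorem flat_pi [Module.Flat C A] (m : ℕ) : Module.Flat C (Fin m → A) := Module.Flat.trans C A _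

theorem mem_smul_top_of_flat {M N P : Type u} [AddCommGroup M] [Module C M] [AddCommGroup N] [Module C N]
    [AddCommGroup P] [Module C P] [Module.Flat C P] (f : M →ₗ[C] N) (g : N →ₗ[C] P)
    (hf : Function.Injective f) (hg : Function.Surjective g) (hfg : Function.Exact f g) (I : Ideal C) {x : M}
    (hx : f x ∈ I • (⊤ : Submodule C N)) : x ∈ I • (⊤ : Submodule C M) := by
  rw [← FlatCrit65.one_tmul_eq_zero_iff] at hx ⊢
  exact LinearMap.lTensor_injective_of_exact_of_flat g hg f hf hfg (C ⧸ I)
    (by rw [LinearMap.lTensor_tmul, hx, map_zero])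

theorem mem_mul_of_flat_quotient (I : Ideal A) [Module.Flat C (A ⧸ I)] (J : Ideal C) {x : A} (hxI : x ∈ I)
    (hxJ : x ∈ J.map (algebraMap C A)) : x ∈ J.map (algebraMap C A) * I := by
  have h1 : (⟨x, hxI⟩ : I) ∈ J • (⊤ : Submodule C I) :=
    mem_smul_top_of_flat (I.subtype.restrictScalars C) (I.mkQ.restrictScalars C) Subtype.val_injective
      (Submodule.mkQ_surjective I) (LinearMap.exact_subtype_mkQ I) J
      (by rw [Ideal.smul_top_eq_map]; exact hxJ)
  have key : ∀ y : I, y ∈ J • (⊤ : Submodule C I) → (y : A) ∈ J.map (algebraMap C A) * I := fun y hy => by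
    induction hy using Submodule.smul_induction_on' with
    | smul c hc p _ =>
      rw [Submodule.coe_smul_of_tower, Algebra.smul_def]
      exact Ideal.mul_mem_mul (Ideal.mem_map_of_mem _ hc) p.2
    | add p _ q _ hp hq => exact Ideal.add_mem _ hp hq
  exact key _ h1

theorem exists_lc_of_mem_mul {a : Fin n → A} {N : Ideal A} {x : A} (hx : x ∈ N * Ideal.span (Set.range a)) :
    ∃ w, (∀ i, w i ∈ N) ∧ lc a w = x := by
  refine Submodule.mul_induction_on hx (fun s hs y hy => ?_) fun p q hp hq => ?_
  · obtain ⟨v, rfl⟩ : y ∈ LinearMap.range (lc a) := by rwa [Fintype.range_linearCombination]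
    exact ⟨s • v, fun i => N.mul_mem_right _ hs, by rw [map_smul, smul_eq_mul]⟩
  · obtain ⟨v, hv, rfl⟩ := hp
    obtain ⟨w, hw, rfl⟩ := hq
    exact ⟨v + w, fun i => N.add_mem (hv i) (hw i), map_add _ _ _⟩

/-- An exact complex with flat terms and flat cokernel stays exact modulo ideals of the base. -/
theorem exactMod_of_flat [Module.Flat C A] {φ : Matrix (Fin n) (Fin r) A} {a : Fin n → A}
    (h1 : Function.Injective φ.mulVecLin) (h2 : LinearMap.range φ.mulVecLin = LinearMap.ker (lc a))
    [Module.Flat C (A ⧸ Ideal.span (Set.range a))] (I : Ideal C) :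
    ExactMod φ a (I.map (algebraMap C A)) := by
  let S := Ideal.span (Set.range a)
  let g : (Fin n → A) →ₗ[A] S := (lc a).codRestrict S fun v => by
    change lc a v ∈ Ideal.span (Set.range a)
    rw [Ideal.span, ← Fintype.range_linearCombination]
    exact LinearMap.mem_range_self _ v
  have hg : Function.Surjective g := fun y => by
    obtain ⟨v, hv⟩ : (y : A) ∈ LinearMap.range (lc a) := by
      rw [Fintype.range_linearCombination]; exact y.2
    exact ⟨v, Subtype.ext hv⟩
  haveI hS : Module.Flat C S :=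
    CAlg8.NilFlat.flat_kernel (S.subtype.restrictScalars C) (S.mkQ.restrictScalars C) Subtype.val_injective
      (Submodule.mkQ_surjective S) (LinearMap.exact_subtype_mkQ S)
  have hexg : Function.Exact φ.mulVecLin g := fun v => by
    change _ ↔ v ∈ (LinearMap.range φ.mulVecLin : Submodule A (Fin n → A))
    rw [h2, LinearMap.mem_ker]
    exact Subtype.ext_iff
  constructor
  · intro v hv
    exact (pi_mem_smul_top_iff I v).1 (mem_smul_top_of_flat (φ.mulVecLin.restrictScalars C)
      (g.restrictScalars C) h1 hg hexg I ((pi_mem_smul_top_iff I _).2 hv))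
  · intro v hv
    have hgv : g v ∈ I • (⊤ : Submodule C S) :=
      mem_smul_top_of_flat (S.subtype.restrictScalars C) (S.mkQ.restrictScalars C) Subtype.val_injective
        (Submodule.mkQ_surjective S) (LinearMap.exact_subtype_mkQ S) I
        (by rw [Ideal.smul_top_eq_map]; exact hv)
    rw [← LinearMap.range_eq_top.2 (show Function.Surjective (g.restrictScalars C) from hg),
      ← Submodule.map_top, ← Submodule.map_smul''] at hgv
    obtain ⟨w, hw, hwv⟩ := hgv
    obtain ⟨z, hz⟩ := (hexg (v - w)).1 (by rw [map_sub, sub_eq_zero]; exact hwv.symm)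
    refine ⟨z, fun i => ?_⟩
    rw [show (φ *ᵥ z) i = v i - w i from congrFun hz i, sub_sub_cancel]
    exact (pi_mem_smul_top_iff I w).1 hw i

/-- Exactness lifts from the closed fibre, with flat cokernel. -/
theorem exact_of_exactMod [IsLocalRing C] [IsArtinianRing C] [Module.Flat C A]
    {φ : Matrix (Fin n) (Fin r) A} {a : Fin n → A} (h0 : ∀ v, lc a (φ *ᵥ v) = 0)
    (h : ExactMod φ a ((IsLocalRing.maximalIdeal C).map (algebraMap C A))) :
    Function.Injective φ.mulVecLin ∧ LinearMap.range φ.mulVecLin = LinearMap.ker (lc a) ∧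
      Module.Flat C (A ⧸ Ideal.span (Set.range a)) := by
  have hnil : IsNilpotent (IsLocalRing.maximalIdeal C) := CAlg8.NilFlat.isNilpotent_maximalIdeal
  haveI := flat_pi (C := C) (A := A) n
  haveI := flat_pi (C := C) (A := A) r
  let f := φ.mulVecLin.restrictScalars C
  have hk : Function.Injective (f.lTensor (C ⧸ IsLocalRing.maximalIdeal C)) :=
    FlatCrit65.lTensor_quot_injective f _ fun v hv =>
      (pi_mem_smul_top_iff _ v).2 (h.inj v ((pi_mem_smul_top_iff _ _).1 hv))
  have hinj : Function.Injective f := CAlg8.NilFlat.injective_of_lTensor_quotient hnil f hk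
  let R := LinearMap.range φ.mulVecLin
  let q : (Fin n → A) →ₗ[C] ((Fin n → A) ⧸ R) := R.mkQ.restrictScalars C
  haveI : Module.Flat C ((Fin n → A) ⧸ R) :=
    CAlg8.NilFlat.flat_cokernel hnil f q (Submodule.mkQ_surjective R) (LinearMap.exact_map_mkQ_range φ.mulVecLin) hk
  let gb : ((Fin n → A) ⧸ R) →ₗ[A] A := R.liftQ (lc a) (by
    rintro _ ⟨v, rfl⟩
    exact h0 v)
  have hgk : Function.Injective ((gb.restrictScalars C).lTensor (C ⧸ IsLocalRing.maximalIdeal C)) :=
    FlatCrit65.lTensor_quot_injective _ _ fun x hx => by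
      obtain ⟨v, rfl⟩ := Submodule.mkQ_surjective R x
      rw [Ideal.smul_top_eq_map] at hx
      obtain ⟨w, hw⟩ := h.exact v hx
      have h3 : v - φ *ᵥ w ∈ IsLocalRing.maximalIdeal C • (⊤ : Submodule C (Fin n → A)) :=
        (pi_mem_smul_top_iff _ _).2 fun i => hw i
      have h4 := Submodule.mem_map_of_mem (f := q) h3
      rw [Submodule.map_smul''] at h4
      have h5 : R.mkQ v = q (v - φ *ᵥ w) :=
        (Submodule.Quotient.eq R).2 ⟨w, by simp⟩
      rw [h5]
      exact Submodule.smul_mono le_rfl le_top h4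
  have hgb : Function.Injective gb := CAlg8.NilFlat.injective_of_lTensor_quotient hnil _ hgk
  refine ⟨hinj, le_antisymm ?_ fun v hv => ?_, ?_⟩
  · rintro _ ⟨v, rfl⟩
    exact h0 v
  · have : R.mkQ v = 0 := hgb (by rw [map_zero]; exact hv)
    rwa [Submodule.mkQ_apply, Submodule.Quotient.mk_eq_zero] at this
  · refine CAlg8.NilFlat.flat_cokernel hnil (gb.restrictScalars C)
      (Ideal.Quotient.mkₐ C (Ideal.span (Set.range a))).toLinearMap Ideal.Quotient.mk_surjective ?_ hgk
    intro x
    change Ideal.Quotient.mk (Ideal.span (Set.range a)) x = 0 ↔ x ∈ Set.range gb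
    rw [Ideal.Quotient.eq_zero_iff_mem, Ideal.span, ← Fintype.range_linearCombination]
    constructor
    · rintro ⟨v, rfl⟩
      exact ⟨R.mkQ v, rfl⟩
    · rintro ⟨y, rfl⟩
      obtain ⟨v, rfl⟩ := Submodule.mkQ_surjective R y
      exact ⟨v, rfl⟩

end base

theorem height_map_mk_eq {I : Ideal A} (hI : I ≤ nilradical A) (q : Ideal A) [q.IsPrime] :
    (q.map (Ideal.Quotient.mk I)).height = q.height := by
  have hall : ∀ q : PrimeSpectrum A, I ≤ q.asIdeal := fun q => hI.trans (nilradical_le_prime q.asIdeal)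
  let e : PrimeSpectrum (A ⧸ I) ≃o PrimeSpectrum A :=
    { toFun := fun P => ⟨P.asIdeal.comap (Ideal.Quotient.mk I), inferInstance⟩
      invFun := fun q => ⟨q.asIdeal.map (Ideal.Quotient.mk I),
        Ideal.map_isPrime_of_surjective Ideal.Quotient.mk_surjective (by rw [Ideal.mk_ker]; exact hall q)⟩
      left_inv := fun P =>
        PrimeSpectrum.ext (Ideal.map_comap_of_surjective _ Ideal.Quotient.mk_surjective P.asIdeal)
      right_inv := fun q => PrimeSpectrum.ext (by
        change Ideal.comap _ (Ideal.map _ q.asIdeal) = q.asIdeal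
        rw [Ideal.comap_map_of_surjective _ Ideal.Quotient.mk_surjective, ← RingHom.ker_eq_comap_bot,
          Ideal.mk_ker]
        exact sup_eq_left.2 (hall q))
      map_rel_iff' := fun {P P'} =>
        ⟨fun h => (Ideal.comap_le_comap_iff_of_surjective _ Ideal.Quotient.mk_surjective _ _).1 h,
          fun h => Ideal.comap_mono h⟩ }
  let qq : PrimeSpectrum A := ⟨q, inferInstance⟩
  calc (q.map (Ideal.Quotient.mk I)).height = Order.height (e.symm qq) :=
        PrimeSpectrum.height_eq_orderHeight (e.symm qq)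
    _ = Order.height qq := Order.height_orderIso e.symm qq
    _ = q.height := (PrimeSpectrum.height_eq_orderHeight qq).symm

variable {C : Type u} [CommRing C] [IsLocalRing C] [IsArtinianRing C] [Algebra C A]

theorem map_le_nilradical {J : Ideal C} (hJ : J ≤ IsLocalRing.maximalIdeal C) :
    J.map (algebraMap C A) ≤ nilradical A := fun x hx => by
  obtain ⟨N, hN⟩ := Groth.Agent.Deform85.RegArtin.isNilpotent_map (C := C) (A := A)
  exact ⟨N, Ideal.mem_bot.1 (hN.le (Ideal.pow_mem_pow (Ideal.map_mono hJ hx) N))⟩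

/-- Deformations of a codimension two determinantal ideal are determinantal. -/
theorem exists_lift [Module.Flat C A]
    [IsNoetherianRing (A ⧸ (IsLocalRing.maximalIdeal C).map (algebraMap C A))]
    (hnorm : EGA4.IsNormalRing (A ⧸ (IsLocalRing.maximalIdeal C).map (algebraMap C A)))
    (J : Ideal C) (hJ : J ≤ IsLocalRing.maximalIdeal C) (I : Ideal A) [Module.Flat C (A ⧸ I)]
    (φq : Matrix (Fin (r + 1)) (Fin r) (A ⧸ J.map (algebraMap C A)))
    (hI : I.map (Ideal.Quotient.mk (J.map (algebraMap C A))) = Ideal.span (Set.range (minors φq)))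
    (hex : ∀ φ : Matrix (Fin (r + 1)) (Fin r) A, φ.map (Ideal.Quotient.mk (J.map (algebraMap C A))) = φq →
      ExactMod φ (minors φ) ((IsLocalRing.maximalIdeal C).map (algebraMap C A)))
    (hcod : ∀ P : Ideal A, P.IsPrime → I ≤ P → (2 : ℕ∞) ≤ P.height) :
    ∃ φ : Matrix (Fin (r + 1)) (Fin r) A, φ.map (Ideal.Quotient.mk (J.map (algebraMap C A))) = φq ∧
      Ideal.span (Set.range (minors φ)) = I ∧ Function.Injective φ.mulVecLin ∧
      LinearMap.range φ.mulVecLin = LinearMap.ker (lc (minors φ)) := by
  classical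
  have hmem : ∀ i, minors φq i ∈ I.map (Ideal.Quotient.mk (J.map (algebraMap C A))) :=
    fun i => hI ▸ Ideal.subset_span ⟨i, rfl⟩
  choose a haI ha using fun i => (Ideal.mem_map_iff_of_surjective _ Ideal.Quotient.mk_surjective).1 (hmem i)
  have hnilJ : IsNilpotent (J.map (algebraMap C A)) := by
    obtain ⟨N, hN⟩ := Groth.Agent.Deform85.RegArtin.isNilpotent_map (C := C) (A := A)
    exact ⟨N, le_bot_iff.1 ((Ideal.pow_right_mono (Ideal.map_mono hJ) N).trans hN.le)⟩
  -- `I` is generated by the lifts
  have hspan : Ideal.span (Set.range a) = I := by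
    refine le_antisymm (Ideal.span_le.2 (Set.range_subset_iff.2 haI)) ?_
    have h1 : I ≤ Ideal.span (Set.range a) ⊔ J.map (algebraMap C A) * I := fun x hx => by
      have hx' := Ideal.mem_map_of_mem (Ideal.Quotient.mk (J.map (algebraMap C A))) hx
      rw [hI, show Set.range (minors φq) = Ideal.Quotient.mk (J.map (algebraMap C A)) '' Set.range a by
        rw [← Set.range_comp]; exact congrArg Set.range (funext fun i => (ha i).symm),
        ← Ideal.map_span, ← Ideal.mem_comap, Ideal.comap_map_of_surjective _ Ideal.Quotient.mk_surjective,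
        ← RingHom.ker_eq_comap_bot, Ideal.mk_ker] at hx'
      obtain ⟨y, hy, z, hz, rfl⟩ := Submodule.mem_sup.1 hx'
      refine Submodule.add_mem_sup hy (mem_mul_of_flat_quotient I J ?_ hz)
      simpa using Ideal.sub_mem I hx (Ideal.span_le.2 (Set.range_subset_iff.2 haI) hy)
    have hk : ∀ k, I ≤ Ideal.span (Set.range a) ⊔ (J.map (algebraMap C A)) ^ k * I := fun k => by
      induction k with
      | zero => simp
      | succ k ih =>
        refine ih.trans (sup_le le_sup_left ((Ideal.mul_mono le_rfl h1).trans ?_))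
        rw [Ideal.mul_sup, ← mul_assoc, ← pow_succ]
        exact sup_le_sup_right Ideal.mul_le_right _
    obtain ⟨N, hN⟩ := hnilJ
    simpa [hN] using hk N
  -- lift the relations
  have hcol : ∀ j, ∃ v : Fin (r + 1) → A,
      (∀ i, Ideal.Quotient.mk (J.map (algebraMap C A)) (v i) = φq i j) ∧ lc a v = 0 := fun j => by
    choose v hv using fun i => Ideal.Quotient.mk_surjective (φq i j)
    have h1 : lc a v ∈ I := by
      rw [lc_apply]
      exact I.sum_mem fun i _ => I.mul_mem_left _ (haI i)
    have h2 : lc a v ∈ J.map (algebraMap C A) := by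
      rw [← Ideal.Quotient.eq_zero_iff_mem, lc_apply, map_sum]
      have := lc_minors_mulVec φq (Pi.single j 1)
      rw [lc_apply, Matrix.mulVec_single_one] at this
      simpa [ha, hv] using this
    have h3 := mem_mul_of_flat_quotient I J h1 h2
    rw [← hspan] at h3
    obtain ⟨w, hw, hwv⟩ := exists_lc_of_mem_mul h3
    exact ⟨v - w, fun i => by rw [Pi.sub_apply, map_sub, Ideal.Quotient.eq_zero_iff_mem.2 (hw i), sub_zero, hv],
      by rw [map_sub, hwv, sub_self]⟩
  choose col hcol1 hcol2 using hcol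
  let φ : Matrix (Fin (r + 1)) (Fin r) A := Matrix.of fun i j => col j i
  have hφq : φ.map (Ideal.Quotient.mk (J.map (algebraMap C A))) = φq := Matrix.ext fun i j => hcol1 j i
  have h0 : ∀ v, lc a (φ *ᵥ v) = 0 := fun v => by
    rw [show φ *ᵥ v = ∑ j, v j • col j by
      ext i; simp [φ, Matrix.mulVec, dotProduct, Finset.sum_apply, mul_comm], map_sum]
    simp [hcol2]
  have hma : ∀ i, a i - minors φ i ∈ (IsLocalRing.maximalIdeal C).map (algebraMap C A) := fun i => by
    refine Ideal.map_mono hJ ?_
    rw [← Ideal.Quotient.eq, ha, map_minors, hφq]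
  have hexa : ExactMod φ a ((IsLocalRing.maximalIdeal C).map (algebraMap C A)) :=
    exactMod_congr (fun i j => by rw [sub_self]; exact zero_mem _)
      (fun i => by rw [← neg_sub]; exact neg_mem (hma i)) (hex φ hφq)
  obtain ⟨-, hker, -⟩ := exact_of_exactMod h0 hexa
  obtain ⟨hinj, hker', -⟩ := exact_of_exactMod (lc_minors_mulVec φ) (hex φ hφq)
  -- the minors are a multiple of the lifts, by Hartogs
  let π := Ideal.Quotient.mk ((IsLocalRing.maximalIdeal C).map (algebraMap C A))
  have hG : IsHartogs ((Finset.univ.image a).image π) := by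
    refine isHartogs_of_normal (fun P _ => hnorm P) _ fun P _ hP => ?_
    have hmap : (P.comap π).map π = P := Ideal.map_comap_of_surjective _ Ideal.Quotient.mk_surjective P
    rw [← hmap, height_map_mk_eq (map_le_nilradical le_rfl) (P.comap π)]
    refine hcod _ inferInstance (hspan ▸ Ideal.span_le.2 (Set.range_subset_iff.2 fun i => ?_))
    exact hP (Finset.mem_coe.2 (Finset.mem_image_of_mem π (Finset.mem_image_of_mem a (Finset.mem_univ i))))
  have hGA : IsHartogs (Finset.univ.image a) := isHartogs_of_fibre _ hG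
  have hrep : ∀ g : A, ∃ v, g ∈ Finset.univ.image a → lc a v = g := fun g => by
    by_cases hg : g ∈ Finset.univ.image a
    · obtain ⟨i, -, rfl⟩ := Finset.mem_image.1 hg
      exact ⟨Pi.single i 1, fun _ => by simp [lc, Fintype.linearCombination_apply_single]⟩
    · exact ⟨0, fun h => absurd h hg⟩
  choose rep hrep using hrep
  have hkill : ∀ v, lc a v = 0 → lc (minors φ) v = 0 := fun v hv => by
    obtain ⟨w, rfl⟩ : v ∈ LinearMap.range φ.mulVecLin := by rw [hker]; exact hv
    exact lc_minors_mulVec φ w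
  obtain ⟨u, hu⟩ := hGA.glue 1 (fun g => lc (minors φ) (rep g)) fun g hg h hh => by
    have h2 := hkill (g • rep h - h • rep g) (by
      simp only [map_sub, map_smul, hrep g hg, hrep h hh, smul_eq_mul]; ring)
    simp only [map_sub, map_smul, smul_eq_mul, sub_eq_zero] at h2
    rw [pow_one, pow_one]
    exact h2
  have hau : ∀ i, a i * u = minors φ i := fun i => by
    have hi : a i ∈ Finset.univ.image a := Finset.mem_image_of_mem a (Finset.mem_univ i)
    have h2 := hkill (rep (a i) - Pi.single i 1) (by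
      simp [hrep _ hi, lc, Fintype.linearCombination_apply_single])
    have h3 := hu _ hi
    rw [pow_one] at h3
    rw [h3]
    simpa [lc, Fintype.linearCombination_apply_single, sub_eq_zero] using h2
  have hunit : IsUnit u := by
    have h1 : π (u - 1) = 0 := hG.sep _ fun g hg => by
      obtain ⟨g', hg', rfl⟩ := Finset.mem_image.1 hg
      obtain ⟨i, -, rfl⟩ := Finset.mem_image.1 hg'
      refine ⟨1, ?_⟩
      rw [pow_one, ← map_mul, mul_sub, mul_one, hau, ← neg_sub, map_neg, neg_eq_zero,
        Ideal.Quotient.eq_zero_iff_mem]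
      exact hma i
    obtain ⟨N, hN⟩ := Groth.Agent.Deform85.RegArtin.isNilpotent_map (C := C) (A := A)
    have h2 : IsUnit (1 + (u - 1)) := IsNilpotent.isUnit_one_add ⟨N, by
      have := Ideal.pow_mem_pow (Ideal.Quotient.eq_zero_iff_mem.1 h1) N
      rwa [hN] at this⟩
    rwa [add_sub_cancel] at h2
  refine ⟨φ, hφq, ?_, hinj, hker'⟩
  refine le_antisymm (Ideal.span_le.2 (Set.range_subset_iff.2 fun i => ?_)) ?_
  · rw [← hau i]
    exact I.mul_mem_right _ (haI i)
  · rw [← hspan, Ideal.span_le, Set.range_subset_iff]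
    intro i
    rw [show a i = minors φ i * ↑hunit.unit⁻¹ by rw [← hau i, mul_assoc, hunit.mul_val_inv, mul_one]]
    exact Ideal.mul_mem_right _ _ (Ideal.subset_span ⟨i, rfl⟩)

end Groth.Agent.Deform85.HB
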