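import Groth.Agent.Deform85.HBLift

/-!
# Hilbert–Burch deformations: conversions for the quotient rings
-/

set_option autoImplicit false

universe u

noncomputable section

namespace Groth.Agent.Deform85.HB

variable {C : Type u} [CommRing C] [IsLocalRing C] {A : Type u} [CommRing A] [Algebra C A] {r : ℕ}

theorem comap_map_maximalIdeal {J : Ideal C} (hJ : J ≤ IsLocalRing.maximalIdeal C) :
    (((IsLocalRing.maximalIdeal C).map (Ideal.Quotient.mk J)).map
      (algebraMap (C ⧸ J) (A ⧸ J.map (algebraMap C A)))).comap (Ideal.Quotient.mk (J.map (algebraMap C A))) =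
      (IsLocalRing.maximalIdeal C).map (algebraMap C A) := by
  have h : ((IsLocalRing.maximalIdeal C).map (Ideal.Quotient.mk J)).map
      (algebraMap (C ⧸ J) (A ⧸ J.map (algebraMap C A))) =
      ((IsLocalRing.maximalIdeal C).map (algebraMap C A)).map (Ideal.Quotient.mk (J.map (algebraMap C A))) := by
    rw [Ideal.map_map, Ideal.map_map]
    rfl
  rw [h, Ideal.comap_map_of_surjective _ Ideal.Quotient.mk_surjective, ← RingHom.ker_eq_comap_bot,
    Ideal.mk_ker]
  exact sup_eq_left.2 (Ideal.map_mono hJ)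

/-- Exactness over a quotient of the base with flat cokernel gives exactness on the closed fibre. -/
theorem exactMod_fibre [Module.Flat C A] {J : Ideal C} (hJ : J ≤ IsLocalRing.maximalIdeal C)
    (φ : Matrix (Fin (r + 1)) (Fin r) A) (φq : Matrix (Fin (r + 1)) (Fin r) (A ⧸ J.map (algebraMap C A)))
    (hφ : φ.map (Ideal.Quotient.mk (J.map (algebraMap C A))) = φq)
    (h1 : Function.Injective φq.mulVecLin)
    (h2 : LinearMap.range φq.mulVecLin = LinearMap.ker (lc (minors φq)))
    [Module.Flat (C ⧸ J) ((A ⧸ J.map (algebraMap C A)) ⧸ Ideal.span (Set.range (minors φq)))] :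
    ExactMod φ (minors φ) ((IsLocalRing.maximalIdeal C).map (algebraMap C A)) := by
  haveI : Module.Flat (C ⧸ J) (A ⧸ J.map (algebraMap C A)) :=
    RingHom.flat_algebraMap_iff.1 (CAlg9.Node.flat_quotientMap' J)
  have h := exactMod_of_quotient _ Ideal.Quotient.mk_surjective hφ
    (exactMod_of_flat (C := C ⧸ J) h1 h2 ((IsLocalRing.maximalIdeal C).map (Ideal.Quotient.mk J)))
  rwa [comap_map_maximalIdeal hJ] at h

theorem smooth_fibre_normal [Algebra.Smooth (C ⧸ IsLocalRing.maximalIdeal C)
      (A ⧸ (IsLocalRing.maximalIdeal C).map (algebraMap C A))] :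
    IsNoetherianRing (A ⧸ (IsLocalRing.maximalIdeal C).map (algebraMap C A)) ∧
      EGA4.IsNormalRing (A ⧸ (IsLocalRing.maximalIdeal C).map (algebraMap C A)) := by
  letI : Field (C ⧸ IsLocalRing.maximalIdeal C) := Ideal.Quotient.field _
  haveI := FlatMor67.isRegularRing_of_smooth (C ⧸ IsLocalRing.maximalIdeal C)
    (A ⧸ (IsLocalRing.maximalIdeal C).map (algebraMap C A))
  exact ⟨Algebra.FiniteType.isNoetherianRing (C ⧸ IsLocalRing.maximalIdeal C) _,
    FlatMor67.isNormalRing_of_regular _⟩

end Groth.Agent.Deform85.HB
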