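import Groth.Agent.Deform85.HBLift

/-!
# Spreading determinantal resolutions from a localisation to a basic open
-/

set_option autoImplicit false

universe u

open Matrix

noncomputable section

namespace Groth.Agent.Deform85.HB

variable {R : Type u} [CommRing R] (p : Ideal R) [p.IsPrime]

/-- A finitely generated submodule contained in another one after localising is so after inverting one
element. -/
theorem exists_smul_mem_of_fg {M : Type u} [AddCommGroup M] [Module R M] (N N' : Submodule R M) (hN : N.FG)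
    (h : ∀ x ∈ N, ∃ s ∉ p, s • x ∈ N') : ∃ g ∉ p, ∀ x ∈ N, g • x ∈ N' := by
  classical
  obtain ⟨S, hS⟩ := hN
  choose s hs hs' using fun x : S => h x (hS ▸ Submodule.subset_span x.2)
  refine ⟨∏ x, s x, fun hp => ?_, fun x hx => ?_⟩
  · obtain ⟨i, -, hi⟩ := (Ideal.IsPrime.prod_mem_iff (p := p)).1 hp
    exact hs i hi
  · rw [← hS] at hx
    induction hx using Submodule.span_induction with
    | mem y hy =>
      obtain ⟨w, hw⟩ := Finset.dvd_prod_of_mem s (Finset.mem_univ (⟨y, hy⟩ : S))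
      rw [hw, mul_comm, mul_smul]
      exact N'.smul_mem _ (hs' ⟨y, hy⟩)
    | zero => rw [smul_zero]; exact N'.zero_mem
    | add y z _ _ hy hz => rw [smul_add]; exact N'.add_mem hy hz
    | smul c y _ hy => rw [smul_comm]; exact N'.smul_mem _ hy

variable {r : ℕ}

theorem minors_smul (c : R) (φ : Matrix (Fin (r + 1)) (Fin r) R) (i : Fin (r + 1)) :
    minors (c • φ) i = c ^ r * minors φ i := by
  simp only [minors, Matrix.submatrix_smul, Pi.smul_apply, Matrix.det_smul, Fintype.card_fin]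
  ring

theorem lc_map {A : Type u} [CommRing A] (π : R →+* A) {n : ℕ} (a v : Fin n → R) :
    π (lc a v) = lc (fun i => π (a i)) (π ∘ v) := by
  simp [lc_apply]

variable (A : Type u) [CommRing A] [Algebra R A] [IsLocalization.AtPrime A p]

theorem exists_num {n : ℕ} (v : Fin n → A) :
    ∃ (w : Fin n → R) (t : R), t ∉ p ∧ ∀ i, algebraMap R A (w i) = algebraMap R A t * v i := by
  classical
  obtain ⟨⟨t, ht⟩, hw⟩ := IsLocalization.exist_integer_multiples_of_finite p.primeCompl v
  choose w hw using hw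
  exact ⟨w, t, ht, fun i => by rw [hw, Algebra.smul_def]⟩

theorem exists_kill {n : ℕ} (v : Fin n → R) (hv : ∀ i, algebraMap R A (v i) = 0) :
    ∃ s ∉ p, ∀ i, s * v i = 0 := by
  classical
  choose s hs using fun i => (IsLocalization.map_eq_zero_iff p.primeCompl A (v i)).1 (hv i)
  refine ⟨∏ i, (s i : R), fun hp => ?_, fun i => ?_⟩
  · obtain ⟨j, -, hj⟩ := (Ideal.IsPrime.prod_mem_iff (p := p)).1 hp
    exact (s j).2 hj
  · obtain ⟨w, hw⟩ := Finset.dvd_prod_of_mem (fun i => (s i : R)) (Finset.mem_univ i)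
    rw [hw, mul_right_comm, hs i, zero_mul]

/-- A determinantal resolution at a prime spreads to a basic open neighbourhood. -/
theorem exists_spread [IsNoetherianRing R] (I : Ideal R) (φA : Matrix (Fin (r + 1)) (Fin r) A)
    (hspan : Ideal.span (Set.range (minors φA)) = I.map (algebraMap R A))
    (hinj : Function.Injective φA.mulVecLin)
    (hex : LinearMap.range φA.mulVecLin = LinearMap.ker (lc (minors φA))) :
    ∃ (g : R) (φ : Matrix (Fin (r + 1)) (Fin r) R), g ∉ p ∧
      ∀ (S : Type u) [CommRing S] [Algebra R S] [IsLocalization.Away g S],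
        Ideal.span (Set.range (minors (φ.map (algebraMap R S)))) = I.map (algebraMap R S) ∧
        Function.Injective (φ.map (algebraMap R S)).mulVecLin ∧
        LinearMap.range (φ.map (algebraMap R S)).mulVecLin =
          LinearMap.ker (lc (minors (φ.map (algebraMap R S)))) := by
  classical
  let ι := algebraMap R A
  obtain ⟨⟨c, hc⟩, hφ₁⟩ := IsLocalization.exist_integer_multiples_of_finite p.primeCompl
    (fun ij : Fin (r + 1) × Fin r => φA ij.1 ij.2)
  choose φe hφe using hφ₁
  let φ : Matrix (Fin (r + 1)) (Fin r) R := Matrix.of fun i j => φe (i, j)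
  have hu : IsUnit (ι c) := IsLocalization.map_units A (⟨c, hc⟩ : p.primeCompl)
  have hφ : φ.map ι = ι c • φA := Matrix.ext fun i j => (hφe (i, j)).trans (Algebra.smul_def _ _)
  have hm : ∀ i, ι (minors φ i) = ι c ^ r * minors φA i := fun i => by
    rw [map_minors, hφ, minors_smul]
  have hmv : ∀ w : Fin r → R, ι ∘ (φ *ᵥ w) = ι c • (φA *ᵥ (ι ∘ w)) := fun w => funext fun i => by
    rw [Function.comp_apply, RingHom.map_mulVec, hφ, Matrix.smul_mulVec]
  -- the four conditions
  obtain ⟨g₁, hg₁, h₁⟩ := exists_smul_mem_of_fg p (LinearMap.ker φ.mulVecLin) ⊥ (IsNoetherian.noetherian _)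
    fun v hv => by
      have h0 : ι ∘ v = 0 := hinj (by
        rw [map_zero]
        refine (hu.smul_left_cancel).1 ?_
        rw [smul_zero]
        exact (hmv v).symm.trans (funext fun i => by
          rw [Function.comp_apply, show (φ *ᵥ v) i = 0 from congrFun hv i, map_zero]; rfl))
      obtain ⟨s, hs, hs'⟩ := exists_kill p A v (congrFun h0)
      exact ⟨s, hs, (Submodule.mem_bot R).2 (funext hs')⟩
  obtain ⟨g₂, hg₂, h₂⟩ := exists_smul_mem_of_fg p (LinearMap.ker (lc (minors φ))) (LinearMap.range φ.mulVecLin)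
    (IsNoetherian.noetherian _) fun v hv => by
      have h0 : lc (minors φA) (ι ∘ v) = 0 := by
        refine (hu.pow r).mul_left_cancel (?_ : ι c ^ r * _ = ι c ^ r * 0)
        rw [mul_zero, lc_apply, Finset.mul_sum]
        refine Eq.trans (Finset.sum_congr rfl fun i _ => ?_)
          ((lc_apply (fun i => ι (minors φ i)) (ι ∘ v)).symm.trans
            ((lc_map ι (minors φ) v).symm.trans ((congrArg ι hv).trans (map_zero ι))))
        rw [hm]
        ring
      obtain ⟨w, hw⟩ : ι ∘ v ∈ LinearMap.range φA.mulVecLin := hex ▸ h0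
      obtain ⟨w', t, ht, hw'⟩ := exists_num p A w
      obtain ⟨s, hs, hs'⟩ := exists_kill p A ((t * c) • v - φ *ᵥ w') fun i => by
        rw [Pi.sub_apply, Pi.smul_apply, smul_eq_mul, map_sub, map_mul, map_mul, sub_eq_zero]
        have e := congrFun (hmv w') i
        rw [Function.comp_apply] at e
        rw [e, show ι ∘ w' = ι t • w from funext hw', Matrix.mulVec_smul, Pi.smul_apply, Pi.smul_apply,
          show (φA *ᵥ w) i = ι (v i) from congrFun hw i, smul_eq_mul, smul_eq_mul]
        ring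
      refine ⟨s * (t * c), p.primeCompl.mul_mem hs (p.primeCompl.mul_mem ht hc), s • w', ?_⟩
      rw [map_smul, Matrix.mulVecLin_apply]
      funext i
      have := hs' i
      simp only [Pi.sub_apply, Pi.smul_apply, smul_eq_mul, mul_sub, sub_eq_zero] at this ⊢
      rw [← this]
      ring
  have hspan' : (Ideal.span (Set.range (minors φ))).map ι = I.map ι := by
    rw [Ideal.map_span, ← Set.range_comp, ← hspan]
    refine le_antisymm (Ideal.span_le.2 ?_) (Ideal.span_le.2 ?_)
    · rintro _ ⟨i, rfl⟩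
      rw [SetLike.mem_coe, Function.comp_apply, hm]
      exact Ideal.mul_mem_left _ _ (Ideal.subset_span ⟨i, rfl⟩)
    · rintro _ ⟨i, rfl⟩
      rw [SetLike.mem_coe, ← Ideal.unit_mul_mem_iff_mem _ (hu.pow r), ← hm]
      exact Ideal.subset_span ⟨i, rfl⟩
  obtain ⟨g₃, hg₃, h₃⟩ := exists_smul_mem_of_fg p (Ideal.span (Set.range (minors φ))) I
    (IsNoetherian.noetherian _) fun x hx => by
      obtain ⟨s, hs, h⟩ := (IsLocalization.algebraMap_mem_map_algebraMap_iff p.primeCompl A I x).1
        (hspan' ▸ Ideal.mem_map_of_mem ι hx)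
      exact ⟨s, hs, h⟩
  obtain ⟨g₄, hg₄, h₄⟩ := exists_smul_mem_of_fg p I (Ideal.span (Set.range (minors φ)))
    (IsNoetherian.noetherian _) fun x hx => by
      obtain ⟨s, hs, h⟩ := (IsLocalization.algebraMap_mem_map_algebraMap_iff p.primeCompl A
        (Ideal.span (Set.range (minors φ))) x).1 (hspan'.symm ▸ Ideal.mem_map_of_mem ι hx)
      exact ⟨s, hs, h⟩
  refine ⟨g₁ * g₂ * g₃ * g₄, φ,
    p.primeCompl.mul_mem (p.primeCompl.mul_mem (p.primeCompl.mul_mem hg₁ hg₂) hg₃) hg₄, fun S _ _ _ => ?_⟩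
  let π := algebraMap R S
  have hgu : IsUnit (π (g₁ * g₂ * g₃ * g₄)) := IsLocalization.Away.algebraMap_isUnit _
  obtain ⟨⟨⟨hu₁, hu₂⟩, hu₃⟩, hu₄⟩ : ((IsUnit (π g₁) ∧ IsUnit (π g₂)) ∧ IsUnit (π g₃)) ∧ IsUnit (π g₄) := by
    simpa [map_mul, IsUnit.mul_iff] using hgu
  have hπm : ∀ w : Fin r → R, π ∘ (φ *ᵥ w) = (φ.map π) *ᵥ (π ∘ w) := fun w => funext fun i =>
    RingHom.map_mulVec π φ w i
  have hkill : ∀ {n : ℕ} (x : Fin n → R), π ∘ x = 0 → ∃ m : ℕ, (g₁ * g₂ * g₃ * g₄) ^ m • x = 0 :=
    fun {n} x hx => by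
    choose m hm using fun i =>
      (IsLocalization.map_eq_zero_iff (Submonoid.powers (g₁ * g₂ * g₃ * g₄)) S (x i)).1 (congrFun hx i)
    choose m' hm' using fun i => (m i).2
    refine ⟨∑ i, m' i, funext fun i => ?_⟩
    rw [Pi.smul_apply, smul_eq_mul, Pi.zero_apply,
      ← Nat.sub_add_cancel (Finset.single_le_sum (f := m') (fun _ _ => Nat.zero_le _) (Finset.mem_univ i)),
      pow_add, mul_assoc, show (g₁ * g₂ * g₃ * g₄) ^ m' i = (m i : R) from hm' i, hm i, mul_zero]
  have hnum : ∀ {n : ℕ} (v : Fin n → S), ∃ (w : Fin n → R) (e : S), IsUnit e ∧ π ∘ w = e • v := fun {n} v => by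
    obtain ⟨⟨t, ht⟩, hw⟩ :=
      IsLocalization.exist_integer_multiples_of_finite (Submonoid.powers (g₁ * g₂ * g₃ * g₄)) v
    choose w hw using hw
    exact ⟨w, π t, IsLocalization.map_units S (⟨t, ht⟩ : Submonoid.powers (g₁ * g₂ * g₃ * g₄)),
      funext fun i => (hw i).trans (Algebra.smul_def _ _)⟩
  refine ⟨?_, (injective_iff_map_eq_zero _).2 fun v hv => ?_, le_antisymm ?_ fun v hv => ?_⟩
  · rw [show minors (φ.map π) = π ∘ minors φ from funext fun i => (map_minors π φ i).symm, Set.range_comp,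
      ← Ideal.map_span]
    refine le_antisymm (Ideal.map_le_iff_le_comap.2 fun x hx => ?_) (Ideal.map_le_iff_le_comap.2 fun x hx => ?_)
    · rw [Ideal.mem_comap, ← Ideal.unit_mul_mem_iff_mem _ hu₃, ← map_mul]
      exact Ideal.mem_map_of_mem π (h₃ x hx)
    · rw [Ideal.mem_comap, ← Ideal.unit_mul_mem_iff_mem _ hu₄, ← map_mul]
      exact Ideal.mem_map_of_mem π (h₄ x hx)
  · obtain ⟨w, e, he, hw⟩ := hnum v
    obtain ⟨m, hm'⟩ := hkill (φ *ᵥ w) (by
      rw [hπm, hw, Matrix.mulVec_smul, show (φ.map π) *ᵥ v = 0 from hv, smul_zero])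
    have h := h₁ ((g₁ * g₂ * g₃ * g₄) ^ m • w) (by
      rw [LinearMap.mem_ker, map_smul, Matrix.mulVecLin_apply, hm'])
    rw [Submodule.mem_bot] at h
    have h' := congrArg (fun x => π ∘ x) h
    funext i
    have h2 := congrFun h' i
    simp only [Function.comp_apply, Pi.smul_apply, smul_eq_mul, Pi.zero_apply, map_zero] at h2
    rw [map_mul, map_mul, map_pow, show π (w i) = e * v i from congrFun hw i] at h2
    exact he.mul_right_eq_zero.1 ((hgu.pow m).mul_right_eq_zero.1 (hu₁.mul_right_eq_zero.1 h2))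
  · rintro _ ⟨w, rfl⟩
    exact lc_minors_mulVec _ _
  · obtain ⟨w, e, he, hw⟩ := hnum v
    have h0 : π ∘ (fun _ : Fin 1 => lc (minors φ) w) = 0 := funext fun _ => by
      rw [Function.comp_apply, lc_map, hw, map_smul,
        show (fun i => π (minors φ i)) = minors (φ.map π) from funext fun i => map_minors π φ i,
        show lc (minors (φ.map π)) v = 0 from hv, smul_zero]
      rfl
    obtain ⟨m, hm'⟩ := hkill _ h0
    have hm'' := congrFun hm' 0
    simp only [Pi.smul_apply, Pi.zero_apply] at hm''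
    obtain ⟨z, hz⟩ := h₂ ((g₁ * g₂ * g₃ * g₄) ^ m • w) (by rw [LinearMap.mem_ker, map_smul]; exact hm'')
    have hz' : (φ.map π) *ᵥ (π ∘ z) = (π g₂ * π (g₁ * g₂ * g₃ * g₄) ^ m * e) • v := by
      rw [← hπm, show φ *ᵥ z = _ from hz, mul_smul, ← hw]
      funext i
      simp [mul_assoc]
    obtain ⟨E, hE⟩ : IsUnit (π g₂ * π (g₁ * g₂ * g₃ * g₄) ^ m * e) := (hu₂.mul (hgu.pow m)).mul he
    refine ⟨(↑E⁻¹ : S) • (π ∘ z), ?_⟩
    rw [Matrix.mulVecLin_apply, Matrix.mulVec_smul, hz', smul_smul, ← hE, E.inv_mul, one_smul]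

end Groth.Agent.Deform85.HB
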