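import Groth.Agent.Deform85.NormalHartogs
import Mathlib.AlgebraicGeometry.Noetherian

/-!
# The Hartogs property and sections on quasi-compact opens of affine schemes
-/

set_option autoImplicit false

universe u

open CategoryTheory AlgebraicGeometry

namespace Groth.Agent.Deform85

/-- A basic open of the spectrum, as an open of the scheme. -/
abbrev specD {R : CommRingCat.{u}} (g : R) : (Spec R).Opens := PrimeSpectrum.basicOpen g

instance isLocalization_specD {R : CommRingCat.{u}} (g : R) : IsLocalization.Away g Γ(Spec R, specD g) :=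
  inferInstanceAs (IsLocalization.Away g Γ(Spec R, PrimeSpectrum.basicOpen g))

theorem exists_basic_cover (R : CommRingCat.{u}) [IsNoetherianRing R] (U : (Spec R).Opens) :
    ∃ G : Finset R, (∀ g ∈ G, specD g ≤ U) ∧ ∀ p ∈ U, ∃ g ∈ G, p ∈ specD g := by
  classical
  have hb : ∀ p : {p : Spec R // p ∈ U}, ∃ g : R, specD g ≤ U ∧ p.1 ∈ specD g := fun p => by
    obtain ⟨_, ⟨g, rfl⟩, hp, hle⟩ :=
      TopologicalSpace.Opens.isBasis_iff_nbhd.1 PrimeSpectrum.isBasis_basic_opens p.2
    exact ⟨g, hle, hp⟩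
  choose g hgle hgp using hb
  have hc : IsCompact (U : Set (Spec R)) := TopologicalSpace.NoetherianSpace.isCompact _
  obtain ⟨t, ht⟩ := hc.elim_finite_subcover (fun p => ((specD (g p) : (Spec R).Opens) : Set (Spec R)))
    (fun p => (specD (g p)).isOpen) (fun p hp => Set.mem_iUnion.2 ⟨⟨p, hp⟩, hgp ⟨p, hp⟩⟩)
  refine ⟨t.image g, fun x hx => ?_, fun p hp => ?_⟩
  · obtain ⟨p, -, rfl⟩ := Finset.mem_image.1 hx
    exact hgle p
  · obtain ⟨q, hq, hpq⟩ := Set.mem_iUnion₂.1 (ht hp)
    exact ⟨g q, Finset.mem_image_of_mem g hq, hpq⟩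

/-- Localisations at primes of a ring with normal spectrum are normal domains. -/
theorem normal_localization (R : CommRingCat.{u})
    (h : ∀ x : Spec R, IsDomain ((Spec R).presheaf.stalk x) ∧ IsIntegrallyClosed ((Spec R).presheaf.stalk x))
    (P : Ideal R) [P.IsPrime] :
    IsDomain (Localization.AtPrime P) ∧ IsIntegrallyClosed (Localization.AtPrime P) := by
  let p : Spec R := (⟨P, inferInstance⟩ : PrimeSpectrum R)
  let e := (Spec.stalkIso R p).commRingCatIsoToRingEquiv.symm
  haveI := (h p).1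
  haveI := (h p).2
  haveI : IsDomain (Localization.AtPrime P) := e.toMulEquiv.isDomain
  exact ⟨inferInstance, IsIntegrallyClosed.of_equiv e.symm⟩

theorem bijective_res_of_isHartogs (R : CommRingCat.{u}) (U : (Spec R).Opens) (G : Finset R)
    (hGle : ∀ g ∈ G, specD g ≤ U) (hGcov : ∀ p ∈ U, ∃ g ∈ G, p ∈ specD g)
    (hH : IsHartogs G) :
    Function.Bijective ((Spec R).presheaf.map (homOfLE (le_top : U ≤ ⊤)).op) := by
  classical
  have hAlg : ∀ (g a : R), algebraMap R Γ(Spec (R), specD g) a =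
      (Spec (R)).presheaf.map (homOfLE le_top).op ((Scheme.ΓSpecIso (R)).inv a) :=
    fun g a => rfl
  have hres : ∀ {U V W : (Spec (R)).Opens} (h : U ≤ V) (h' : V ≤ W) (x : Γ(_, W)),
      (Spec (R)).presheaf.map (homOfLE h).op ((Spec (R)).presheaf.map (homOfLE h').op x) =
        (Spec (R)).presheaf.map (homOfLE (h.trans h')).op x := fun h h' x => by
    rw [← CommRingCat.comp_apply, ← Functor.map_comp]
    rfl
  constructor
  · refine (injective_iff_map_eq_zero _).2 fun x hx => ?_
    have h0 : (Scheme.ΓSpecIso (R)).hom x = 0 := hH.sep _ fun g hg => by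
      have h1 : algebraMap R Γ(Spec (R), specD g)
          ((Scheme.ΓSpecIso (R)).hom x) = 0 := by
        rw [hAlg, ← CommRingCat.comp_apply (Scheme.ΓSpecIso _).hom (Scheme.ΓSpecIso _).inv, Iso.hom_inv_id,
          CommRingCat.id_apply, ← hres (hGle g hg) le_top]
        rw [hx, map_zero]
      obtain ⟨⟨_, n, rfl⟩, hn⟩ := (IsLocalization.map_eq_zero_iff (Submonoid.powers g) _ _).1 h1
      exact ⟨n, hn⟩
    apply (ConcreteCategory.bijective_of_isIso (Scheme.ΓSpecIso (R)).hom).1
    rw [h0, map_zero]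
  · intro s
    have hs : ∀ g : G, ∃ (n : ℕ) (a : R),
        algebraMap R Γ(Spec (R), specD (g : R)) ((g : R) ^ n) *
          (Spec (R)).presheaf.map (homOfLE (hGle g g.2)).op s = algebraMap R _ a := fun g => by
      obtain ⟨⟨a, ⟨_, n, rfl⟩⟩, h⟩ := IsLocalization.surj (Submonoid.powers (g : R))
        ((Spec (R)).presheaf.map (homOfLE (hGle g g.2)).op s)
      exact ⟨n, a, (mul_comm _ _).trans h⟩
    choose n a ha using hs
    let N := ∑ g, n g
    let a' : G → R := fun g => (g : R) ^ (N - n g) * a g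
    have ha' : ∀ g : G, algebraMap R Γ(Spec (R), specD (g : R)) ((g : R) ^ N) *
        (Spec (R)).presheaf.map (homOfLE (hGle g g.2)).op s = algebraMap R _ (a' g) := fun g => by
      have hle : n g ≤ N := Finset.single_le_sum (f := n) (fun _ _ => Nat.zero_le _) (Finset.mem_univ g)
      rw [show (g : R) ^ N = (g : R) ^ (N - n g) * (g : R) ^ n g by rw [← pow_add, Nat.sub_add_cancel hle],
        map_mul, mul_assoc, ha g, ← map_mul]
    have hcompat : ∀ g h : G, ∃ m : ℕ, ((g : R) * (h : R)) ^ m * ((g : R) ^ N * a' h - (h : R) ^ N * a' g) = 0 := fun g h => by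
      have hle1 : specD ((g : R) * (h : R)) ≤ specD (g : R) :=
        PrimeSpectrum.basicOpen_mul_le_left _ _
      have hle2 : specD ((g : R) * (h : R)) ≤ specD (h : R) :=
        PrimeSpectrum.basicOpen_mul_le_right _ _
      have e1 := congrArg ((Spec (R)).presheaf.map (homOfLE hle1).op) (ha' g)
      have e2 := congrArg ((Spec (R)).presheaf.map (homOfLE hle2).op) (ha' h)
      rw [map_mul, hres, hAlg, hres, ← hAlg, hAlg _ (a' g), hres, ← hAlg ((g : R) * (h : R))] at e1
      rw [map_mul, hres, hAlg, hres, ← hAlg, hAlg _ (a' h), hres, ← hAlg ((g : R) * (h : R))] at e2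
      have e3 : algebraMap R Γ(Spec (R), specD ((g : R) * (h : R)))
          ((g : R) ^ N * a' h - (h : R) ^ N * a' g) = 0 := by
        rw [map_sub, map_mul _ ((g : R) ^ N) (a' h), map_mul _ ((h : R) ^ N) (a' g), ← e1, ← e2]
        ring
      obtain ⟨⟨_, m, rfl⟩, hm⟩ := (IsLocalization.map_eq_zero_iff (Submonoid.powers ((g : R) * (h : R))) _ _).1 e3
      exact ⟨m, hm⟩
    choose m hm using hcompat
    let M := ∑ g, ∑ h, m g h
    let a'' : G → R := fun g => (g : R) ^ M * a' g
    have hcompat' : ∀ g h : G, (g : R) ^ (N + M) * a'' h = (h : R) ^ (N + M) * a'' g := fun g h => by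
      have hle : m g h ≤ M := (Finset.single_le_sum (f := m g) (fun _ _ => Nat.zero_le _) (Finset.mem_univ h)).trans
        (Finset.single_le_sum (f := fun g => ∑ h, m g h) (fun _ _ => Nat.zero_le _) (Finset.mem_univ g))
      have h2 : ((g : R) * (h : R)) ^ M * ((g : R) ^ N * a' h - (h : R) ^ N * a' g) = 0 := by
        rw [← Nat.sub_add_cancel hle, pow_add, mul_assoc, hm, mul_zero]
      simp only [a'']
      rw [← sub_eq_zero, ← h2]
      ring
    let f : R → R := fun x => if hx : x ∈ G then a'' ⟨x, hx⟩ else 0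
    obtain ⟨c, hc⟩ := hH.glue (N + M) f fun g hg h hh => by
      simp only [f, dif_pos hg, dif_pos hh]
      exact hcompat' ⟨g, hg⟩ ⟨h, hh⟩
    refine ⟨(Scheme.ΓSpecIso (R)).inv c, ?_⟩
    refine (Spec (R)).sheaf.eq_of_locally_eq' (fun g : G => specD (g : R)) U
      (fun g => homOfLE (hGle g g.2)) (fun p hp => ?_) _ _ fun g => ?_
    · obtain ⟨g, hg, hpg⟩ := hGcov p hp
      exact TopologicalSpace.Opens.mem_iSup.2 ⟨⟨g, hg⟩, hpg⟩
    change (Spec (R)).presheaf.map (homOfLE (hGle g g.2)).op
      ((Spec (R)).presheaf.map (homOfLE (le_top : U ≤ ⊤)).op _) =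
      (Spec (R)).presheaf.map (homOfLE (hGle g g.2)).op s
    rw [hres, ← hAlg (g : R)]
    apply (IsLocalization.map_units Γ(Spec (R), specD (g : R))
      (⟨(g : R) ^ (N + M), N + M, rfl⟩ : Submonoid.powers (g : R))).mul_left_cancel
    rw [← map_mul, hc g g.2]
    simp only [f, dif_pos g.2, a'', map_mul, ← ha' g, pow_add, map_pow]
    ring

end Groth.Agent.Deform85
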