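import Groth.Agent.ArtF85.Hull
import Groth.Agent.ArtF85.Torsor
import Groth.Agent.ArtF84.ObsHR
import Groth.Agent.ArtF84.ObsBounds
import Groth.Agent.CAlg6.CompleteSurj
import Groth.Agent.S12722
import Groth.Agent.S12721
import Groth.Agent.S12723
import Mathlib.RingTheory.Ideal.Cotangent
import Mathlib.RingTheory.KrullDimension.NonZeroDivisors
import Mathlib.RingTheory.MvPowerSeries.NoZeroDivisors

/-!
# The dimension of the tangent space of a hull
-/

set_option autoImplicit false

universe u v

open CategoryTheory IsLocalRing

noncomputable section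

namespace Groth.Agent.Deform85.HullDim

open ArtFun ArtFun.Art

variable {k : Type u} [Field k] (R : CRing k k)

theorem bijective_residue : Function.Bijective (algebraMap k (ResidueField R.carrier)) := by
  refine ⟨(algebraMap k (ResidueField R.carrier)).injective, fun x => ?_⟩
  obtain ⟨r, rfl⟩ := IsLocalRing.residue_surjective x
  refine ⟨R.res r, Eq.symm (Ideal.Quotient.eq.2 ?_)⟩
  rw [R.mem_maximalIdeal_iff, map_sub, AlgHom.commutes, Algebra.algebraMap_self, RingHom.id_apply, sub_self]

theorem isScalarTower_cotangent : IsScalarTower k (ResidueField R.carrier) (CotangentSpace R.carrier) :=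
  IsScalarTower.of_algebraMap_smul fun c m => by
    rw [IsScalarTower.algebraMap_apply k R.carrier (ResidueField R.carrier), algebraMap_smul, algebraMap_smul]

theorem finrank_cotangent :
    Module.finrank (ResidueField R.carrier) (CotangentSpace R.carrier) =
      Module.finrank k (CotangentSpace R.carrier) := by
  haveI := isScalarTower_cotangent R
  have h1 : Module.finrank k (ResidueField R.carrier) = 1 :=
    (LinearEquiv.ofBijective (Algebra.linearMap k (ResidueField R.carrier)) (bijective_residue R)).finrank_eq.symm.trans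
      (Module.finrank_self k)
  rw [← Module.finrank_mul_finrank k (ResidueField R.carrier) (CotangentSpace R.carrier), h1, one_mul]

theorem finite_cotangent : Module.Finite k (CotangentSpace R.carrier) :=
  have : Module.Finite k (ResidueField R.carrier) :=
    Module.Finite.of_surjective (Algebra.linearMap k (ResidueField R.carrier)) (bijective_residue R).2
  haveI := isScalarTower_cotangent R
  Module.Finite.trans (ResidueField R.carrier) (CotangentSpace R.carrier)

/-- Derivation attached to a tangent vector. -/
theorem eps_mul_of_res_zero (φ : HomSet R.carrier R.res (dual k k)) {a b : R.carrier} (ha : R.res a = 0)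
    (hb : R.res b = 0) : ArtF85.eps (φ.1 (a * b)) = 0 := by
  have h1 : (dual k k).res (φ.1 a) = 0 := (AlgHom.congr_fun φ.2 a).trans ha
  have h2 : (dual k k).res (φ.1 b) = 0 := (AlgHom.congr_fun φ.2 b).trans hb
  rw [map_mul, ArtF85.eps_mul, h1, h2, zero_mul, zero_mul, add_zero]

/-- A tangent vector, as a function on the maximal ideal. -/
def epsFun (φ : HomSet R.carrier R.res (dual k k)) (x : ↥(maximalIdeal R.carrier)) : k := ArtF85.eps (φ.1 x.1)

theorem epsFun_add (φ : HomSet R.carrier R.res (dual k k)) (x y : ↥(maximalIdeal R.carrier)) :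
    epsFun R φ (x + y) = epsFun R φ x + epsFun R φ y := by
  change ArtF85.eps (φ.1 (x.1 + y.1)) = _
  rw [map_add]
  rfl

theorem epsFun_smul (φ : HomSet R.carrier R.res (dual k k)) (c : k) (x : ↥(maximalIdeal R.carrier)) :
    epsFun R φ (c • x) = c * epsFun R φ x := by
  change ArtF85.eps (φ.1 (c • x.1)) = _
  rw [map_smul]
  rfl

theorem epsFun_eq_zero_of_mem (φ : HomSet R.carrier R.res (dual k k)) {a : R.carrier}
    (ha : a ∈ maximalIdeal R.carrier ^ 2) : ArtF85.eps (φ.1 a) = 0 := by
  rw [pow_two] at ha
  refine Submodule.mul_induction_on ha (fun x hx y hy => ?_) fun x y hx hy => ?_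
  · exact eps_mul_of_res_zero R φ ((R.mem_maximalIdeal_iff _).1 hx) ((R.mem_maximalIdeal_iff _).1 hy)
  · rw [map_add]
    change ArtF85.eps (φ.1 x) + ArtF85.eps (φ.1 y) = 0
    rw [hx, hy, add_zero]

theorem epsFun_congr (φ : HomSet R.carrier R.res (dual k k)) {x y : ↥(maximalIdeal R.carrier)}
    (h : (maximalIdeal R.carrier).toCotangent x = (maximalIdeal R.carrier).toCotangent y) :
    epsFun R φ x = epsFun R φ y := by
  have h1 := epsFun_eq_zero_of_mem R φ ((maximalIdeal R.carrier).toCotangent_eq.1 h)
  rw [map_sub] at h1
  exact sub_eq_zero.1 (show ArtF85.eps (φ.1 x.1) - ArtF85.eps (φ.1 y.1) = 0 from h1)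

/-- Lift of a cotangent vector. -/
def rep (z : CotangentSpace R.carrier) : ↥(maximalIdeal R.carrier) :=
  Function.surjInv (maximalIdeal R.carrier).toCotangent_surjective z

theorem toCotangent_rep (z : CotangentSpace R.carrier) : (maximalIdeal R.carrier).toCotangent (rep R z) = z :=
  Function.surjInv_eq _ z

/-- The functional on the cotangent space of a tangent vector. -/
def toDual (φ : HomSet R.carrier R.res (dual k k)) : Module.Dual k (CotangentSpace R.carrier) where
  toFun z := epsFun R φ (rep R z)
  map_add' x y := by
    rw [← epsFun_add]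
    refine epsFun_congr R φ ?_
    rw [map_add, toCotangent_rep, toCotangent_rep, toCotangent_rep]
  map_smul' c x := by
    rw [RingHom.id_apply, smul_eq_mul, ← epsFun_smul]
    refine epsFun_congr R φ ?_
    rw [LinearMap.map_smul_of_tower, toCotangent_rep, toCotangent_rep]

theorem toDual_toCotangent (φ : HomSet R.carrier R.res (dual k k)) (x : ↥(maximalIdeal R.carrier)) :
    toDual R φ ((maximalIdeal R.carrier).toCotangent x) = ArtF85.eps (φ.1 x.1) :=
  epsFun_congr R φ (toCotangent_rep R _)

theorem toDual_bijective : Function.Bijective (toDual R) := by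
  constructor
  · intro φ ψ h
    refine ArtF85.dual_homSet_ext fun a => ?_
    have ha : a - algebraMap k R.carrier (R.res a) ∈ maximalIdeal R.carrier := by
      rw [R.mem_maximalIdeal_iff, map_sub, AlgHom.commutes, Algebra.algebraMap_self, RingHom.id_apply, sub_self]
    have h1 := congrArg (fun f => f ((maximalIdeal R.carrier).toCotangent ⟨_, ha⟩)) h
    simp only [toDual_toCotangent, map_sub, AlgHom.commutes] at h1
    exact sub_left_inj.1 h1
  · intro ℓ
    let tp : R.carrier →ₗ[k] ↥(maximalIdeal R.carrier) :=
      (LinearMap.id - (Algebra.linearMap k R.carrier).comp R.res.toLinearMap).codRestrict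
        ((maximalIdeal R.carrier).restrictScalars k) fun a => by
          change a - algebraMap k R.carrier (R.res a) ∈ maximalIdeal R.carrier
          rw [R.mem_maximalIdeal_iff, map_sub, AlgHom.commutes, Algebra.algebraMap_self, RingHom.id_apply, sub_self]
    let δ : R.carrier →ₗ[k] k := ℓ ∘ₗ ((maximalIdeal R.carrier).toCotangent.restrictScalars k) ∘ₗ tp
    have hδ : ∀ a b, δ (a * b) = R.res a * δ b + R.res b * δ a := by
      intro a b
      have h1 : (maximalIdeal R.carrier).toCotangent (tp (a * b)) =
          R.res a • (maximalIdeal R.carrier).toCotangent (tp b) +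
            R.res b • (maximalIdeal R.carrier).toCotangent (tp a) := by
        rw [← LinearMap.map_smul_of_tower (maximalIdeal R.carrier).toCotangent (R.res a) (tp b),
          ← LinearMap.map_smul_of_tower (maximalIdeal R.carrier).toCotangent (R.res b) (tp a), ← map_add,
          Ideal.toCotangent_eq, pow_two]
        change (a * b - algebraMap k R.carrier (R.res (a * b))) -
          (R.res a • (b - algebraMap k R.carrier (R.res b)) + R.res b • (a - algebraMap k R.carrier (R.res a))) ∈ _
        have h2 := Ideal.mul_mem_mul (tp a).2 (tp b).2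
        convert h2 using 1
        change _ = (a - algebraMap k R.carrier (R.res a)) * (b - algebraMap k R.carrier (R.res b))
        rw [Algebra.smul_def, Algebra.smul_def, map_mul, map_mul]
        ring
      change ℓ ((maximalIdeal R.carrier).toCotangent (tp (a * b))) = _
      rw [h1, map_add, map_smul, map_smul, smul_eq_mul, smul_eq_mul]
      rfl
    refine ⟨ArtF85.dualHomSet R.res δ hδ, LinearMap.ext fun z => ?_⟩
    obtain ⟨x, rfl⟩ := (maximalIdeal R.carrier).toCotangent_surjective z
    rw [toDual_toCotangent]
    refine (ArtF85.eps_dualAlgHom R.res δ hδ x.1).trans ?_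
    refine congrArg (fun y => ℓ ((maximalIdeal R.carrier).toCotangent y)) (Subtype.ext ?_)
    change x.1 - algebraMap k R.carrier (R.res x.1) = x.1
    rw [(R.mem_maximalIdeal_iff _).1 x.2, map_zero, sub_zero]

/-- The tangent space of a hull is dual to the cotangent space of its ring. -/
theorem finrank_cotangent_eq {F : ArtFun.Art k k ⥤ Type v} [TangentStr F] (H : ArtFun.Hull F) :
    Module.finrank (ResidueField H.ring.carrier) (CotangentSpace H.ring.carrier) =
      Module.finrank k (TangentSpace F) := by
  letI := ArtF85.tangentStrOf (ArtF85.h0_hR (R := H.ring.carrier) (resR := H.ring.res)) ArtF85.heps_hR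
  let f := ArtF85.familyLinearMap H.family
  have hf : Function.Bijective f := H.miniversal.2
  let g : TangentSpace (hR H.ring.carrier H.ring.res) →ₗ[k] Module.Dual k (CotangentSpace H.ring.carrier) :=
    { toFun := fun x => toDual H.ring x
      map_add' := fun x y => by
        obtain ⟨z, rfl, rfl⟩ := ArtF85.exists_pair ArtF85.h0_hR ArtF85.heps_hR x y
        refine (congrArg (toDual H.ring) (TangentStr.add_eq (F := hR H.ring.carrier H.ring.res) z)).trans ?_
        refine LinearMap.ext fun w => ?_
        obtain ⟨x, rfl⟩ := (maximalIdeal H.ring.carrier).toCotangent_surjective w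
        exact ArtF85.eps_plus (z.1 (rep H.ring ((maximalIdeal H.ring.carrier).toCotangent x)).1)
      map_smul' := fun c x => by
        refine (congrArg (toDual H.ring) (TangentStr.smul_eq (F := hR H.ring.carrier H.ring.res) c x)).trans ?_
        refine LinearMap.ext fun w => ?_
        obtain ⟨y, rfl⟩ := (maximalIdeal H.ring.carrier).toCotangent_surjective w
        rfl }
  haveI := finite_cotangent H.ring
  rw [← (LinearEquiv.ofBijective f hf).finrank_eq,
    (LinearEquiv.ofBijective g (toDual_bijective H.ring)).finrank_eq, Subspace.dual_finrank_eq,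
    finrank_cotangent]

/-- A hull ring of maximal dimension is a power series ring, and conversely. -/
theorem dim_eq_iff_isSmoothFunctor {F : ArtFun.Art k k ⥤ Type v} (H : ArtFun.Hull F) :
    ringKrullDim H.ring.carrier =
        ((Module.finrank (ResidueField H.ring.carrier) (CotangentSpace H.ring.carrier) : ℕ∞) : WithBot ℕ∞) ↔
      IsSmoothFunctor F := by
  haveI : IsAdicComplete (maximalIdeal k) k := by
    rw [IsLocalRing.maximalIdeal_eq_bot]
    infer_instance
  have hk : Function.Surjective (algebraMap k k) := fun a => ⟨a, rfl⟩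
  rw [Groth.Agent.S12723.result (ArtF85.h0_of_isMiniversal H.miniversal) H.ring H.family H.miniversal.1,
    ← Groth.Agent.S12721.result H.ring, Groth.Agent.S12722.result hk H.ring,
    ← IsLocalRing.spanFinrank_maximalIdeal_eq_finrank_cotangentSpace]
  constructor
  · intro h
    obtain ⟨n, π, hπ, hπs, hker⟩ := Groth.Agent.ArtF84.Obs.exists_presentation H.ring
    refine ⟨n, ⟨(AlgEquiv.ofBijective π ⟨?_, hπs⟩).symm⟩⟩
    have hreg : IsRegularLocalRing (MvPowerSeries (Fin n) k) :=
      Groth.Agent.CAlg6.isRegularLocalRing_mvPowerSeries ..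
    haveI : IsRegularLocalRing (Groth.Agent.ArtF84.Obs.PS (k := k) n).carrier := hreg
    haveI : IsDomain (Groth.Agent.ArtF84.Obs.PS (k := k) n).carrier :=
      (NoZeroDivisors.to_isDomain (MvPowerSeries (Fin n) k))
    rw [Groth.Agent.ArtF84.Obs.spanFinrank_maximalIdeal_eq π hπs hker] at h
    have hS := IsRegularLocalRing.spanFinrank_maximalIdeal (R := (Groth.Agent.ArtF84.Obs.PS (k := k) n).carrier)
    refine (injective_iff_map_eq_zero π).2 fun x hx => ?_
    by_contra hx0
    have h1 := ringKrullDim_quotient_succ_le_of_nonZeroDivisor (mem_nonZeroDivisors_of_ne_zero hx0)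
    have h2 : ringKrullDim H.ring.carrier ≤
        ringKrullDim ((Groth.Agent.ArtF84.Obs.PS (k := k) n).carrier ⧸ Ideal.span {x}) :=
      ringKrullDim_le_of_surjective (Ideal.Quotient.lift (Ideal.span {x}) π.toRingHom fun a ha => by
        obtain ⟨c, rfl⟩ := Ideal.mem_span_singleton'.1 ha
        rw [map_mul, show π.toRingHom x = 0 from hx, mul_zero])
        (Ideal.Quotient.lift_surjective_of_surjective _ _ hπs)
    rw [← hS] at h1
    have h3 := (add_le_add_left h2 1).trans h1
    rw [h] at h3
    have h4 : (((Submodule.spanFinrank (maximalIdeal (Groth.Agent.ArtF84.Obs.PS (k := k) n).carrier) + 1 : ℕ) : ℕ∞) :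
        WithBot ℕ∞) ≤ ((Submodule.spanFinrank (maximalIdeal (Groth.Agent.ArtF84.Obs.PS (k := k) n).carrier) : ℕ∞) :
        WithBot ℕ∞) := by
      rw [Nat.cast_add, Nat.cast_one]
      exact h3
    exact absurd (Nat.cast_le.1 (WithBot.coe_le_coe.1 h4)) (by omega)
  · rintro ⟨n, ⟨e⟩⟩
    haveI : IsRegularLocalRing (MvPowerSeries (Fin n) k) := Groth.Agent.CAlg6.isRegularLocalRing_mvPowerSeries ..
    haveI : IsRegularLocalRing H.ring.carrier := IsRegularLocalRing.of_ringEquiv e.toRingEquiv.symm
    exact (IsRegularLocalRing.spanFinrank_maximalIdeal (R := H.ring.carrier)).symm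

end Groth.Agent.Deform85.HullDim
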