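import Groth.Agent.FlatCrit65.Basic
import Mathlib.RingTheory.Ideal.Maps
import Mathlib.RingTheory.Ideal.Over
import Mathlib.RingTheory.Ideal.Quotient.Operations
import Mathlib.LinearAlgebra.TensorProduct.RightExactness

/-!
Flat lifts of an ideal along a square-zero extension: two lifts differ by a unique linear map
`I → (B/I) ⊗ J`, and every such map is the difference from a given lift of exactly one lift.
-/

universe u

open TensorProduct

namespace Groth.Agent.Deform85.IdealTorsor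

variable {A' : Type u} [CommRing A'] {J : Ideal A'}

/-- Multiplication `M ⊗ J → M`. -/
noncomputable def mu (J : Ideal A') (M : Type u) [AddCommGroup M] [Module A' M] :
    M ⊗[A'] ↥J →ₗ[A'] M :=
  (TensorProduct.rid A' M).toLinearMap ∘ₗ (Submodule.subtype J).lTensor M

@[simp] lemma mu_tmul {M : Type u} [AddCommGroup M] [Module A' M] (m : M) (j : ↥J) :
    mu J M (m ⊗ₜ j) = (j : A') • m := rfl

lemma mu_nat {M N : Type u} [AddCommGroup M] [Module A' M] [AddCommGroup N] [Module A' N]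
    (f : M →ₗ[A'] N) (z : M ⊗[A'] ↥J) : mu J N (f.rTensor ↥J z) = f (mu J M z) := by
  induction z using TensorProduct.induction_on with
  | zero => simp
  | tmul m j => simp
  | add a b ha hb => simp [ha, hb]

lemma mu_injective {M : Type u} [AddCommGroup M] [Module A' M] [Module.Flat A' M] :
    Function.Injective (mu J M) :=
  (TensorProduct.rid A' M).injective.comp
    (Module.Flat.lTensor_preserves_injective_linearMap _ (Submodule.injective_subtype J))

lemma rTensor_injective_of_ker_le {M N : Type u} [AddCommGroup M] [Module A' M] [AddCommGroup N]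
    [Module A' N] (f : M →ₗ[A'] N) (hf : Function.Surjective f) (K : Ideal A') (hK : K * J = ⊥)
    (hker : LinearMap.ker f ≤ K • (⊤ : Submodule A' M)) :
    Function.Injective (f.rTensor ↥J) := by
  have h0 : ∀ m : M, m ∈ K • (⊤ : Submodule A' M) → ∀ j : ↥J, m ⊗ₜ[A'] j = 0 := by
    intro m hm j
    induction hm using Submodule.smul_induction_on' with
    | smul a ha n hn =>
      have hz : a • j = 0 := by
        apply Subtype.ext
        have : a * (j : A') ∈ K * J := Ideal.mul_mem_mul ha j.2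
        rw [hK] at this
        simpa using this
      rw [TensorProduct.smul_tmul, hz, TensorProduct.tmul_zero]
    | add x hx y hy ihx ihy => rw [TensorProduct.add_tmul, ihx, ihy, add_zero]
  rw [injective_iff_map_eq_zero]
  intro z hz
  obtain ⟨w, rfl⟩ := (rTensor_exact (Q := ↥J) (f := (LinearMap.ker f).subtype) (g := f)
    (LinearMap.exact_subtype_ker_map f) hf z).mp hz
  clear hz
  induction w using TensorProduct.induction_on with
  | zero => simp
  | tmul m j => rw [LinearMap.rTensor_tmul]; exact h0 _ (hker m.2) j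
  | add a b ha hb => rw [map_add, ha, hb, add_zero]

section Alg

variable {B' : Type u} [CommRing B'] [Algebra A' B']

lemma mu_smul (b : B') (z : B' ⊗[A'] ↥J) : mu J B' (b • z) = b * mu J B' z := by
  induction z using TensorProduct.induction_on with
  | zero => simp
  | tmul c j => rw [TensorProduct.smul_tmul', mu_tmul, mu_tmul, smul_eq_mul, mul_smul_comm]
  | add x y hx hy => rw [smul_add, map_add, map_add, hx, hy, mul_add]

lemma mu_mem_map (z : B' ⊗[A'] ↥J) : mu J B' z ∈ J.map (algebraMap A' B') := by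
  induction z using TensorProduct.induction_on with
  | zero => simp
  | tmul c j =>
    rw [mu_tmul, Algebra.smul_def]
    exact Ideal.mul_mem_right _ _ (Ideal.mem_map_of_mem _ j.2)
  | add x y hx hy => rw [map_add]; exact add_mem hx hy

lemma exists_mu_eq {y : B'} (hy : y ∈ J.map (algebraMap A' B')) :
    ∃ z : B' ⊗[A'] ↥J, mu J B' z = y := by
  induction hy using Submodule.span_induction with
  | mem x hx =>
    obtain ⟨j, hj, rfl⟩ := hx
    exact ⟨(1 : B') ⊗ₜ ⟨j, hj⟩, by rw [mu_tmul, Algebra.algebraMap_eq_smul_one]⟩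
  | zero => exact ⟨0, map_zero _⟩
  | add a b _ _ ha hb =>
    obtain ⟨za, rfl⟩ := ha
    obtain ⟨zb, rfl⟩ := hb
    exact ⟨za + zb, map_add _ _ _⟩
  | smul c x _ hx =>
    obtain ⟨zx, rfl⟩ := hx
    exact ⟨c • zx, mu_smul c zx⟩

variable (I : Ideal (B' ⧸ J.map (algebraMap A' B')))

/-- The projection `B' ⊗ J → (B/I) ⊗ J`. -/
noncomputable def proj :
    B' ⊗[A'] ↥J →ₗ[A'] ((B' ⧸ J.map (algebraMap A' B')) ⧸ I) ⊗[A'] ↥J :=
  (IsScalarTower.toAlgHom A' B' ((B' ⧸ J.map (algebraMap A' B')) ⧸ I)).toLinearMap.rTensor ↥J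

lemma proj_smul (b : B') (z : B' ⊗[A'] ↥J) : proj I (b • z) = b • proj I z := by
  induction z using TensorProduct.induction_on with
  | zero => simp
  | tmul c j =>
    simp only [proj, TensorProduct.smul_tmul', LinearMap.rTensor_tmul]
    congr 1
  | add x y hx hy => rw [smul_add, map_add, map_add, hx, hy, smul_add]

lemma proj_surjective : Function.Surjective (proj I) :=
  LinearMap.rTensor_surjective _ (by
    intro q
    obtain ⟨b, rfl⟩ := Ideal.Quotient.mk_surjective q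
    obtain ⟨c, rfl⟩ := Ideal.Quotient.mk_surjective b
    exact ⟨c, rfl⟩)

variable {I}
variable {I' : Ideal B'}
  (hI' : I'.map (Ideal.Quotient.mk (J.map (algebraMap A' B'))) = I)

local notation "mkB" => Ideal.Quotient.mk (J.map (algebraMap A' B'))

include hI' in
lemma exists_lift {x : B' ⧸ J.map (algebraMap A' B')} (hx : x ∈ I) :
    ∃ x' ∈ I', mkB x' = x := by
  rw [← hI', Ideal.mem_map_iff_of_surjective _ Ideal.Quotient.mk_surjective] at hx
  exact hx

include hI' in
lemma mk_mem {x' : B'} (h : x' ∈ I') : mkB x' ∈ I := hI' ▸ Ideal.mem_map_of_mem _ h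

/-- The map `B'/I' → B/I`. -/
noncomputable def descend : (B' ⧸ I') →ₗ[A'] ((B' ⧸ J.map (algebraMap A' B')) ⧸ I) :=
  ((I'.restrictScalars A').liftQ
    (IsScalarTower.toAlgHom A' B' ((B' ⧸ J.map (algebraMap A' B')) ⧸ I)).toLinearMap
    (fun x hx => Ideal.Quotient.eq_zero_iff_mem.mpr (mk_mem hI' hx))) ∘ₗ
  (Submodule.Quotient.restrictScalarsEquiv A' I').symm.toLinearMap

lemma descend_mk (b : B') :
    descend hI' (Ideal.Quotient.mk I' b) = Ideal.Quotient.mk I (mkB b) := rfl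

lemma descend_surjective : Function.Surjective (descend hI') := by
  intro q
  obtain ⟨b, rfl⟩ := Ideal.Quotient.mk_surjective q
  obtain ⟨c, rfl⟩ := Ideal.Quotient.mk_surjective b
  exact ⟨Ideal.Quotient.mk I' c, descend_mk hI' c⟩

lemma ker_descend_le :
    LinearMap.ker (descend hI') ≤ J • (⊤ : Submodule A' (B' ⧸ I')) := by
  intro m hm
  obtain ⟨b, rfl⟩ := Ideal.Quotient.mk_surjective m
  rw [LinearMap.mem_ker, descend_mk, Ideal.Quotient.eq_zero_iff_mem] at hm
  obtain ⟨x', hx', hxb⟩ := exists_lift hI' hm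
  obtain ⟨z, hz⟩ := exists_mu_eq (Ideal.Quotient.eq.mp hxb.symm)
  have hb : Ideal.Quotient.mk I' b = Ideal.Quotient.mk I' (mu J B' z) := by
    rw [hz, map_sub, Ideal.Quotient.eq_zero_iff_mem.mpr hx', sub_zero]
  rw [hb]
  clear hz hb
  induction z using TensorProduct.induction_on with
  | zero => simp
  | tmul c j =>
    rw [mu_tmul, ← Ideal.Quotient.mkₐ_eq_mk A', map_smul]
    exact Submodule.smul_mem_smul j.2 Submodule.mem_top
  | add x y hx hy => rw [map_add, map_add]; exact add_mem hx hy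

variable (hJ : J * J = ⊥)

include hI' hJ in
lemma proj_eq_zero_iff [Module.Flat A' (B' ⧸ I')] (z : B' ⊗[A'] ↥J) :
    proj I z = 0 ↔ mu J B' z ∈ I' := by
  have h1 : proj I z =
      (descend hI').rTensor ↥J ((Ideal.Quotient.mkₐ A' I').toLinearMap.rTensor ↥J z) := by
    rw [← LinearMap.rTensor_comp_apply]
    rfl
  rw [h1, map_eq_zero_iff _ (rTensor_injective_of_ker_le _ (descend_surjective hI') J hJ
    (ker_descend_le hI')), ← map_eq_zero_iff _ (mu_injective (J := J) (M := B' ⧸ I')), mu_nat]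
  exact Ideal.Quotient.eq_zero_iff_mem

variable {I'' : Ideal B'}
  (hI'' : I''.map (Ideal.Quotient.mk (J.map (algebraMap A' B'))) = I)

include hI' hI'' hJ in
/-- Well-definedness of the difference of two lifts. -/
lemma proj_eq_of_diff [Module.Flat A' (B' ⧸ I')] [Module.Flat A' (B' ⧸ I'')]
    {x₁ x₂ y₁ y₂ : B'} (hx₁ : x₁ ∈ I') (hx₂ : x₂ ∈ I') (hy₁ : y₁ ∈ I'') (hy₂ : y₂ ∈ I'')
    (hx : mkB x₁ = mkB x₂) (hy : mkB y₁ = mkB y₂) {z₁ z₂ : B' ⊗[A'] ↥J}
    (hz₁ : mu J B' z₁ = y₁ - x₁) (hz₂ : mu J B' z₂ = y₂ - x₂) : proj I z₁ = proj I z₂ := by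
  obtain ⟨w', hw'⟩ := exists_mu_eq (Ideal.Quotient.eq.mp hx)
  obtain ⟨w'', hw''⟩ := exists_mu_eq (Ideal.Quotient.eq.mp hy)
  have h' : proj I w' = 0 := (proj_eq_zero_iff hI' hJ w').mpr (hw' ▸ sub_mem hx₁ hx₂)
  have h'' : proj I w'' = 0 := (proj_eq_zero_iff hI'' hJ w'').mpr (hw'' ▸ sub_mem hy₁ hy₂)
  have h : proj I (z₁ - z₂ - w'' + w') = 0 := (proj_eq_zero_iff hI' hJ _).mpr (by
    rw [map_add, map_sub, map_sub, hz₁, hz₂, hw', hw'']
    convert zero_mem I' using 1
    ring)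
  rw [map_add, map_sub, map_sub, h', h'', sub_zero, add_zero, sub_eq_zero] at h
  exact h

/-- `φ` is the difference between `I''` and `I'`. -/
def IsDiff (I' I'' : Ideal B')
    (φ : ↥I →ₗ[B'] ((B' ⧸ J.map (algebraMap A' B')) ⧸ I) ⊗[A'] ↥J) : Prop :=
  ∀ (x : (B' ⧸ J.map (algebraMap A' B'))) (hx : x ∈ I) (x' x'' : B'), x' ∈ I' → x'' ∈ I'' →
    mkB x' = x → mkB x'' = x → ∀ z : B' ⊗[A'] ↥J, mu J B' z = x'' - x' → proj I z = φ ⟨x, hx⟩

include hI' hI'' hJ in
theorem existsUnique_diff [Module.Flat A' (B' ⧸ I')] [Module.Flat A' (B' ⧸ I'')] :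
    ∃! φ : ↥I →ₗ[B'] ((B' ⧸ J.map (algebraMap A' B')) ⧸ I) ⊗[A'] ↥J, IsDiff I' I'' φ := by
  have hex : ∀ x : ↥I, ∃ x' x'' : B', ∃ z : B' ⊗[A'] ↥J, x' ∈ I' ∧ x'' ∈ I'' ∧ mkB x' = x.1 ∧
      mkB x'' = x.1 ∧ mu J B' z = x'' - x' := by
    intro x
    obtain ⟨x', hx', e'⟩ := exists_lift hI' x.2
    obtain ⟨x'', hx'', e''⟩ := exists_lift hI'' x.2
    obtain ⟨z, hz⟩ := exists_mu_eq (Ideal.Quotient.eq.mp (e''.trans e'.symm))
    exact ⟨x', x'', z, hx', hx'', e', e'', hz⟩
  choose a b z ha hb ea eb hz using hex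
  let φ : ↥I →ₗ[B'] ((B' ⧸ J.map (algebraMap A' B')) ⧸ I) ⊗[A'] ↥J :=
    { toFun := fun x => proj I (z x)
      map_add' := fun x y => by
        rw [← map_add]
        refine proj_eq_of_diff hI' hJ hI'' (ha _) (add_mem (ha x) (ha y)) (hb _)
          (add_mem (hb x) (hb y)) ?_ ?_ (hz _) ?_
        · rw [ea, map_add, ea, ea]; rfl
        · rw [eb, map_add, eb, eb]; rfl
        · rw [map_add, hz, hz]; ring
      map_smul' := fun c x => by
        rw [RingHom.id_apply, ← proj_smul]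
        refine proj_eq_of_diff hI' hJ hI'' (ha _) (Ideal.mul_mem_left _ c (ha x)) (hb _)
          (Ideal.mul_mem_left _ c (hb x)) ?_ ?_ (hz _) ?_
        · rw [ea, map_mul, ea]; rfl
        · rw [eb, map_mul, eb]; rfl
        · rw [mu_smul, hz, mul_sub] }
  refine ⟨φ, ?_, ?_⟩
  · intro x hx x' x'' h' h'' e' e'' w hw
    exact proj_eq_of_diff hI' hJ hI'' h' (ha ⟨x, hx⟩) h'' (hb ⟨x, hx⟩)
      (e'.trans (ea ⟨x, hx⟩).symm) (e''.trans (eb ⟨x, hx⟩).symm) hw (hz _)
  · intro ψ hψ
    refine LinearMap.ext fun x => ?_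
    exact (hψ x.1 x.2 _ _ (ha x) (hb x) (ea x) (eb x) _ (hz x)).symm

variable (φ : ↥I →ₗ[B'] ((B' ⧸ J.map (algebraMap A' B')) ⧸ I) ⊗[A'] ↥J)

/-- `y` lies in the translate of `I'` by `φ`. -/
def InTranslate (I' : Ideal B') (y : B') : Prop :=
  ∃ (x : ↥I) (x' : B') (z : B' ⊗[A'] ↥J),
    x' ∈ I' ∧ mkB x' = x.1 ∧ mu J B' z = y - x' ∧ proj I z = φ x

/-- The translate of `I'` by `φ`. -/
def translate (I' : Ideal B') : Ideal B' where
  carrier := {y | InTranslate φ I' y}
  add_mem' := by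
    rintro y₁ y₂ ⟨x, x', z, h, e, hz, hp⟩ ⟨u, u', w, hu, eu, hw, hq⟩
    refine ⟨x + u, x' + u', z + w, add_mem h hu, ?_, ?_, ?_⟩
    · rw [map_add, e, eu]; rfl
    · rw [map_add, hz, hw]; ring
    · rw [map_add, map_add, hp, hq]
  zero_mem' := ⟨0, 0, 0, zero_mem _, by simp, by simp, by simp⟩
  smul_mem' := by
    rintro c y ⟨x, x', z, h, e, hz, hp⟩
    refine ⟨c • x, c * x', c • z, Ideal.mul_mem_left _ _ h, ?_, ?_, ?_⟩
    · rw [map_mul, e]; rfl
    · rw [mu_smul, hz, smul_eq_mul, mul_sub]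
    · rw [proj_smul, hp, map_smul]

include hI' in
lemma map_translate : (translate φ I').map mkB = I := by
  refine le_antisymm ?_ fun x hx => ?_
  · rw [Ideal.map_le_iff_le_comap]
    rintro y ⟨x, x', z, h, e, hz, -⟩
    rw [Ideal.mem_comap, (eq_add_of_sub_eq' hz.symm : y = x' + mu J B' z), map_add,
      Ideal.Quotient.eq_zero_iff_mem.mpr (mu_mem_map z), add_zero, e]
    exact x.2
  · obtain ⟨x', h, e⟩ := exists_lift hI' hx
    obtain ⟨z, hz⟩ := proj_surjective I (φ ⟨x, hx⟩)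
    have hmem : x' + mu J B' z ∈ translate φ I' :=
      ⟨⟨x, hx⟩, x', z, h, e, by ring, hz⟩
    have := Ideal.mem_map_of_mem mkB hmem
    rwa [map_add, Ideal.Quotient.eq_zero_iff_mem.mpr (mu_mem_map z), add_zero, e] at this

include hI' hJ in
lemma isDiff_translate [Module.Flat A' (B' ⧸ I')] : IsDiff I' (translate φ I') φ := by
  rintro x hx x' x'' h' ⟨x₀, x₀', z₀, h₀, e₀, hz₀, hp₀⟩ e' e'' z hz
  have hx0 : x₀ = ⟨x, hx⟩ := by
    apply Subtype.ext
    change x₀.1 = x
    rw [← e₀, ← e'', (eq_add_of_sub_eq' hz₀.symm : x'' = x₀' + mu J B' z₀), map_add,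
      Ideal.Quotient.eq_zero_iff_mem.mpr (mu_mem_map z₀), add_zero]
  subst hx0
  obtain ⟨w, hw⟩ := exists_mu_eq (Ideal.Quotient.eq.mp (e'.trans e₀.symm))
  have hw0 : proj I w = 0 := (proj_eq_zero_iff hI' hJ w).mpr (hw ▸ sub_mem h' h₀)
  have h : proj I (z₀ - z - w) = 0 := (proj_eq_zero_iff hI' hJ _).mpr (by
    rw [map_sub, map_sub, hz₀, hz, hw]
    convert zero_mem I' using 1
    ring)
  rw [map_sub, map_sub, hw0, sub_zero, sub_eq_zero] at h
  rw [← h, hp₀]

include hI' hJ in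
lemma proj_eq_zero_of_mem_translate [Module.Flat A' (B' ⧸ I')] {z : B' ⊗[A'] ↥J}
    (h : mu J B' z ∈ translate φ I') : proj I z = 0 := by
  have := isDiff_translate hI' hJ φ 0 (zero_mem I) 0 _ (zero_mem I') h (map_zero _)
    (Ideal.Quotient.eq_zero_iff_mem.mpr (mu_mem_map z)) z (sub_zero _).symm
  rw [this]
  exact map_zero φ

lemma mem_translate_of_proj_eq_zero {z : B' ⊗[A'] ↥J} (h : proj I z = 0) :
    mu J B' z ∈ translate φ I' :=
  ⟨0, 0, z, zero_mem _, by simp, (sub_zero _).symm, by simp [h]⟩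

include hI' hJ in
lemma flat_translate [Module.Flat A' (B' ⧸ I')]
    [Module.Flat (A' ⧸ J) ((B' ⧸ J.map (algebraMap A' B')) ⧸ I)] :
    Module.Flat A' (B' ⧸ translate φ I') := by
  have hT := map_translate hI' φ
  refine Groth.Agent.FlatCrit65.flat_of_injective_of_isNilpotent
    (⟨2, by rw [pow_two]; exact hJ⟩ : IsNilpotent J) ?_ ?_
  · have hinj : Function.Injective (mu J (B' ⧸ translate φ I')) := by
      rw [injective_iff_map_eq_zero]
      intro q hq
      obtain ⟨z, rfl⟩ := LinearMap.rTensor_surjective ↥J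
        (g := (Ideal.Quotient.mkₐ A' (translate φ I')).toLinearMap)
        (Ideal.Quotient.mkₐ_surjective A' (translate φ I')) q
      erw [mu_nat] at hq
      have h0 : proj I z = 0 :=
        proj_eq_zero_of_mem_translate hI' hJ φ (Ideal.Quotient.eq_zero_iff_mem.mp hq)
      apply rTensor_injective_of_ker_le _ (descend_surjective hT) J hJ (ker_descend_le hT)
      rw [map_zero, ← h0, ← LinearMap.rTensor_comp_apply]
      rfl
    exact Function.Injective.of_comp hinj
  · have hker : LinearMap.ker (descend hT) = J • (⊤ : Submodule A' (B' ⧸ translate φ I')) := by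
      refine le_antisymm (ker_descend_le hT) (Submodule.smul_le.mpr fun a ha m _ => ?_)
      obtain ⟨b, rfl⟩ := Ideal.Quotient.mk_surjective m
      rw [LinearMap.mem_ker, ← Ideal.Quotient.mkₐ_eq_mk A', ← map_smul, Ideal.Quotient.mkₐ_eq_mk,
        descend_mk, Ideal.Quotient.eq_zero_iff_mem]
      have h0 : mkB (a • b) = 0 := Ideal.Quotient.eq_zero_iff_mem.mpr
        (by rw [Algebra.smul_def]; exact Ideal.mul_mem_right _ _ (Ideal.mem_map_of_mem _ ha))
      rw [h0]
      exact zero_mem I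
    let e := (TensorProduct.quotTensorEquivQuotSMul (B' ⧸ translate φ I') J).trans
      ((Submodule.quotEquivOfEq _ _ hker.symm).trans
        ((descend hT).quotKerEquivOfSurjective (descend_surjective hT)))
    exact Module.Flat.of_linearEquiv (e.extendScalarsOfSurjective
      (Ideal.Quotient.mk_surjective (I := J)))

include hI' hJ in
theorem existsUnique_translate [Module.Flat A' (B' ⧸ I')]
    [Module.Flat (A' ⧸ J) ((B' ⧸ J.map (algebraMap A' B')) ⧸ I)] :
    ∃! I'' : Ideal B', Module.Flat A' (B' ⧸ I'') ∧ I''.map mkB = I ∧ IsDiff I' I'' φ := by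
  refine ⟨translate φ I', ⟨flat_translate hI' hJ φ, map_translate hI' φ,
    isDiff_translate hI' hJ φ⟩, ?_⟩
  rintro K ⟨hKflat, hK, hKd⟩
  refine le_antisymm (fun y hy => ?_) ?_
  · have hyI : mkB y ∈ I := mk_mem hK hy
    obtain ⟨x', h, e⟩ := exists_lift hI' hyI
    obtain ⟨z, hz⟩ := exists_mu_eq (Ideal.Quotient.eq.mp e.symm)
    exact ⟨⟨_, hyI⟩, x', z, h, e, hz, hKd _ hyI x' y h hy e rfl z hz⟩
  · rintro y ⟨x, x', z, h, e, hz, hp⟩
    obtain ⟨y', hy', ey⟩ := exists_lift hK x.2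
    obtain ⟨z', hz'⟩ := exists_mu_eq (Ideal.Quotient.eq.mp (ey.trans e.symm))
    have h0 : proj I z' = φ x := hKd x.1 x.2 x' y' h hy' e ey z' hz'
    have hw : proj I (z - z') = 0 := by rw [map_sub, hp, h0, sub_self]
    have := add_mem hy' ((proj_eq_zero_iff hK hJ _).mp hw)
    rw [map_sub, hz, hz'] at this
    convert this using 1
    ring

end Alg

end Groth.Agent.Deform85.IdealTorsor
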