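import Groth.Agent.Deform85.PSNil
import Groth.Agent.S11741
import Groth.Agent.S0548
import Mathlib.RingTheory.AdicCompletion.LocalRing
import Mathlib.RingTheory.Jacobson.Ring
import Mathlib.FieldTheory.IsAlgClosed.Basic
import Mathlib.RingTheory.Localization.AtPrime.Basic

/-!
A point of an affine variety is regular iff all curvilinear jets at it lift.
-/

set_option autoImplicit false
set_option linter.style.haveILetI false

universe u v

namespace Groth.Agent.Deform85.Jets

open Polynomial IsLocalRing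

variable (k : Type u) [Field k]

/-- Truncated polynomials. -/
abbrev B (l : ℕ) : Type u := k[X] ⧸ Ideal.span {(X : k[X]) ^ l}

/-- The class of `X`. -/
noncomputable def x (l : ℕ) : B k l := Ideal.Quotient.mk _ X

/-- Reduction of truncated polynomials. -/
noncomputable def red {l l' : ℕ} (h : l ≤ l') : B k l' →ₐ[k] B k l :=
  Ideal.Quotient.factorₐ k (Ideal.span_singleton_le_span_singleton.mpr (pow_dvd_pow (X : k[X]) h))

variable {k}

theorem red_x {l l' : ℕ} (h : l ≤ l') : red k h (x k l') = x k l := rfl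

theorem red_red {l l' l'' : ℕ} (h : l ≤ l') (h' : l' ≤ l'') (y : B k l'') :
    red k h (red k h' y) = red k (h.trans h') y := by
  obtain ⟨p, rfl⟩ := Ideal.Quotient.mk_surjective y
  rfl

theorem span_x_pow (l : ℕ) : (Ideal.span {x k l}) ^ l = ⊥ := by
  rw [Ideal.span_singleton_pow, x, ← map_pow, Ideal.Quotient.eq_zero_iff_mem.2 (Ideal.mem_span_singleton_self _),
    Ideal.span_singleton_eq_bot]

theorem exists_eq_add_mul (l : ℕ) (y : B k l) : ∃ (c : k) (q : B k l), y = algebraMap k _ c + x k l * q := by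
  obtain ⟨p, rfl⟩ := Ideal.Quotient.mk_surjective y
  refine ⟨p.coeff 0, Ideal.Quotient.mk _ p.divX, ?_⟩
  conv_lhs => rw [← X_mul_divX_add p]
  rw [map_add, map_mul, add_comm, IsScalarTower.algebraMap_apply k k[X] (B k l)]
  rfl

theorem isUnit_or_mem (l : ℕ) (y : B k l) : IsUnit y ∨ y ∈ Ideal.span {x k l} := by
  obtain ⟨c, q, rfl⟩ := exists_eq_add_mul l y
  have hq : x k l * q ∈ Ideal.span {x k l} := Ideal.mul_mem_right _ _ (Ideal.mem_span_singleton_self _)
  rcases eq_or_ne c 0 with hc | hc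
  · exact Or.inr (by rwa [hc, map_zero, zero_add])
  · refine Or.inl (IsNilpotent.isUnit_add_left_of_commute ?_ ((hc.isUnit).map _) (Commute.all _ _))
    exact ⟨l, Ideal.mem_bot.1 (span_x_pow (k := k) l ▸ Ideal.pow_mem_pow hq l)⟩

theorem nontrivial_B {l : ℕ} (hl : 1 ≤ l) : Nontrivial (B k l) :=
  Ideal.Quotient.nontrivial_iff.mpr fun h => by
    rw [Ideal.eq_top_iff_one, Ideal.mem_span_singleton, X_pow_dvd_iff] at h
    simpa using h 0 hl

theorem mem_of_isNilpotent {l : ℕ} (hl : 1 ≤ l) {y : B k l} (hy : IsNilpotent y) : y ∈ Ideal.span {x k l} := by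
  haveI := nontrivial_B (k := k) hl
  exact (isUnit_or_mem l y).resolve_left hy.not_isUnit

theorem isNilpotent_of_mem {l : ℕ} {y : B k l} (hy : y ∈ Ideal.span {x k l}) : IsNilpotent y :=
  ⟨l, Ideal.mem_bot.1 (span_x_pow (k := k) l ▸ Ideal.pow_mem_pow hy l)⟩

theorem x_pow_mul_injective (N : ℕ) {c : k} (h : x k (N + 1) ^ N * algebraMap k _ c = 0) : c = 0 := by
  rw [x, ← map_pow, IsScalarTower.algebraMap_apply k k[X] (B k (N + 1))] at h
  change Ideal.Quotient.mk _ (X ^ N) * Ideal.Quotient.mk _ (C c) = 0 at h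
  rw [← map_mul, Ideal.Quotient.eq_zero_iff_mem, Ideal.mem_span_singleton, X_pow_dvd_iff] at h
  have := h N (Nat.lt_succ_self N)
  simpa [coeff_C] using this

theorem aeval_mul_of_homogeneous {R : Type v} [CommRing R] [Algebra k R] {σ : Type*}
    {P : MvPolynomial σ k} {N : ℕ} (hP : P.IsHomogeneous N) (t : R) (z : σ → R) :
    MvPolynomial.aeval (fun i => t * z i) P = t ^ N * MvPolynomial.aeval z P := by
  rw [MvPolynomial.aeval_def, MvPolynomial.aeval_def, MvPolynomial.eval₂_eq, MvPolynomial.eval₂_eq,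
    Finset.mul_sum]
  refine Finset.sum_congr rfl fun d hd => ?_
  have hdeg : ∑ i ∈ d.support, d i = N := by
    rw [← hP (MvPolynomial.mem_support_iff.1 hd)]
    simp [Finsupp.weight_apply, Finsupp.sum]
  rw [Finset.prod_congr rfl (fun i _ => mul_pow t (z i) (d i)), Finset.prod_mul_distrib,
    Finset.prod_pow_eq_pow_sum, hdeg]
  ring

variable {n : ℕ}

/-- A series killed by arcs in every direction is zero. -/
theorem eq_zero_of_arcs [Infinite k] (f : MvPowerSeries (Fin n) k)
    (H : ∀ (v : Fin n → k) (N : ℕ), ∃ G : MvPowerSeries (Fin n) k →ₐ[k] B k (N + 1), G f = 0 ∧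
      ∀ i, ∃ z, G (MvPowerSeries.X i) = x k (N + 1) * z ∧
        (1 ≤ N → z - algebraMap k _ (v i) ∈ Ideal.span {x k (N + 1)})) : f = 0 := by
  classical
  refine CAlg6.eq_zero_of_forall_ordGE fun N => ?_
  induction N with
  | zero => exact CAlg6.ordGE_zero f
  | succ N ih =>
    obtain ⟨P, hPdef⟩ : ∃ P : MvPolynomial (Fin n) k, P = MvPowerSeries.truncTotal (N + 1) f := ⟨_, rfl⟩
    have hP : P.IsHomogeneous N := fun d hd => by
      have h1 : d.degree = Finsupp.weight (1 : Fin n → ℕ) d := by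
        rw [Finsupp.degree_eq_weight_one]; rfl
      rw [← h1]
      by_contra hne
      rw [hPdef] at hd
      rcases Nat.lt_or_gt_of_ne hne with h | h
      · exact hd ((MvPowerSeries.coeff_truncTotal _ (h.trans (Nat.lt_succ_self N))).trans (ih d h))
      · have h5 : (MvPowerSeries.truncTotal (N + 1) f).coeff d = 0 :=
          MvPowerSeries.coeff_truncTotal_eq_zero (n := N + 1) f (Nat.succ_le_of_lt h)
        exact hd h5
    have hev : ∀ v : Fin n → k, MvPolynomial.eval v P = 0 := fun v => by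
      obtain ⟨G, hG0, hG⟩ := H v N
      choose z hz hzv using hG
      have hGX : ∀ i, G (MvPowerSeries.X i) ∈ Ideal.span {x k (N + 1)} := fun i =>
        hz i ▸ Ideal.mul_mem_right _ _ (Ideal.mem_span_singleton_self _)
      obtain ⟨G', hG'X, hG'p⟩ := PSNil.exists_hom_nil (k := k) (Ideal.span {x k (N + 1)}) (N + 1) (span_x_pow (N + 1)) _ hGX
      have hGG' : G = G' := PSNil.hom_ext_nil (Ideal.span {x k (N + 1)}) (N + 1) (span_x_pow (N + 1)) hGX fun i => (hG'X i).symm
      have h1 : G (P : MvPowerSeries (Fin n) k) = 0 := by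
        rw [hPdef]
        have h2 := Ideal.mem_map_of_mem G (PSNil.sub_truncTotal_mem f (N + 1))
        rw [Ideal.map_pow] at h2
        have h3 : (Ideal.span (Set.range (MvPowerSeries.X : Fin n → MvPowerSeries (Fin n) k))).map G ≤
            Ideal.span {x k (N + 1)} := by
          rw [Ideal.map_span, Ideal.span_le]
          rintro _ ⟨_, ⟨i, rfl⟩, rfl⟩
          exact hGX i
        have h4 := Ideal.pow_right_mono h3 (N + 1) h2
        rw [span_x_pow, Ideal.mem_bot, map_sub, hG0, zero_sub, neg_eq_zero] at h4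
        exact h4
      have hfun : (fun i => G (MvPowerSeries.X i)) = fun i => x k (N + 1) * z i := funext hz
      rw [hGG', hG'p, hfun, aeval_mul_of_homogeneous hP] at h1
      refine x_pow_mul_injective N ?_
      rcases Nat.eq_zero_or_pos N with rfl | hN
      · rw [show P = MvPolynomial.C (P.coeff 0) from
          MvPolynomial.totalDegree_eq_zero_iff_eq_C.1 (Nat.le_zero.1 hP.totalDegree_le)] at h1 ⊢
        simpa using h1
      have hdiff : MvPolynomial.aeval z P - algebraMap k _ (MvPolynomial.eval v P) ∈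
          Ideal.span {x k (N + 1)} := by
        rw [← Ideal.Quotient.eq_zero_iff_mem, ← Ideal.Quotient.mkₐ_eq_mk k, map_sub, AlgHom.commutes,
          sub_eq_zero]
        rw [← AlgHom.comp_apply, show (Ideal.Quotient.mkₐ k (Ideal.span {x k (N + 1)})).comp (MvPolynomial.aeval z) =
          MvPolynomial.aeval (fun i => Ideal.Quotient.mkₐ k (Ideal.span {x k (N + 1)}) (z i)) from
            MvPolynomial.algHom_ext fun i => by simp]
        have : (fun i => Ideal.Quotient.mkₐ k (Ideal.span {x k (N + 1)}) (z i)) =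
            fun i => algebraMap k _ (v i) := funext fun i =>
          (Ideal.Quotient.eq.2 (hzv i hN)).trans (AlgHom.commutes (Ideal.Quotient.mkₐ k _) (v i))
        rw [this]
        rw [← MvPolynomial.aeval_eq_eval]
        exact AlgHom.congr_fun (MvPolynomial.algHom_ext (f := MvPolynomial.aeval fun i => algebraMap k (B k (N + 1) ⧸ Ideal.span {x k (N + 1)}) (v i))
          (g := (Algebra.ofId k (B k (N + 1) ⧸ Ideal.span {x k (N + 1)})).comp (MvPolynomial.aeval v))
          fun i => by simp) P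
      obtain ⟨q, hq⟩ := Ideal.mem_span_singleton.1 hdiff
      rw [sub_eq_iff_eq_add'] at hq
      rw [hq, mul_add, ← mul_assoc, ← pow_succ] at h1
      have hx : x k (N + 1) ^ (N + 1) = 0 :=
        Ideal.mem_bot.1 (span_x_pow (k := k) (N + 1) ▸ Ideal.pow_mem_pow (Ideal.mem_span_singleton_self _) _)
      rwa [hx, zero_mul, add_zero] at h1
    have hP0 : P = 0 := MvPolynomial.funext fun v => by rw [hev v, map_zero]
    intro d hd
    rw [← MvPowerSeries.coeff_truncTotal f hd]
    rw [← hPdef, hP0, MvPolynomial.coeff_zero]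

/-- Abstract form of the criterion. -/
theorem regular_iff [Infinite k] {A : Type u} [CommRing A] [Algebra k A] (m : Ideal A)
    (hA : ∀ a : A, ∃ c : k, a - algebraMap k A c ∈ m)
    {C : Type u} [CommRing C] [IsLocalRing C] [IsNoetherianRing C] [Algebra k C]
    [IsAdicComplete (maximalIdeal C) C] (hres : Function.Surjective ((residue C).comp (algebraMap k C)))
    (ι : A →ₐ[k] C) (hι : ∀ a ∈ m, ι a ∈ maximalIdeal C)
    (hdense : ∀ (y : C) (j : ℕ), ∃ a s : A, s ∉ m ∧ ι s * y - ι a ∈ maximalIdeal C ^ j)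
    (hext : ∀ (l : ℕ) (φ : A →ₐ[k] B k l), (∀ a ∈ m, φ a ∈ Ideal.span {x k l}) →
      ∃ Φ : C →ₐ[k] B k l, Φ.comp ι = φ ∧ ∀ y ∈ maximalIdeal C, Φ y ∈ Ideal.span {x k l}) :
    IsRegularLocalRing C ↔
      ∀ (l : ℕ), 1 ≤ l →
        ∀ (φ : A →ₐ[k] B k l), (∀ a ∈ m, IsNilpotent (φ a)) →
          ∃ ψ : A →ₐ[k] B k (l + 1), (red k (Nat.le_succ l)).comp ψ = φ := by
  obtain ⟨d, hd⟩ : ∃ d, Module.finrank (ResidueField C) (CotangentSpace C) = d := ⟨_, rfl⟩
  obtain ⟨ψ, hψm, hψs, hker⟩ := PSNil.exists_presentation C hres d hd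
  have huniq : ∀ (l : ℕ) (Φ Φ' : C →ₐ[k] B k l), (∀ y ∈ maximalIdeal C, Φ y ∈ Ideal.span {x k l}) →
      (∀ y ∈ maximalIdeal C, Φ' y ∈ Ideal.span {x k l}) → Φ.comp ι = Φ'.comp ι → Φ = Φ' := by
    intro l Φ Φ' hΦ hΦ' e
    refine AlgHom.ext fun y => ?_
    obtain ⟨a, s, hs, hj⟩ := hdense y l
    have hz : ∀ T : C →ₐ[k] B k l, (∀ y ∈ maximalIdeal C, T y ∈ Ideal.span {x k l}) →
        T (ι s) * T y = T (ι a) := fun T hT => by
      have h1 := Ideal.mem_map_of_mem T hj
      rw [Ideal.map_pow] at h1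
      have h2 := Ideal.pow_right_mono (Ideal.map_le_iff_le_comap.2 fun y hy => Ideal.mem_comap.2 (hT y hy)) l h1
      rwa [span_x_pow, Ideal.mem_bot, map_sub, map_mul, sub_eq_zero] at h2
    obtain ⟨c, hc⟩ := hA s
    have hc0 : c ≠ 0 := fun h => hs (by simpa [h] using hc)
    have hu : IsUnit (Φ (ι s)) := by
      have := (hc0.isUnit.map (algebraMap k (B k l)))
      have h1 : Φ (ι (s - algebraMap k A c)) ∈ Ideal.span {x k l} := hΦ _ (hι _ hc)
      rw [map_sub, map_sub, AlgHom.commutes, AlgHom.commutes] at h1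
      have h2 := (isNilpotent_of_mem h1).isUnit_add_left_of_commute this (Commute.all _ _)
      rwa [add_sub_cancel] at h2
    have es : Φ' (ι s) = Φ (ι s) := (AlgHom.congr_fun e s).symm
    have ea : Φ' (ι a) = Φ (ι a) := (AlgHom.congr_fun e a).symm
    have h3 := hz Φ' hΦ'
    rw [es, ea, ← hz Φ hΦ] at h3
    exact (hu.mul_left_cancel h3).symm
  constructor
  · intro hreg l hl φ hφ
    obtain ⟨Φ, hΦι, hΦm⟩ := hext l φ fun a ha => mem_of_isNilpotent hl (hφ a ha)
    have hy : ∀ i, ∃ y ∈ Ideal.span {x k (l + 1)}, red k (Nat.le_succ l) y = Φ (ψ (MvPowerSeries.X i)) := by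
      intro i
      obtain ⟨q, hq⟩ := Ideal.mem_span_singleton.1 (hΦm _ (hψm i))
      obtain ⟨q', rfl⟩ := Ideal.Quotient.mk_surjective q
      refine ⟨x k (l + 1) * Ideal.Quotient.mk _ q', ?_, ?_⟩
      · exact Ideal.mul_mem_right (Ideal.Quotient.mk _ q') (Ideal.span {x k (l + 1)})
          (Ideal.mem_span_singleton_self _)
      · rw [map_mul, red_x, hq]
        congr 1
    choose y hy hyr using hy
    obtain ⟨G, hG, -⟩ := PSNil.exists_hom_nil (k := k) (Ideal.span {x k (l + 1)}) (l + 1) (span_x_pow (l + 1)) y hy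
    have hGr : (red k (Nat.le_succ l)).comp G = Φ.comp ψ := by
      have h : ∀ i, (red k (Nat.le_succ l)).comp G (MvPowerSeries.X i) = Φ.comp ψ (MvPowerSeries.X i) :=
        fun i => by rw [AlgHom.comp_apply, hG, hyr]; rfl
      exact PSNil.hom_ext_nil (Ideal.span {x k l}) l (span_x_pow l) (fun i => (h i).symm ▸ hΦm _ (hψm i)) h
    have hbij : Function.Bijective ψ := by
      have h1 := (IsRegularLocalRing.iff_finrank_cotangentSpace C).1 hreg
      rw [hd] at h1
      have : IsDomain (MvPowerSeries (Fin d) k) := NoZeroDivisors.to_isDomain _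
      exact ⟨CAlg6.injective_of_surjective_of_ringKrullDim_eq ψ.toRingHom hψs d
        CAlg6.ringKrullDim_mvPowerSeries h1.symm, hψs⟩
    let e := AlgEquiv.ofBijective ψ hbij
    refine ⟨(G.comp (e.symm : C →ₐ[k] MvPowerSeries (Fin d) k)).comp ι, AlgHom.ext fun a => ?_⟩
    refine (AlgHom.congr_fun hGr (e.symm (ι a))).trans ?_
    change Φ (e (e.symm (ι a))) = φ a
    rw [e.apply_symm_apply]
    exact AlgHom.congr_fun hΦι a
  · intro H
    have hI : RingHom.ker ψ.toRingHom = ⊥ := by
      rw [eq_bot_iff]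
      intro f hf
      rw [Ideal.mem_bot]
      refine eq_zero_of_arcs f fun v N => ?_
      obtain ⟨G₂, hG₂, -⟩ := PSNil.exists_hom_nil (k := k) (Ideal.span {x k 2}) 2 (span_x_pow 2)
        (fun i => x k 2 * algebraMap k _ (v i))
        (fun i => Ideal.mul_mem_right _ _ (Ideal.mem_span_singleton_self _))
      have hG₂m : ∀ g ∈ maximalIdeal (MvPowerSeries (Fin d) k), G₂ g ∈ Ideal.span {x k 2} := by
        intro g hg
        rw [CAlg6.maximalIdeal_eq_span_X] at hg
        refine (Ideal.span_le.2 ?_ : _ ≤ (Ideal.span {x k 2}).comap G₂) hg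
        rintro _ ⟨i, rfl⟩
        rw [SetLike.mem_coe, Ideal.mem_comap]
        rw [hG₂]
        exact Ideal.mul_mem_right _ _ (Ideal.mem_span_singleton_self _)
      have hk₂ : RingHom.ker ψ.toRingHom ≤ RingHom.ker G₂.toRingHom := fun g hg => by
        have h1 := Ideal.mem_map_of_mem G₂ (hker hg)
        rw [Ideal.map_pow] at h1
        have := Ideal.pow_right_mono (Ideal.map_le_iff_le_comap.2 fun g hg => Ideal.mem_comap.2 (hG₂m g hg)) 2 h1
        rwa [span_x_pow, Ideal.mem_bot] at this
      let Φ₂ : C →ₐ[k] B k 2 := AlgHom.liftOfSurjective ψ hψs G₂ hk₂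
      have hΦ₂ψ : ∀ g, Φ₂ (ψ g) = G₂ g := AlgHom.liftOfSurjective_apply ψ hψs G₂ hk₂
      have hΦ₂ : ∀ y ∈ maximalIdeal C, Φ₂ y ∈ Ideal.span {x k 2} := fun y hy => by
        obtain ⟨g, rfl⟩ := hψs y
        rw [hΦ₂ψ]
        refine hG₂m g ?_
        by_contra hg
        exact hy ((IsLocalRing.notMem_maximalIdeal.1 hg).map ψ)
      have hall : ∀ j, ∃ φ : A →ₐ[k] B k (2 + j), (red k (Nat.le_add_right 2 j)).comp φ = Φ₂.comp ι ∧
          ∀ a ∈ m, φ a ∈ Ideal.span {x k (2 + j)} := by
        intro j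
        induction j with
        | zero =>
          refine ⟨Φ₂.comp ι, AlgHom.ext fun a => ?_, fun a ha => hΦ₂ _ (hι a ha)⟩
          obtain ⟨p, hp⟩ := Ideal.Quotient.mk_surjective (Φ₂.comp ι a)
          change red k (Nat.le_add_right 2 0) (Φ₂.comp ι a) = Φ₂.comp ι a
          rw [← hp]; rfl
        | succ j ih =>
          obtain ⟨φ, hφ, hφm⟩ := ih
          obtain ⟨φ', hφ'⟩ := H (2 + j) (by omega) φ fun a ha => isNilpotent_of_mem (hφm a ha)
          have hc : ∀ a, red k (Nat.le_succ (2 + j)) (φ' a) = φ a := AlgHom.congr_fun hφ'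
          refine ⟨φ', AlgHom.ext fun a => ?_, fun a ha => ?_⟩
          · rw [← AlgHom.congr_fun hφ a, AlgHom.comp_apply, AlgHom.comp_apply, ← hc, red_red]
          · refine (isUnit_or_mem _ (φ' a)).resolve_left fun hu => ?_
            have hu' := hu.map (red k (Nat.le_succ (2 + j)))
            rw [hc] at hu'
            haveI := nontrivial_B (k := k) (l := 2 + j) (by omega)
            exact (isNilpotent_of_mem (hφm a ha)).not_isUnit hu'
      obtain ⟨φ, hφ, hφm⟩ := hall N
      obtain ⟨Φ, hΦι, hΦm⟩ := hext _ φ hφm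
      have hle : N + 1 ≤ 2 + N := by omega
      have hredm : ∀ {l l' : ℕ} (h : l ≤ l'), ∀ y ∈ Ideal.span {x k l'}, red k h y ∈ Ideal.span {x k l} := by
        intro l l' h y hy
        obtain ⟨q, rfl⟩ := Ideal.mem_span_singleton.1 hy
        rw [map_mul, red_x]
        exact Ideal.mul_mem_right _ _ (Ideal.mem_span_singleton_self _)
      have h2 : (red k (Nat.le_add_right 2 N)).comp Φ = Φ₂ :=
        huniq 2 _ _ (fun y hy => hredm (Nat.le_add_right 2 N) _ (hΦm y hy)) hΦ₂ (by rw [AlgHom.comp_assoc, hΦι, hφ])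
      refine ⟨((red k hle).comp Φ).comp ψ, ?_, fun i => ?_⟩
      · change red k hle (Φ (ψ f)) = 0
        rw [show ψ f = 0 from hf, map_zero, map_zero]
      obtain ⟨q, hq⟩ := Ideal.mem_span_singleton.1 (hΦm _ (hψm i))
      obtain ⟨c, q', hqc⟩ := exists_eq_add_mul _ q
      refine ⟨red k hle q, ?_, fun hN => ?_⟩
      · change red k hle (Φ (ψ (MvPowerSeries.X i))) = _
        rw [hq, map_mul, red_x]
      have e := AlgHom.congr_fun h2 (ψ (MvPowerSeries.X i))
      have hx2 : x k 2 ^ 2 = 0 := Ideal.mem_bot.1 (span_x_pow (k := k) 2 ▸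
          Ideal.pow_mem_pow (Ideal.mem_span_singleton_self (x k 2)) 2)
      rw [AlgHom.comp_apply, hΦ₂ψ, hG₂, hq, hqc, map_mul, map_add, map_mul, AlgHom.commutes, red_x,
        mul_add, ← mul_assoc, ← pow_two, hx2, zero_mul, add_zero,
        ← sub_eq_zero, ← mul_sub, ← map_sub] at e
      have hcv : c = v i := sub_eq_zero.1 (x_pow_mul_injective 1 (by rwa [pow_one]))
      rw [hqc, map_add, map_mul, AlgHom.commutes, red_x, hcv, add_sub_cancel_left]
      exact Ideal.mul_mem_right _ _ (Ideal.mem_span_singleton_self _)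
    have := CAlg6.isRegularLocalRing_mvPowerSeries (k := k) (d := d)
    exact IsRegularLocalRing.of_ringEquiv (RingEquiv.ofBijective ψ.toRingHom
      ⟨(RingHom.injective_iff_ker_eq_bot ψ.toRingHom).2 hI, hψs⟩)

theorem main [IsAlgClosed k] (A : Type u) [CommRing A] [Algebra k A] [Algebra.FiniteType k A]
    (m : Ideal A) [m.IsMaximal] :
    IsRegularLocalRing (Localization.AtPrime m) ↔
      ∀ (l : ℕ), 1 ≤ l →
        ∀ (φ : A →ₐ[k] B k l), (∀ a ∈ m, IsNilpotent (φ a)) →
          ∃ ψ : A →ₐ[k] B k (l + 1), (red k (Nat.le_succ l)).comp ψ = φ := by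
  haveI : IsNoetherianRing A := Algebra.FiniteType.isNoetherianRing k A
  let L := Localization.AtPrime m
  haveI : IsNoetherianRing L := IsLocalization.isNoetherianRing m.primeCompl L inferInstance
  let C := AdicCompletion (maximalIdeal L) L
  haveI : IsNoetherianRing C := CAlg1.isNoetherianRing_adicCompletion _ (IsNoetherian.noetherian _)
  haveI : Algebra.FiniteType k (A ⧸ m) := Algebra.FiniteType.of_surjective (Ideal.Quotient.mkₐ k m) Ideal.Quotient.mk_surjective
  letI := Ideal.Quotient.field m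
  haveI : Module.Finite k (A ⧸ m) := finite_of_finite_type_of_isJacobsonRing k (A ⧸ m)
  have hA : ∀ a : A, ∃ c : k, a - algebraMap k A c ∈ m := fun a => by
    obtain ⟨c, hc⟩ := (IsAlgClosed.algebraMap_bijective_of_isIntegral (k := k) (K := A ⧸ m)).2
      (Ideal.Quotient.mk m a)
    exact ⟨c, by rw [← Ideal.Quotient.eq, ← hc]; rfl⟩
  have hLm : ∀ a, algebraMap A L a ∈ maximalIdeal L ↔ a ∈ m :=
    fun a => IsLocalization.AtPrime.to_map_mem_maximal_iff L m a
  have hL : ∀ y : L, ∃ (a s : A), s ∉ m ∧ algebraMap A L s * y = algebraMap A L a := fun y => by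
    obtain ⟨⟨a, s⟩, h⟩ := IsLocalization.surj m.primeCompl y
    exact ⟨a, s, s.2, by rw [mul_comm]; exact h⟩
  have hLres : Function.Surjective ((residue L).comp (algebraMap k L)) := fun z => by
    obtain ⟨y, rfl⟩ := residue_surjective z
    obtain ⟨a, s, hs, e⟩ := hL y
    obtain ⟨ca, hca⟩ := hA a
    obtain ⟨cs, hcs⟩ := hA s
    have h1 := (residue_eq_zero_iff _).2 ((hLm _).2 hca)
    have h2 := (residue_eq_zero_iff _).2 ((hLm _).2 hcs)
    rw [map_sub, map_sub, sub_eq_zero, ← IsScalarTower.algebraMap_apply] at h1 h2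
    have hcs0 : cs ≠ 0 := fun h => hs (by simpa [h] using hcs)
    refine ⟨ca / cs, ?_⟩
    have h3 := congrArg (residue L) e
    rw [map_mul, h1, h2] at h3
    rw [map_div₀, div_eq_iff ((map_ne_zero ((residue L).comp (algebraMap k L))).2 hcs0)]
    exact h3.symm.trans (mul_comm _ _)
  have hCmax : maximalIdeal C = (maximalIdeal L).map (algebraMap L C) := AdicCompletion.maximalIdeal_eq_map
  have hCres : Function.Surjective ((residue C).comp (algebraMap k C)) := fun z => by
    obtain ⟨w, rfl⟩ := (AdicCompletion.residueField_map_bijective L).2 z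
    obtain ⟨c, rfl⟩ := hLres w
    exact ⟨c, by rw [RingHom.comp_apply, RingHom.comp_apply, IsLocalRing.ResidueField.map_residue,
      ← IsScalarTower.algebraMap_apply]⟩
  refine (Groth.Agent.S0548.result L).trans (regular_iff (k := k) m hA hCres (IsScalarTower.toAlgHom k A C)
    (fun a ha => ?_) (fun y j => ?_) (fun l φ hφ => ?_))
  · change algebraMap A C a ∈ _
    rw [IsScalarTower.algebraMap_apply A L C, hCmax]
    exact Ideal.mem_map_of_mem _ ((hLm a).2 ha)
  · obtain ⟨w, hw⟩ := Ideal.Quotient.mk_surjective (AdicCompletion.evalₐ (maximalIdeal L) j y)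
    obtain ⟨a, s, hs, e⟩ := hL w
    refine ⟨a, s, hs, ?_⟩
    change algebraMap A C s * y - algebraMap A C a ∈ _
    rw [IsScalarTower.algebraMap_apply A L C s, IsScalarTower.algebraMap_apply A L C a, ← e, map_mul, ← mul_sub]
    refine Ideal.mul_mem_left _ _ ?_
    rw [hCmax, ← Ideal.map_pow, ← Submodule.restrictScalars_mem L, ← Ideal.smul_top_eq_map,
      AdicCompletion.pow_smul_top_eq_ker_eval (IsNoetherian.noetherian (maximalIdeal L)), LinearMap.mem_ker]
    have key : AdicCompletion.evalₐ (maximalIdeal L) j (y - algebraMap L C w) = 0 := by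
      rw [map_sub, AlgHom.commutes, ← hw, Ideal.Quotient.algebraMap_eq, sub_self]
    obtain ⟨w', hw'⟩ := AdicCompletion.mk_surjective (maximalIdeal L) L (y - algebraMap L C w)
    rw [← hw'] at key ⊢
    rw [AdicCompletion.evalₐ_mk, Ideal.Quotient.eq_zero_iff_mem] at key
    rw [AdicCompletion.eval_apply, AdicCompletion.mk_apply_coe, Submodule.mkQ_apply, Submodule.Quotient.mk_eq_zero,
      smul_eq_mul, Ideal.mul_top]
    exact key
  · have hu : ∀ s : m.primeCompl, IsUnit (φ s) := fun s => by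
      obtain ⟨c, hc⟩ := hA s
      have hc0 : c ≠ 0 := fun h => s.2 (by simpa [h] using hc)
      have h1 := hφ _ hc
      rw [map_sub, AlgHom.commutes] at h1
      have h2 := (isNilpotent_of_mem h1).isUnit_add_left_of_commute (hc0.isUnit.map (algebraMap k (B k l)))
        (Commute.all _ _)
      rwa [add_sub_cancel] at h2
    let φL : L →ₐ[k] B k l := IsLocalization.liftAlgHom (M := m.primeCompl) (f := φ) hu
    have hφLm : (maximalIdeal L).map φL ≤ Ideal.span {x k l} := by
      rw [← Localization.AtPrime.map_eq_maximalIdeal, Ideal.map_le_iff_le_comap, Ideal.map_le_iff_le_comap]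
      intro a ha
      rw [Ideal.mem_comap, Ideal.mem_comap]
      rw [show φL (algebraMap A L a) = φ a from IsLocalization.lift_eq _ a]
      exact hφ a ha
    have hk : maximalIdeal L ^ l ≤ RingHom.ker φL := fun y hy => by
      have h1 := Ideal.mem_map_of_mem φL hy
      rw [Ideal.map_pow] at h1
      have h2 := Ideal.pow_right_mono hφLm l h1
      rwa [span_x_pow, Ideal.mem_bot] at h2
    let Φ : C →ₐ[k] B k l := (Ideal.Quotient.liftₐ _ φL hk).comp
      ((AdicCompletion.evalₐ (maximalIdeal L) l).restrictScalars k)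
    have hΦL : ∀ w : L, Φ (algebraMap L C w) = φL w := fun w => by
      change Ideal.Quotient.liftₐ _ φL hk (AdicCompletion.evalₐ (maximalIdeal L) l (algebraMap L C w)) = _
      rw [AlgHom.commutes]
      rfl
    refine ⟨Φ, AlgHom.ext fun a => ?_, fun y hy => ?_⟩
    · change Φ (algebraMap A C a) = φ a
      rw [IsScalarTower.algebraMap_apply A L C, hΦL]
      exact IsLocalization.lift_eq _ a
    · rw [hCmax] at hy
      refine (Ideal.map_le_iff_le_comap.2 ?_ : (maximalIdeal L).map (algebraMap L C) ≤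
        (Ideal.span {x k l}).comap Φ) hy
      intro w hw
      rw [Ideal.mem_comap, Ideal.mem_comap]
      rw [hΦL]
      exact hφLm (Ideal.mem_map_of_mem _ hw)

end Groth.Agent.Deform85.Jets
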