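import Groth.Agent.Deform85.LciH1
import Groth.Agent.CotT85.ExtT2
import Mathlib.LinearAlgebra.Contraction
import Mathlib.LinearAlgebra.Dual.BaseChange
import Mathlib.RingTheory.Kaehler.Basic
import Mathlib.RingTheory.Spectrum.Prime.FreeLocus
import Mathlib.RingTheory.TensorProduct.Quotient

/-!
Base change of `Ext¹(Ω, P)` for a flat lci algebra with generically smooth fibres.
-/

set_option autoImplicit false

universe u

open TensorProduct CategoryTheory.Abelian

noncomputable section

namespace Groth.Agent.Deform85.LciExtBC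

section Dual

variable (R : Type u) [CommRing R] (S : Type u) [CommRing S] [Algebra R S]
variable (V : Type u) [AddCommGroup V] [Module R V]

/-- `S ⊗ Hom(V, R) → Hom_S(S ⊗ V, S)`. -/
def theta : S ⊗[R] Module.Dual R V →ₗ[S] Module.Dual S (S ⊗[R] V) :=
  LinearMap.liftBaseChange S (Module.Dual.baseChange S)

lemma theta_bijective [Module.Finite R V] [Module.Projective R V] :
    Function.Bijective (theta R S V) := by
  let e := ((TensorProduct.comm R S (Module.Dual R V)).trans (dualTensorHomEquiv R V S)).toEquiv.trans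
    (LinearMap.liftBaseChangeEquiv (R := R) S (M := V) (N := S)).toEquiv
  suffices h : ∀ x, theta R S V x = e x by rw [show (theta R S V : _ → _) = e from funext h]; exact e.bijective
  intro x
  refine LinearMap.ext fun y => ?_
  induction y using TensorProduct.induction_on with
  | zero => simp
  | add a b ha hb => rw [map_add, map_add, ha, hb]
  | tmul a v =>
    change _ = a • (dualTensorHomEquiv R V S (TensorProduct.comm R S (Module.Dual R V) x)) v
    induction x using TensorProduct.induction_on with
    | zero => simp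
    | add x x' hx hx' => simp [hx, hx', mul_add]
    | tmul s φ => simp [theta, Algebra.smul_def]; ring

end Dual

section Coker

variable (R : Type u) [CommRing R] (S : Type u) [CommRing S] [Algebra R S]
variable {C F : Type u} [AddCommGroup C] [Module R C] [AddCommGroup F] [Module R F]
  [Module.Finite R C] [Module.Projective R C] [Module.Finite R F] [Module.Projective R F]

/-- Cokernels of duals commute with base change. -/
theorem nonempty_coker_dual_baseChange (d : C →ₗ[R] F) :
    Nonempty (S ⊗[R] (Module.Dual R C ⧸ LinearMap.range (LinearMap.lcomp R R d)) ≃ₗ[S]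
      Module.Dual S (S ⊗[R] C) ⧸ LinearMap.range (LinearMap.lcomp S S (d.baseChange S))) := by
  let N := LinearMap.range (LinearMap.lcomp R R d)
  let q : S ⊗[R] Module.Dual R C →ₗ[S] S ⊗[R] (Module.Dual R C ⧸ N) := N.mkQ.baseChange S
  let θ := LinearEquiv.ofBijective (theta R S C) (theta_bijective R S C)
  have hq : Function.Surjective q := LinearMap.lTensor_surjective S N.mkQ_surjective
  have hker : LinearMap.ker q = LinearMap.range ((LinearMap.lcomp R R d).baseChange S) :=
    SetLike.ext fun z => (lTensor_exact (R := R) S (f := LinearMap.lcomp R R d) (g := N.mkQ)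
      (fun x => by rw [Submodule.mkQ_apply, Submodule.Quotient.mk_eq_zero]; rfl) N.mkQ_surjective z)
  have hnat : theta R S C ∘ₗ (LinearMap.lcomp R R d).baseChange S =
      LinearMap.lcomp S S (d.baseChange S) ∘ₗ theta R S F := by
    refine TensorProduct.AlgebraTensorModule.ext fun s φ => ?_
    refine TensorProduct.AlgebraTensorModule.ext fun a c => ?_
    simp [theta]
  refine ⟨(q.quotKerEquivOfSurjective hq).symm.trans (Submodule.Quotient.equiv _ _ θ ?_)⟩
  rw [hker, ← LinearMap.range_comp]
  change LinearMap.range (theta R S C ∘ₗ (LinearMap.lcomp R R d).baseChange S) = _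
  rw [hnat, LinearMap.range_comp, LinearMap.range_eq_top.2 (theta_bijective R S F).2, Submodule.map_top]

end Coker

section Split

variable {R : Type u} [CommRing R] {C F Ω : Type u} [AddCommGroup C] [Module R C] [AddCommGroup F]
  [Module R F] [AddCommGroup Ω] [Module R Ω] [Module.Finite R C] [Module.FinitePresentation R F]

/-- An exact sequence with locally free cokernel splits up to a denominator. -/
theorem exists_retraction (d : C →ₗ[R] F) (π : F →ₗ[R] Ω) (hd : Function.Injective d)
    (hex : Function.Exact d π) (hπ : Function.Surjective π) (𝔓 : PrimeSpectrum R)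
    (hfree : 𝔓 ∈ Module.freeLocus R Ω) :
    ∃ (r : F →ₗ[R] C) (s : R), s ∉ 𝔓.asIdeal ∧ ∀ c, r (d c) = s • c := by
  let S := 𝔓.asIdeal.primeCompl
  let dl := LocalizedModule.map S d
  let πl := LocalizedModule.map S π
  have hdl : Function.Injective dl := LocalizedModule.map_injective S d hd
  have hexl : Function.Exact dl πl := LocalizedModule.map_exact S d π hex
  have hπl : Function.Surjective πl := LocalizedModule.map_surjective S π hπ
  haveI : Module.Free (Localization S) (LocalizedModule S Ω) := hfree
  obtain ⟨sec, hsec⟩ := Module.projective_lifting_property πl LinearMap.id hπl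
  obtain ⟨r₀, hr₀⟩ : ∃ r₀ : LocalizedModule S F →ₗ[Localization S] LocalizedModule S C,
      ∀ c, r₀ (dl c) = c := by
    let t : LocalizedModule S F →ₗ[Localization S] LocalizedModule S F := LinearMap.id - sec ∘ₗ πl
    have ht : ∀ x, t x ∈ LinearMap.range dl := fun x => (hexl _).1 (by
      change πl (x - sec (πl x)) = 0
      rw [map_sub, show πl (sec (πl x)) = πl x from LinearMap.congr_fun hsec (πl x), sub_self])
    refine ⟨(LinearEquiv.ofInjective dl hdl).symm.toLinearMap ∘ₗ t.codRestrict _ ht, fun c => ?_⟩
    change (LinearEquiv.ofInjective dl hdl).symm (t.codRestrict _ ht (dl c)) = c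
    rw [LinearEquiv.symm_apply_eq]
    apply Subtype.ext
    change dl c - sec (πl (dl c)) = dl c
    rw [hexl.apply_apply_eq_zero, map_zero, sub_zero]
  let g : F →ₗ[R] LocalizedModule S C := (r₀.restrictScalars R) ∘ₗ LocalizedModule.mkLinearMap S F
  obtain ⟨h, s, hs⟩ := Module.FinitePresentation.exists_lift_of_isLocalizedModule S
    (LocalizedModule.mkLinearMap S C) g
  have hc : ∀ c, ∃ t ∈ S, t • (h (d c)) = t • ((s : R) • c) := by
    intro c
    have h1 := LinearMap.congr_fun hs (d c)
    have h2 : g (d c) = LocalizedModule.mkLinearMap S C c := by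
      change r₀ (LocalizedModule.mkLinearMap S F (d c)) = _
      rw [show LocalizedModule.mkLinearMap S F (d c) = dl (LocalizedModule.mkLinearMap S C c) from
        (LocalizedModule.map_mk S d c 1).symm, hr₀]
    rw [LinearMap.smul_apply, h2, LinearMap.comp_apply] at h1
    obtain ⟨t, ht⟩ := (IsLocalizedModule.eq_iff_exists S (LocalizedModule.mkLinearMap S C)).1
      (h1.trans ((LocalizedModule.mkLinearMap S C).map_smul (s : R) c).symm)
    exact ⟨t, t.2, ht⟩
  classical
  obtain ⟨G, hG⟩ := (Module.Finite.fg_top : (⊤ : Submodule R C).FG)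
  choose t htS ht using hc
  refine ⟨(∏ c ∈ G, t c) • h, (∏ c ∈ G, t c) * s,
    (show (∏ c ∈ G, t c) * (s : R) ∈ S from S.mul_mem (S.prod_mem fun c _ => htS c) s.2), ?_⟩
  suffices ((∏ c ∈ G, t c) • h) ∘ₗ d = ((∏ c ∈ G, t c) * (s : R)) • LinearMap.id from
    fun c => LinearMap.congr_fun this c
  refine LinearMap.ext_on hG fun c hc => ?_
  simp only [LinearMap.comp_apply, LinearMap.smul_apply, LinearMap.id_apply]
  rw [mul_smul, ← Finset.prod_erase_mul _ _ (Finset.mem_coe.1 hc), mul_smul, mul_smul, ht]

end Split

section Main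

variable {A P : Type u} [CommRing A] [IsNoetherianRing A] [CommRing P] [Algebra A P]
  [Module.Flat A P]

/-- Base change keeps an injection with cokernel locally free at the relevant primes injective. -/
theorem baseChange_injective [IsNoetherianRing P] (J : Ideal A) (hlci : LCI.IsLCI A P)
    (hgs : ∀ 𝔓 : PrimeSpectrum P,
      (∀ 𝔔 : PrimeSpectrum P, 𝔔 ≤ 𝔓 →
          𝔔.asIdeal.comap (algebraMap A P) = 𝔓.asIdeal.comap (algebraMap A P) → 𝔔 = 𝔓) →
        𝔓 ∈ Algebra.smoothLocus A P)
    {C F Ω : Type u} [AddCommGroup C] [Module P C] [AddCommGroup F]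
    [Module P F] [AddCommGroup Ω] [Module P Ω] [Module.Finite P C] [Module.Projective P C]
    [Module.FinitePresentation P F] (d : C →ₗ[P] F) (π : F →ₗ[P] Ω) (hd : Function.Injective d)
    (hex : Function.Exact d π) (hπ : Function.Surjective π)
    (hfree : Algebra.smoothLocus A P ⊆ Module.freeLocus P Ω) :
    Function.Injective (d.baseChange (P ⧸ J.map (algebraMap A P))) := by
  rw [injective_iff_map_eq_zero]
  intro x hx
  by_contra hx0
  obtain ⟨φ, hφ⟩ : ∃ φ : Module.Dual (P ⧸ J.map (algebraMap A P)) ((P ⧸ J.map (algebraMap A P)) ⊗[P] C),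
      φ x ≠ 0 := by
    by_contra hall
    push Not at hall
    exact hx0 ((Module.forall_dual_apply_eq_zero_iff _ _).1 hall)
  obtain ⟨𝔓, h𝔓, hann⟩ := exists_le_isAssociatedPrime_of_isNoetherianRing (R := P) (φ x) hφ
  haveI := h𝔓.isPrime
  have hass : 𝔓 ∈ associatedPrimes P (P ⊗[A] (A ⧸ J)) := by
    rwa [← LinearEquiv.AssociatedPrimes.eq
      (Algebra.TensorProduct.quotIdealMapEquivTensorQuot P J).toLinearEquiv]
  have hsm : (⟨𝔓, h𝔓.isPrime⟩ : PrimeSpectrum P) ∈ Algebra.smoothLocus A P :=
    hgs _ fun 𝔔 hle hc => PrimeSpectrum.ext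
      (LciH1.fibre_minimal_of_assoc_tensor hlci (A ⧸ J) hass 𝔔.asIdeal hle hc)
  obtain ⟨r, s, hs, hrs⟩ := exists_retraction d π hd hex hπ _ (hfree hsm)
  refine hs (hann ?_)
  rw [Submodule.mem_colon_singleton, Submodule.mem_bot]
  have h1 : (r.baseChange (P ⧸ J.map (algebraMap A P))) (d.baseChange (P ⧸ J.map (algebraMap A P)) x) =
      s • x := by
    clear hx hx0 hφ hann
    induction x using TensorProduct.induction_on with
    | zero => simp
    | tmul a c => simp [hrs, TensorProduct.tmul_smul]
    | add a b ha hb => simp [ha, hb]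
  rw [hx, map_zero] at h1
  rw [← LinearMap.map_smul_of_tower, ← h1, map_zero]

theorem nonempty_iso (hlci : LCI.IsLCI A P)
    (hgs : ∀ 𝔓 : PrimeSpectrum P,
      (∀ 𝔔 : PrimeSpectrum P, 𝔔 ≤ 𝔓 →
          𝔔.asIdeal.comap (algebraMap A P) = 𝔓.asIdeal.comap (algebraMap A P) → 𝔔 = 𝔓) →
        𝔓 ∈ Algebra.smoothLocus A P)
    (J : Ideal A) :
    Nonempty
      ((P ⧸ J.map (algebraMap A P)) ⊗[P]
          Ext.{u} (ModuleCat.of P (KaehlerDifferential A P)) (ModuleCat.of P P) 1 ≃ₗ[P ⧸ J.map (algebraMap A P)]
        Ext.{u}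
          (ModuleCat.of (P ⧸ J.map (algebraMap A P)) (KaehlerDifferential A (P ⧸ J.map (algebraMap A P))))
          (ModuleCat.of (P ⧸ J.map (algebraMap A P)) (P ⧸ J.map (algebraMap A P))) 1) := by
  haveI := LciH1.isNoetherianRing_of_isLCI hlci
  haveI := hlci.1
  haveI hH := LciH1.subsingleton_h1Cotangent hlci hgs
  obtain ⟨-, n, f, hf, hk⟩ := id hlci
  let G : Algebra.Generators A P (Fin n) := Algebra.Generators.ofAlgHom f hf
  have hker : G.toExtension.ker = RingHom.ker f.toRingHom := by
    ext r
    change MvPolynomial.aeval G.val r = 0 ↔ f r = 0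
    rw [show (MvPolynomial.aeval G.val : MvPolynomial (Fin n) A →ₐ[A] P) = f from
      MvPolynomial.algHom_ext fun i => by simp [G, Algebra.Generators.ofAlgHom]]
  obtain ⟨hCfin, hCproj⟩ := LCI19.projective_extension_cotangent G.toExtension (hker ▸ hk)
  haveI : Module.Finite P G.toExtension.CotangentSpace := Module.Finite.of_basis G.cotangentSpaceBasis
  haveI : Module.Free P G.toExtension.CotangentSpace := Module.Free.of_basis G.cotangentSpaceBasis
  haveI : Module.FinitePresentation P G.toExtension.CotangentSpace :=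
    Module.finitePresentation_of_projective _ _
  let P' := P ⧸ J.map (algebraMap A P)
  let d := G.toExtension.cotangentComplex
  let π := G.toExtension.toKaehler
  have hd : Function.Injective d := by
    rw [injective_iff_map_eq_zero]
    intro x hx
    have h0 : Subsingleton G.toExtension.H1Cotangent := G.equivH1Cotangent.toEquiv.subsingleton
    exact congrArg Subtype.val (@Subsingleton.elim _ h0 (⟨x, hx⟩ : G.toExtension.H1Cotangent) 0)
  have hex : Function.Exact d π := G.toExtension.exact_cotangentComplex_toKaehler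
  have hπ : Function.Surjective π := G.toExtension.toKaehler_surjective
  have hfree : Algebra.smoothLocus A P ⊆ Module.freeLocus P Ω[P⁄A] := by
    rw [Algebra.smoothLocus_eq_compl_support_inter]
    exact Set.inter_subset_right
  have hd' : Function.Injective (d.baseChange P') := baseChange_injective J hlci hgs d π hd hex hπ hfree
  let e : P' ⊗[P] Ω[P⁄A] →ₗ[P'] Ω[P'⁄A] := KaehlerDifferential.mapBaseChange A P P'
  have hsurj : Function.Surjective (algebraMap P P') := Ideal.Quotient.mk_surjective
  have he_inj : Function.Injective e := by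
    rw [injective_iff_map_eq_zero]
    intro x hx
    obtain ⟨y, rfl⟩ := ((KaehlerDifferential.exact_kerCotangentToTensor_mapBaseChange A P P' hsurj) x).1 hx
    obtain ⟨⟨z, hz⟩, rfl⟩ := Ideal.toCotangent_surjective _ y
    rw [KaehlerDifferential.kerCotangentToTensor_toCotangent]
    have hz' : z ∈ J.map (algebraMap A P) := Ideal.Quotient.eq_zero_iff_mem.1 hz
    change (1 : P') ⊗ₜ[P] KaehlerDifferential.D A P z = 0
    clear hx hz
    unfold Ideal.map at hz'
    induction hz' using Submodule.span_induction with
    | mem w hw =>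
      obtain ⟨a, -, rfl⟩ := hw
      simp
    | zero => simp
    | add a b _ _ ha hb =>
      change (1 : P') ⊗ₜ[P] KaehlerDifferential.D A P (a + b) = 0
      rw [map_add, TensorProduct.tmul_add, ha, hb, add_zero]
    | smul c a ha' ha =>
      change (1 : P') ⊗ₜ[P] KaehlerDifferential.D A P (c * a) = 0
      change (1 : P') ⊗ₜ[P] KaehlerDifferential.D A P a = 0 at ha
      rw [Derivation.leibniz, TensorProduct.tmul_add, TensorProduct.tmul_smul, TensorProduct.tmul_smul,
        ha, smul_zero, zero_add, TensorProduct.smul_tmul', ← Algebra.algebraMap_eq_smul_one,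
        Ideal.Quotient.algebraMap_eq, (Ideal.Quotient.eq_zero_iff_mem (I := J.map (algebraMap A P))).2 ha', TensorProduct.zero_tmul]
  let π' : P' ⊗[P] G.toExtension.CotangentSpace →ₗ[P'] Ω[P'⁄A] := e ∘ₗ π.baseChange P'
  have hex' : Function.Exact (d.baseChange P') π' := by
    intro z
    rw [LinearMap.comp_apply, map_eq_zero_iff e he_inj]
    exact lTensor_exact P' hex hπ z
  have hπ' : Function.Surjective π' :=
    (KaehlerDifferential.mapBaseChange_surjective A P P' hsurj).comp (LinearMap.lTensor_surjective P' hπ)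
  obtain ⟨e₁⟩ := CotT85.nonempty_coker_equiv_extOne d π hd hex hπ P
  obtain ⟨e₂⟩ := CotT85.nonempty_coker_equiv_extOne (d.baseChange P') π' hd' hex' hπ' P'
  obtain ⟨e₃⟩ := nonempty_coker_dual_baseChange P P' d
  exact ⟨((LinearEquiv.baseChange P P' _ _ e₁).symm.trans e₃).trans e₂⟩

end Main

end Groth.Agent.Deform85.LciExtBC
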