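import Groth.Agent.Gor18.LCIRing
import Groth.Agent.LCI19.ConormalLoc
import Groth.Agent.LCI19.NLPerfect
import Groth.Agent.CAlg1.AssTensor
import Groth.Agent.CAlg1.Sk
import Groth.Agent.FinGrp34.Serre
import Groth.Agent.S0341
import Groth.Prelude.Def_LCI2
import Mathlib.RingTheory.Smooth.Locus
import Mathlib.RingTheory.LocalRing.ResidueField.Fiber

/-!
The conormal sequence of a flat lci algebra with generically smooth fibres is exact on the left.
-/

set_option autoImplicit false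

universe u

open TensorProduct

namespace Groth.Agent.Deform85.LciH1

lemma assoc_minimal_of_gorenstein {F : Type u} [CommRing F] (h : LocCoh.IsGorensteinRing F)
    {q : Ideal F} (hq : q ∈ associatedPrimes F F) : q ∈ minimalPrimes F := by
  haveI : IsNoetherianRing F := by haveI := h; infer_instance
  have hcm : LocCoh.IsCohenMacaulayRing F :=
    { isCohenMacaulayLocalRing_localization := fun p _ =>
        haveI := h.isGorensteinLocalRing_localization p
        Groth.Agent.S0341.result _ }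
  have := (CAlg1.noEmbedded_iff_S1 (R := F) (M := F)).mpr
    (FinGrp34.hasSk_of_isCohenMacaulayRing hcm 1) q hq
  rwa [CAlg1.annihilator_self] at this

variable {A P : Type u} [CommRing A] [IsNoetherianRing A] [CommRing P] [Algebra A P]
  [Module.Flat A P]

omit [IsNoetherianRing A] in
lemma isNoetherianRing_of_isLCI [IsNoetherianRing A] (h : LCI.IsLCI A P) : IsNoetherianRing P := by
  haveI := h.1
  exact Algebra.FiniteType.isNoetherianRing A P

/-- An associated prime of a flat lci algebra is minimal in its fibre. -/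
theorem fibre_minimal_of_assoc_tensor (hlci : LCI.IsLCI A P) (M : Type u) [AddCommGroup M]
    [Module A M] {𝔓 : Ideal P} (hAA : 𝔓 ∈ associatedPrimes P (P ⊗[A] M)) (𝔔 : Ideal P) [𝔔.IsPrime]
    (hle : 𝔔 ≤ 𝔓) (hcomap : 𝔔.comap (algebraMap A P) = 𝔓.comap (algebraMap A P)) : 𝔔 = 𝔓 := by
  have h𝔓p : 𝔓.IsPrime := hAA.isPrime
  rw [CAlg1.associatedPrimes_tensor_of_flat (N := P) (M := M)] at hAA
  obtain ⟨p, hp, h𝔓Q⟩ : ∃ p ∈ associatedPrimes A M,
      𝔓 ∈ associatedPrimes P (P ⧸ p.map (algebraMap A P) • (⊤ : Submodule P P)) := by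
    simpa using hAA
  haveI : p.IsPrime := hp.isPrime
  haveI : IsNoetherianRing P := isNoetherianRing_of_isLCI hlci
  obtain ⟨-, w, hw⟩ := isAssociatedPrime_iff.mp h𝔓Q
  obtain ⟨x, rfl⟩ := Submodule.Quotient.mk_surjective _ w
  -- membership in the extended ideal
  have hpP : ∀ y : P, Submodule.Quotient.mk (p := p.map (algebraMap A P) • (⊤ : Submodule P P)) y = 0 ↔
      y ∈ p.map (algebraMap A P) := by
    intro y
    rw [Submodule.Quotient.mk_eq_zero, smul_eq_mul, Ideal.mul_top]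
  have hann : ∀ r : P, r ∈ 𝔓 ↔ r * x ∈ p.map (algebraMap A P) := by
    intro r
    rw [hw, Submodule.mem_colon_singleton, Submodule.mem_bot, ← Submodule.Quotient.mk_smul, hpP,
      smul_eq_mul]
  let ι : P →ₐ[A] p.Fiber P := Algebra.TensorProduct.includeRight
  -- the kernel of `P → κ(p) ⊗ P` is `pP`
  have hker : ∀ y : P, ι y = 0 ↔ y ∈ p.map (algebraMap A P) := by
    intro y
    refine ⟨fun hy => ?_, fun hy => ?_⟩
    · have hinj : Function.Injective
          (LinearMap.rTensor P (IsScalarTower.toAlgHom A (A ⧸ p) p.ResidueField).toLinearMap) :=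
        Module.Flat.rTensor_preserves_injective_linearMap _ (Ideal.injective_algebraMap_quotient_residueField p)
      have h0 : LinearMap.rTensor P (IsScalarTower.toAlgHom A (A ⧸ p) p.ResidueField).toLinearMap
          ((1 : A ⧸ p) ⊗ₜ[A] y) = 0 := by
        rw [LinearMap.rTensor_tmul]
        simpa [ι] using hy
      rw [← map_zero (LinearMap.rTensor P (IsScalarTower.toAlgHom A (A ⧸ p) p.ResidueField).toLinearMap)] at h0
      have h1 : Algebra.TensorProduct.quotIdealMapEquivQuotTensor P p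
          (Ideal.Quotient.mk _ y) = 0 :=
        (Algebra.TensorProduct.quotIdealMapEquivQuotTensor_mk P p y).trans (hinj h0)
      rw [← Ideal.Quotient.eq_zero_iff_mem]
      exact (map_eq_zero_iff _ (Algebra.TensorProduct.quotIdealMapEquivQuotTensor P p).injective).1 h1
    · refine (Ideal.map_le_iff_le_comap.2 fun a ha => ?_ : p.map (algebraMap A P) ≤ RingHom.ker ι) hy
      rw [Ideal.mem_comap, RingHom.mem_ker, AlgHom.commutes, IsScalarTower.algebraMap_apply A p.ResidueField (p.Fiber P),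
        (Ideal.algebraMap_residueField_eq_zero (I := p)).2 ha, map_zero]
  have hcontr : 𝔓.comap (algebraMap A P) = p := by
    ext a
    rw [Ideal.mem_comap, hann]
    refine ⟨fun ha => ?_, fun ha => Ideal.mul_mem_right _ _ (Ideal.mem_map_of_mem _ ha)⟩
    by_contra hap
    have h1 : x ∉ p.map (algebraMap A P) := fun hx => h𝔓p.ne_top
      ((Ideal.eq_top_iff_one _).2 ((hann 1).2 (by rwa [one_mul])))
    apply h1
    rw [← hker] at ha ⊢
    rw [map_mul, AlgHom.commutes, IsScalarTower.algebraMap_apply A p.ResidueField (p.Fiber P)] at ha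
    have hu : IsUnit (algebraMap A p.ResidueField a) :=
      (isUnit_iff_ne_zero.2 fun h => hap (Ideal.algebraMap_residueField_eq_zero.1 h))
    exact (hu.map _).mul_right_eq_zero.1 ha
  haveI := Gor18.gorRing_fibre_of_flat_isLCI A P p.ResidueField hlci
  have hgor : LocCoh.IsGorensteinRing (p.Fiber P) := Gor18.gorRing_of_ringEquiv
    (R := P ⊗[A] p.ResidueField) (Algebra.TensorProduct.comm A P p.ResidueField).toRingEquiv
  haveI : IsNoetherianRing (p.Fiber P) := by haveI := hgor; infer_instance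
  -- annihilator of the image of `x`
  let N : Submodule (p.Fiber P) (p.Fiber P) := Submodule.span (p.Fiber P) {ι x}
  let Ann : Ideal (p.Fiber P) := Module.annihilator (p.Fiber P) N
  have hAnn : Ann.comap ι = 𝔓 := by
    ext r
    rw [Ideal.mem_comap, hann, ← hker, map_mul]
    change ι r ∈ N.annihilator ↔ _
    rw [Submodule.mem_annihilator_span_singleton, smul_eq_mul]
  obtain ⟨Q, hQ, hQ𝔓⟩ := Ideal.exists_minimalPrimes_comap_eq (I := Ann) ι.toRingHom 𝔓
    (by
      rw [show Ann.comap ι.toRingHom = 𝔓 from hAnn]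
      exact ⟨⟨h𝔓p, le_rfl⟩, fun y hy _ => hy.2⟩)
  have hQass : Q ∈ associatedPrimes (p.Fiber P) N :=
    Module.associatedPrimes.minimalPrimes_annihilator_subset_associatedPrimes _ _ hQ
  have hQmin : Q ∈ minimalPrimes (p.Fiber P) := assoc_minimal_of_gorenstein hgor
    (associatedPrimes.subset_of_injective (Submodule.injective_subtype N) hQass)
  let e := PrimeSpectrum.primesOverOrderIsoFiber A P p
  haveI : Q.IsPrime := hQ.1.1
  let q₁ : p.primesOver P := ⟨𝔔, ‹_›, ⟨(hcomap.trans hcontr).symm⟩⟩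
  let Q₁ := e q₁
  have hQ₁ : (e.symm ⟨Q, ‹_›⟩ : Ideal P) = 𝔓 := by
    rw [PrimeSpectrum.coe_primesOverOrderIsoFiber_symm_apply]
    exact hQ𝔓
  have h1 : q₁ ≤ e.symm ⟨Q, ‹_›⟩ := by
    change 𝔔 ≤ (e.symm ⟨Q, ‹_›⟩ : Ideal P)
    rw [hQ₁]
    exact hle
  have h2 : e q₁ ≤ ⟨Q, ‹_›⟩ := e.le_symm_apply.1 h1
  have h3 : (⟨Q, ‹_›⟩ : PrimeSpectrum (p.Fiber P)) ≤ e q₁ :=
    hQmin.2 ⟨(e q₁).isPrime, bot_le⟩ h2
  have h4 : e.symm ⟨Q, ‹_›⟩ = q₁ := by
    rw [le_antisymm h3 h2, OrderIso.symm_apply_apply]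
  rw [← hQ₁, h4]

theorem fibre_minimal_of_assoc (hlci : LCI.IsLCI A P) {𝔓 : Ideal P}
    (h𝔓 : 𝔓 ∈ associatedPrimes P P) (𝔔 : Ideal P) [𝔔.IsPrime] (hle : 𝔔 ≤ 𝔓)
    (hcomap : 𝔔.comap (algebraMap A P) = 𝔓.comap (algebraMap A P)) : 𝔔 = 𝔓 := by
  refine fibre_minimal_of_assoc_tensor hlci A ?_ 𝔔 hle hcomap
  rwa [LinearEquiv.AssociatedPrimes.eq (AlgebraTensorModule.rid A P P)]

omit [IsNoetherianRing A] in
lemma exists_notMem_smul_eq_zero [Algebra.EssFiniteType A P] (𝔓 : PrimeSpectrum P)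
    (h : 𝔓 ∈ Algebra.smoothLocus A P) (x : Algebra.H1Cotangent A P) :
    ∃ s ∉ 𝔓.asIdeal, s • x = 0 := by
  rw [Algebra.smoothLocus_eq_compl_support_inter] at h
  have := h.1
  rw [Set.mem_compl_iff, Module.notMem_support_iff'] at this
  exact this x

theorem subsingleton_h1Cotangent (hlci : LCI.IsLCI A P)
    (hgs : ∀ 𝔓 : PrimeSpectrum P,
      (∀ 𝔔 : PrimeSpectrum P, 𝔔 ≤ 𝔓 →
          𝔔.asIdeal.comap (algebraMap A P) = 𝔓.asIdeal.comap (algebraMap A P) → 𝔔 = 𝔓) →
        𝔓 ∈ Algebra.smoothLocus A P) :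
    Subsingleton (Algebra.H1Cotangent A P) := by
  haveI := isNoetherianRing_of_isLCI hlci
  haveI := hlci.1
  obtain ⟨-, n, f, hf, hk⟩ := hlci
  let G : Algebra.Generators A P (Fin n) := Algebra.Generators.ofAlgHom f hf
  refine subsingleton_of_forall_eq 0 fun x => ?_
  obtain ⟨y, rfl⟩ := G.equivH1Cotangent.surjective x
  suffices hy : y = 0 by rw [hy, map_zero]
  have hker : G.toExtension.ker = RingHom.ker f.toRingHom := by
    ext r
    change MvPolynomial.aeval G.val r = 0 ↔ f r = 0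
    rw [show (MvPolynomial.aeval G.val : MvPolynomial (Fin n) A →ₐ[A] P) = f from
      MvPolynomial.algHom_ext fun i => by simp [G, Algebra.Generators.ofAlgHom]]
  haveI : Module.Projective P G.toExtension.Cotangent := by
    exact (LCI19.projective_extension_cotangent G.toExtension (hker ▸ hk)).2
  by_contra hy
  have hy' : Algebra.Extension.h1Cotangentι y ≠ 0 := fun h => hy
    (Algebra.Extension.h1Cotangentι_injective (h.trans (map_zero _).symm))
  obtain ⟨φ, hφ⟩ : ∃ φ : G.toExtension.Cotangent →ₗ[P] P,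
      φ (Algebra.Extension.h1Cotangentι y) ≠ 0 := by
    by_contra hall
    push Not at hall
    exact hy' ((Module.forall_dual_apply_eq_zero_iff P _).1 hall)
  obtain ⟨𝔓, h𝔓, hann⟩ := exists_le_isAssociatedPrime_of_isNoetherianRing (R := P) (φ (Algebra.Extension.h1Cotangentι y)) hφ
  haveI := h𝔓.isPrime
  have hsm : (⟨𝔓, h𝔓.isPrime⟩ : PrimeSpectrum P) ∈ Algebra.smoothLocus A P :=
    hgs _ fun 𝔔 hle hc => PrimeSpectrum.ext (fibre_minimal_of_assoc ⟨‹_›, n, f, hf, hk⟩ h𝔓 𝔔.asIdeal hle hc)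
  obtain ⟨s, hs, hsx⟩ := exists_notMem_smul_eq_zero _ hsm (G.equivH1Cotangent y)
  rw [← map_smul, map_eq_zero_iff _ G.equivH1Cotangent.injective] at hsx
  refine hs (hann ?_)
  rw [Submodule.mem_colon_singleton, Submodule.mem_bot, ← map_smul, ← map_smul, hsx, map_zero,
    map_zero]

end Groth.Agent.Deform85.LciH1
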