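import Groth.Agent.Deform85.AffineDefExt
import Groth.Agent.FlatMor66.Deform
import Groth.Agent.FlatMor67.LiftAffine
import Groth.Agent.Def38.Glue
import Groth.Agent.VarGal.Thickening
import Mathlib.AlgebraicGeometry.Morphisms.Smooth

/-!
# Flat liftings of a scheme along a thickening of an affine base, open by open
-/

set_option autoImplicit false
set_option linter.style.haveILetI false
set_option backward.isDefEq.respectTransparency.types false

universe u

open CategoryTheory CategoryTheory.Limits AlgebraicGeometry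

noncomputable section

namespace Groth.Agent.Deform85.LiftOpen

theorem specMap_thickening {R S : Type u} [CommRing R] [CommRing S] (φ : R →+* S)
    (hφ : Function.Surjective φ) (hnil : IsNilpotent (RingHom.ker φ)) :
    MoreMor.IsFiniteOrderThickening (Spec.map (CommRingCat.ofHom φ)) := by
  haveI : IsClosedImmersion (Spec.map (CommRingCat.ofHom φ)) := IsClosedImmersion.spec_of_surjective _ hφ
  let e : R ⧸ RingHom.ker φ ≃+* S := RingHom.quotientKerEquivOfSurjective hφ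
  have hfac : Spec.map (CommRingCat.ofHom φ) = Spec.map (CommRingCat.ofHom e.toRingHom) ≫
      Spec.map (CommRingCat.ofHom (Ideal.Quotient.mk (RingHom.ker φ))) := by
    rw [← Spec.map_comp, ← CommRingCat.ofHom_comp]
    rfl
  haveI : IsIso (Spec.map (CommRingCat.ofHom e.toRingHom)) :=
    haveI : IsIso (CommRingCat.ofHom e.toRingHom) := (ConcreteCategory.isIso_iff_bijective _).2 e.bijective
    inferInstance
  refine ⟨⟨inferInstance, ⟨fun z => ?_⟩⟩, ?_⟩
  · have hr := range_comap_of_surjective _ φ hφ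
    obtain ⟨w, hw⟩ : z ∈ Set.range (PrimeSpectrum.comap φ) := by
      rw [hr]
      intro a ha
      obtain ⟨n, hn⟩ := hnil
      have h1 : a ^ n ∈ RingHom.ker φ ^ n := Ideal.pow_mem_pow ha n
      rw [hn, Ideal.zero_eq_bot, Ideal.mem_bot] at h1
      exact z.isPrime.mem_of_pow_mem n (h1 ▸ zero_mem _)
    exact ⟨w, hw⟩
  · rw [hfac, Scheme.Hom.ker_comp_of_isIso]
    exact FlatMor67.specMk_isNilpotent_ker hnil

theorem homOfLE_val {Z : Scheme.{u}} {U V : Z.Opens} (h : U ≤ V) (x : U.toScheme) :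
    (Z.homOfLE h x).1 = x.1 := congr($(Z.homOfLE_ι h) x)

theorem homOfLE_mk {Z : Scheme.{u}} {U V : Z.Opens} (h : U ≤ V) (x : U.toScheme) (y : V.toScheme)
    (e : x.1 = y.1) : Z.homOfLE h x = y := Subtype.ext ((homOfLE_val h x).trans e)

theorem isPushout_sup {Z : Scheme.{u}} (W V : Z.Opens) :
    IsPushout (Z.homOfLE (inf_le_left : W ⊓ V ≤ W)) (Z.homOfLE (inf_le_right : W ⊓ V ≤ V))
      (Z.homOfLE (le_sup_left : W ≤ W ⊔ V)) (Z.homOfLE (le_sup_right : V ≤ W ⊔ V)) := by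
  let F := span (Z.homOfLE (inf_le_left : W ⊓ V ≤ W)) (Z.homOfLE (inf_le_right : W ⊓ V ≤ V))
  let P := pushout (Z.homOfLE (inf_le_left : W ⊓ V ≤ W)) (Z.homOfLE (inf_le_right : W ⊓ V ≤ V))
  have hw : Z.homOfLE (inf_le_left : W ⊓ V ≤ W) ≫ Z.homOfLE (le_sup_left : W ≤ W ⊔ V) =
      Z.homOfLE (inf_le_right : W ⊓ V ≤ V) ≫ Z.homOfLE (le_sup_right : V ≤ W ⊔ V) := by
    rw [Scheme.homOfLE_homOfLE, Scheme.homOfLE_homOfLE]
  let c : P ⟶ ((W ⊔ V : Z.Opens) : Scheme.{u}) := pushout.desc _ _ hw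
  let a : (W : Scheme.{u}) ⟶ P := pushout.inl _ _
  let b : (V : Scheme.{u}) ⟶ P := pushout.inr _ _
  have hac : a ≫ c = Z.homOfLE le_sup_left := pushout.inl_desc _ _ _
  have hbc : b ≫ c = Z.homOfLE le_sup_right := pushout.inr_desc _ _ _
  have hcov : ∀ t : P, t ∈ Set.range a ∨ t ∈ Set.range b := by
    intro t
    obtain ⟨i, xi, rfl⟩ := Scheme.IsLocallyDirected.ι_jointly_surjective F t
    obtain (_ | (_ | _)) := i
    · refine Or.inl ⟨Z.homOfLE inf_le_left xi, ?_⟩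
      rw [← colimit.w F WalkingSpan.Hom.fst, Scheme.Hom.comp_apply]
      rfl
    · exact Or.inl ⟨xi, rfl⟩
    · exact Or.inr ⟨xi, rfl⟩
  haveI : IsOpenImmersion a := inferInstanceAs (IsOpenImmersion (colimit.ι F WalkingSpan.left))
  haveI : IsOpenImmersion b := inferInstanceAs (IsOpenImmersion (colimit.ι F WalkingSpan.right))
  have hsurj : Surjective c := ⟨fun x => by
    obtain hx | hx := (show x.1 ∈ W ∨ x.1 ∈ V from x.2)
    · exact ⟨a ⟨x.1, hx⟩, by rw [← Scheme.Hom.comp_apply, hac]; exact Subtype.ext (by simp)⟩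
    · exact ⟨b ⟨x.1, hx⟩, by rw [← Scheme.Hom.comp_apply, hbc]; exact Subtype.ext (by simp)⟩⟩
  have hab : ∀ (y : (W : Scheme.{u})) (z : (V : Scheme.{u})), c (a y) = c (b z) → a y = b z := by
    intro y z e
    rw [← Scheme.Hom.comp_apply, ← Scheme.Hom.comp_apply, hac, hbc] at e
    have h1 : y.1 = z.1 := by simpa using congrArg Subtype.val e
    let w : ((W ⊓ V : Z.Opens) : Scheme.{u}) := ⟨y.1, y.2, h1 ▸ z.2⟩
    have hy : Z.homOfLE (inf_le_left : W ⊓ V ≤ W) w = y := Subtype.ext (by simp [w])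
    have hz : Z.homOfLE (inf_le_right : W ⊓ V ≤ V) w = z := Subtype.ext (by simp [w, h1])
    rw [← hy, ← hz, ← Scheme.Hom.comp_apply, ← Scheme.Hom.comp_apply]
    exact congrArg (fun φ : ((W ⊓ V : Z.Opens) : Scheme.{u}) ⟶ P => φ w) pushout.condition
  have hinj : Function.Injective c := by
    intro s t e
    obtain ⟨y, rfl⟩ | ⟨y, rfl⟩ := hcov s <;> obtain ⟨z, rfl⟩ | ⟨z, rfl⟩ := hcov t
    · rw [← Scheme.Hom.comp_apply, ← Scheme.Hom.comp_apply, hac] at e
      exact congrArg a ((Z.homOfLE _).isOpenEmbedding.injective e)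
    · exact hab y z e
    · exact (hab z y e.symm).symm
    · rw [← Scheme.Hom.comp_apply, ← Scheme.Hom.comp_apply, hbc] at e
      exact congrArg b ((Z.homOfLE _).isOpenEmbedding.injective e)
  have hopen : IsOpenMap c := by
    intro O hO
    have : c '' O = (a ≫ c) '' (a ⁻¹' O) ∪ (b ≫ c) '' (b ⁻¹' O) := by
      ext x
      constructor
      · rintro ⟨t, ht, rfl⟩
        obtain ⟨y, rfl⟩ | ⟨y, rfl⟩ := hcov t
        · exact Or.inl ⟨y, ht, Scheme.Hom.comp_apply _ _ _⟩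
        · exact Or.inr ⟨y, ht, Scheme.Hom.comp_apply _ _ _⟩
      · rintro (⟨y, hy, rfl⟩ | ⟨y, hy, rfl⟩) <;> exact ⟨_, hy, (Scheme.Hom.comp_apply _ _ _).symm⟩
    rw [this, hac, hbc]
    exact ((Z.homOfLE _).isOpenEmbedding.isOpenMap _ (hO.preimage a.continuous)).union
      ((Z.homOfLE _).isOpenEmbedding.isOpenMap _ (hO.preimage b.continuous))
  haveI : ∀ t : P, IsIso (c.stalkMap t) := by
    intro t
    obtain ⟨y, rfl⟩ | ⟨y, rfl⟩ := hcov t
    · haveI : IsOpenImmersion (a ≫ c) := hac.symm ▸ inferInstance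
      haveI h := (inferInstance : IsIso ((a ≫ c).stalkMap y))
      rw [Scheme.Hom.stalkMap_comp] at h
      exact @IsIso.of_isIso_comp_right _ _ _ _ _ _ (a.stalkMap y) _ h
    · haveI : IsOpenImmersion (b ≫ c) := hbc.symm ▸ inferInstance
      haveI h := (inferInstance : IsIso ((b ≫ c).stalkMap y))
      rw [Scheme.Hom.stalkMap_comp] at h
      exact @IsIso.of_isIso_comp_right _ _ _ _ _ _ (b.stalkMap y) _ h
  haveI : IsOpenImmersion c :=
    IsOpenImmersion.of_isIso_stalkMap c (Topology.IsOpenEmbedding.of_continuous_injective_isOpenMap c.continuous hinj hopen)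
  haveI := hsurj
  haveI : IsIso c := isIso_of_isOpenImmersion_of_opensRange_eq_top _
    (TopologicalSpace.Opens.ext (Set.range_eq_univ.mpr hsurj.surj))
  exact IsPushout.of_iso_pushout ⟨hw⟩ (asIso c).symm (by simp [← hac]; rfl) (by simp [← hbc]; rfl)

variable {S S' : Scheme.{u}} {iS : S ⟶ S'} {𝒳 : Scheme.{u}} {f : 𝒳 ⟶ S}

/-- A flat lifting of the open `W` of `𝒳` over `S'`. -/
structure LiftOn (iS : S ⟶ S') (f : 𝒳 ⟶ S) (W : 𝒳.Opens) : Type (u + 1) where
  /-- The lifted scheme. -/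
  total : Scheme.{u}
  /-- The structure morphism. -/
  g : total ⟶ S'
  flat : Flat g
  /-- The inclusion of `W`. -/
  j : (W : Scheme.{u}) ⟶ total
  sq : IsPullback j (W.ι ≫ f) g iS

/-- Isomorphisms of liftings. -/
structure Iso {W : 𝒳.Opens} (L M : LiftOn iS f W) : Type u where
  /-- The isomorphism. -/
  iso : L.total ≅ M.total
  hom_g : iso.hom ≫ M.g = L.g
  j_hom : L.j ≫ iso.hom = M.j

variable {W V : 𝒳.Opens} (L : LiftOn iS f W)

theorem isThickening_j (hS : MoreMor.IsThickening iS) : MoreMor.IsThickening L.j :=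
  ⟨MorphismProperty.of_isPullback L.sq.flip hS.1,
    MorphismProperty.of_isPullback (P := @Surjective) L.sq.flip hS.2⟩

theorem exists_res (hS : MoreMor.IsThickening iS) (h : V ≤ W) :
    ∃ (M : LiftOn iS f V) (ι : M.total ⟶ L.total), IsOpenImmersion ι ∧ ι ≫ L.g = M.g ∧
      IsPullback M.j (𝒳.homOfLE h) ι L.j ∧ Set.range ι = L.j '' (W.ι ⁻¹ᵁ V : Set W.toScheme) := by
  haveI := (isThickening_j L hS).1
  haveI := (isThickening_j L hS).2
  obtain ⟨O, hO⟩ := VarGal.exists_opens L.j (W.ι ⁻¹ᵁ V)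
  have hr : Set.range (𝒳.homOfLE h) = ((W.ι ⁻¹ᵁ V : W.toScheme.Opens) : Set W.toScheme) := by
    have := Scheme.opensRange_homOfLE (X := 𝒳) h
    exact congrArg (fun U : W.toScheme.Opens => (U : Set W.toScheme)) this
  have hsub : Set.range (𝒳.homOfLE h ≫ L.j) ⊆ Set.range O.ι := by
    rintro _ ⟨v, rfl⟩
    rw [Scheme.Opens.range_ι]
    have hv : 𝒳.homOfLE h v ∈ (W.ι ⁻¹ᵁ V : W.toScheme.Opens) := hr.le ⟨v, rfl⟩
    rw [← hO] at hv
    exact hv
  let j₁ := IsOpenImmersion.lift O.ι (𝒳.homOfLE h ≫ L.j) hsub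
  have hj₁ : j₁ ≫ O.ι = 𝒳.homOfLE h ≫ L.j := IsOpenImmersion.lift_fac _ _ _
  have sq : IsPullback j₁ (𝒳.homOfLE h) O.ι L.j :=
    IsOpenImmersion.isPullback _ _ _ _ hj₁.symm (by
      refine TopologicalSpace.Opens.ext ?_
      change L.j ⁻¹' Set.range O.ι = Set.range (𝒳.homOfLE h)
      rw [hr, Scheme.Opens.range_ι, ← hO]
      rfl)
  haveI := L.flat
  refine ⟨⟨O, O.ι ≫ L.g, inferInstance, j₁, ?_⟩, O.ι, inferInstance, rfl, sq, ?_⟩
  · have h2 := sq.paste_vert L.sq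
    rwa [← Category.assoc, Scheme.homOfLE_ι] at h2
  · rw [Scheme.Opens.range_ι]
    refine ((congrArg (fun U : W.toScheme.Opens => L.j '' (U : Set W.toScheme)) hO.symm).trans ?_).symm
    exact Set.image_preimage_eq _ L.j.surjective

/-- The restriction of a lifting to a smaller open. -/
def res (hS : MoreMor.IsThickening iS) (h : V ≤ W) : LiftOn iS f V := (exists_res L hS h).choose

/-- The inclusion of the restriction. -/
def resι (hS : MoreMor.IsThickening iS) (h : V ≤ W) : (res L hS h).total ⟶ L.total :=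
  (exists_res L hS h).choose_spec.choose

theorem resι_spec (hS : MoreMor.IsThickening iS) (h : V ≤ W) :
    IsOpenImmersion (resι L hS h) ∧ resι L hS h ≫ L.g = (res L hS h).g ∧
      IsPullback (res L hS h).j (𝒳.homOfLE h) (resι L hS h) L.j ∧
      Set.range (resι L hS h) = L.j '' (W.ι ⁻¹ᵁ V : Set W.toScheme) :=
  (exists_res L hS h).choose_spec.choose_spec

/-- Two liftings with an isomorphism on the overlap glue. -/
theorem nonempty_glue (hS : MoreMor.IsThickening iS) (M : LiftOn iS f V)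
    (θ : Iso (res L hS (inf_le_left : W ⊓ V ≤ W)) (res M hS (inf_le_right : W ⊓ V ≤ V))) :
    Nonempty (LiftOn iS f (W ⊔ V)) := by
  obtain ⟨ho₁, hg₁, sq₁, hr₁⟩ := resι_spec L hS (inf_le_left : W ⊓ V ≤ W)
  obtain ⟨ho₂, hg₂, sq₂, hr₂⟩ := resι_spec M hS (inf_le_right : W ⊓ V ≤ V)
  haveI := (isThickening_j M hS).1
  haveI := (isThickening_j L hS).1
  haveI := L.flat
  haveI := M.flat
  let o₁ := resι L hS (inf_le_left : W ⊓ V ≤ W)
  let o₂ := θ.iso.hom ≫ resι M hS (inf_le_right : W ⊓ V ≤ V)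
  haveI : IsOpenImmersion o₁ := ho₁
  haveI : IsOpenImmersion o₂ := by
    haveI := ho₂
    infer_instance
  let F := span o₁ o₂
  let T := pushout o₁ o₂
  let a : L.total ⟶ T := pushout.inl o₁ o₂
  let b : M.total ⟶ T := pushout.inr o₁ o₂
  haveI ha : IsOpenImmersion a := inferInstanceAs (IsOpenImmersion (colimit.ι F WalkingSpan.left))
  haveI hb : IsOpenImmersion b := inferInstanceAs (IsOpenImmersion (colimit.ι F WalkingSpan.right))
  have hcond : o₁ ≫ a = o₂ ≫ b := pushout.condition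
  have hcov : ∀ t : T, t ∈ Set.range a ∨ t ∈ Set.range b := by
    intro t
    obtain ⟨i, xi, rfl⟩ := Scheme.IsLocallyDirected.ι_jointly_surjective F t
    obtain (_ | (_ | _)) := i
    · refine Or.inl ⟨o₁ xi, ?_⟩
      rw [← colimit.w F WalkingSpan.Hom.fst, Scheme.Hom.comp_apply]
      rfl
    · exact Or.inl ⟨xi, rfl⟩
    · exact Or.inr ⟨xi, rfl⟩
  have hinter : ∀ y z, a y = b z → ∃ w, o₁ w = y ∧ o₂ w = z := by
    intro y z e
    obtain ⟨k, fi, fj, w, hw₁, hw₂⟩ := (Scheme.IsLocallyDirected.ι_eq_ι_iff (F := F)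
      (i := WalkingSpan.left) (j := WalkingSpan.right)).1 e
    obtain (_ | (_ | _)) := k
    · obtain rfl : fi = WalkingSpan.Hom.fst := Subsingleton.elim _ _
      obtain rfl : fj = WalkingSpan.Hom.snd := Subsingleton.elim _ _
      exact ⟨w, hw₁, hw₂⟩
    · exact nomatch fj
    · exact nomatch fi
  let g : T ⟶ S' := pushout.desc L.g M.g (by
    show o₁ ≫ L.g = (θ.iso.hom ≫ resι M hS _) ≫ M.g
    rw [Category.assoc, hg₂, θ.hom_g]
    exact hg₁)
  have hga : a ≫ g = L.g := pushout.inl_desc _ _ _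
  have hgb : b ≫ g = M.g := pushout.inr_desc _ _ _
  have hflat : Flat g := by
    refine (IsZariskiLocalAtSource.iff_of_openCover (P := @Flat) (Scheme.IsLocallyDirected.openCover F)).2 fun i => ?_
    obtain (_ | (_ | _)) := i
    · show Flat (colimit.ι F WalkingSpan.zero ≫ g)
      rw [← colimit.w F WalkingSpan.Hom.fst, Category.assoc]
      haveI : IsOpenImmersion (F.map WalkingSpan.Hom.fst) := ho₁
      haveI : Flat (colimit.ι F WalkingSpan.left ≫ g) := hga.symm ▸ L.flat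
      exact inferInstanceAs (Flat (F.map WalkingSpan.Hom.fst ≫ (colimit.ι F WalkingSpan.left ≫ g)))
    · exact hga.symm ▸ L.flat
    · exact hgb.symm ▸ M.flat
  let U : Scheme.{u} := ((W ⊔ V : 𝒳.Opens) : Scheme.{u})
  let jW : (W : Scheme.{u}) ⟶ U := 𝒳.homOfLE le_sup_left
  let jV : (V : Scheme.{u}) ⟶ U := 𝒳.homOfLE le_sup_right
  let fam : Bool → U.Opens := fun i => bif i then jW.opensRange else jV.opensRange
  obtain ⟨j, hjW, hjV⟩ : ∃ j : U ⟶ T, jW ≫ j = L.j ≫ a ∧ jV ≫ j = M.j ≫ b := by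
    have hov : 𝒳.homOfLE (inf_le_left : W ⊓ V ≤ W) ≫ L.j ≫ a =
        𝒳.homOfLE (inf_le_right : W ⊓ V ≤ V) ≫ M.j ≫ b := by
      rw [← reassoc_of% sq₁.w, ← reassoc_of% sq₂.w, ← θ.j_hom, Category.assoc]
      refine congrArg (_ ≫ ·) ?_
      exact hcond.trans (Category.assoc _ _ _)
    have key : IsPushout (𝒳.homOfLE (inf_le_left : W ⊓ V ≤ W)) (𝒳.homOfLE (inf_le_right : W ⊓ V ≤ V)) jW jV :=
      isPushout_sup W V
    exact ⟨key.desc _ _ hov, key.inl_desc _ _ _, key.inr_desc _ _ _⟩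
  have hL : ∀ x : U, j x ∈ Set.range a → x ∈ Set.range jW := by
    intro x ⟨y, hy⟩
    obtain hx | hx := (show x.1 ∈ W ∨ x.1 ∈ V from x.2)
    · exact ⟨⟨x.1, hx⟩, homOfLE_mk _ _ _ rfl⟩
    · have hxv : jV ⟨x.1, hx⟩ = x := homOfLE_mk _ _ _ rfl
      rw [← hxv, ← Scheme.Hom.comp_apply, hjV, Scheme.Hom.comp_apply] at hy
      obtain ⟨w, -, hw⟩ := hinter _ _ hy
      have h1 : M.j ⟨x.1, hx⟩ ∈ M.j '' (V.ι ⁻¹ᵁ (W ⊓ V) : Set V.toScheme) := hr₂.le ⟨θ.iso.hom w, hw⟩
      obtain ⟨v, hv, e⟩ := h1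
      obtain rfl := M.j.isEmbedding.injective e
      exact ⟨⟨x.1, hv.1⟩, homOfLE_mk _ _ _ rfl⟩
  have hM : ∀ x : U, j x ∈ Set.range b → x ∈ Set.range jV := by
    intro x ⟨z, hz⟩
    obtain hx | hx := (show x.1 ∈ W ∨ x.1 ∈ V from x.2)
    · have hxv : jW ⟨x.1, hx⟩ = x := homOfLE_mk _ _ _ rfl
      rw [← hxv, ← Scheme.Hom.comp_apply, hjW, Scheme.Hom.comp_apply] at hz
      obtain ⟨w, hw, -⟩ := hinter _ _ hz.symm
      have h1 : L.j ⟨x.1, hx⟩ ∈ L.j '' (W.ι ⁻¹ᵁ (W ⊓ V) : Set W.toScheme) := hr₁.le ⟨w, hw⟩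
      obtain ⟨v, hv, e⟩ := h1
      obtain rfl := L.j.isEmbedding.injective e
      exact ⟨⟨x.1, hv.2⟩, homOfLE_mk _ _ _ rfl⟩
    · exact ⟨⟨x.1, hx⟩, homOfLE_mk _ _ _ rfl⟩
  have chart : ∀ {Z : Scheme.{u}} {Y : 𝒳.Opens} (hY : Y ≤ W ⊔ V) (c : Z ⟶ T) [IsOpenImmersion c]
      (jY : (Y : Scheme.{u}) ⟶ Z) (gZ : Z ⟶ S'), IsPullback jY (Y.ι ≫ f) gZ iS → c ≫ g = gZ →
      𝒳.homOfLE hY ≫ j = jY ≫ c → (∀ x : U, j x ∈ Set.range c → x ∈ Set.range (𝒳.homOfLE hY)) →
      IsPullback jY (𝒳.homOfLE hY) c j ∧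
        IsPullback jY (𝒳.homOfLE hY ≫ (W ⊔ V).ι ≫ f) (c ≫ g) iS := by
    intro Z Y hY c _ jY gZ hsq hcg hjc hrange
    refine ⟨IsOpenImmersion.isPullback _ _ _ _ hjc (TopologicalSpace.Opens.ext ?_), ?_⟩
    · change j ⁻¹' Set.range c = Set.range (𝒳.homOfLE hY)
      refine Set.Subset.antisymm (fun x hx => hrange x hx) ?_
      rintro _ ⟨y, rfl⟩
      exact ⟨jY y, by rw [← Scheme.Hom.comp_apply, ← Scheme.Hom.comp_apply, hjc]⟩
    · rwa [hcg, ← Category.assoc, Scheme.homOfLE_ι]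
  refine ⟨⟨T, g, hflat, j, Def38.isPullback_of_forall_chart ?_ fun t => ?_⟩⟩
  · refine (isPushout_sup W V).hom_ext ?_ ?_
    · rw [reassoc_of% hjW, hga, L.sq.w, Category.assoc, Category.assoc, Scheme.homOfLE_ι_assoc]
    · rw [reassoc_of% hjV, hgb, M.sq.w, Category.assoc, Category.assoc, Scheme.homOfLE_ι_assoc]
  · obtain ht | ht := hcov t
    · obtain ⟨h1, h2⟩ := chart le_sup_left a L.j L.g L.sq hga hjW hL
      exact ⟨_, _, a, jW, L.j, inferInstance, ht, h1, h2⟩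
    · obtain ⟨h1, h2⟩ := chart le_sup_right b M.j M.g M.sq hgb hjV hM
      exact ⟨_, _, b, jV, M.j, inferInstance, ht, h1, h2⟩

end Groth.Agent.Deform85.LiftOpen
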