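import Groth.Agent.Deform85.LiftOpen

/-!
# Uniqueness of flat liftings of smooth affine schemes
-/

set_option autoImplicit false
set_option linter.style.haveILetI false
set_option backward.isDefEq.respectTransparency.types false

universe u

open CategoryTheory CategoryTheory.Limits AlgebraicGeometry

noncomputable section

namespace Groth.Agent.Deform85.LiftOpen

/-- Flat liftings of a smooth affine scheme are isomorphic. -/
theorem nonempty_iso_of_smooth {R' R : Type u} [CommRing R'] [CommRing R] (φ : R' →+* R)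
    (hφ : Function.Surjective φ) (hnil : IsNilpotent (RingHom.ker φ)) {𝒳 : Scheme.{u}}
    {f : 𝒳 ⟶ Spec (CommRingCat.of R)} {W : 𝒳.Opens} (hW : IsAffineOpen W) (hsm : Smooth (W.ι ≫ f))
    (L M : LiftOn (Spec.map (CommRingCat.ofHom φ)) f W) : Nonempty (Iso L M) := by
  have hfo := specMap_thickening φ hφ hnil
  haveI : IsAffine (W : Scheme.{u}) := hW
  haveI := (isThickening_j L hfo.1).1
  haveI := (isThickening_j L hfo.1).2
  haveI := (isThickening_j M hfo.1).1
  haveI := (isThickening_j M hfo.1).2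
  haveI : IsAffine L.total := VarGal.isAffine_of_thickening L.j
  haveI : IsAffine M.total := VarGal.isAffine_of_thickening M.j
  haveI := L.flat
  haveI := M.flat
  have hLsm : Smooth L.g := by
    haveI : Flat (L.g ≫ 𝟙 _) := by rw [Category.comp_id]; infer_instance
    exact (FlatMor66.deform_smooth (f := W.ι ≫ f) (f' := L.g) (g := 𝟙 _) (g' := 𝟙 _) hfo
      (by simpa using L.sq) (IsPullback.of_vert_isIso ⟨by simp⟩) L.sq.w).1 hsm
  let E : Type u := Γ(L.total, ⊤)
  let E' : Type u := Γ(M.total, ⊤)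
  obtain ⟨ψ, hψR, hψ⟩ : ∃ ψ : Γ(L.total, ⊤) ⟶ Γ(M.total, ⊤),
      (∀ r, ψ (baseMap L.g r) = baseMap M.g r) ∧ ψ ≫ M.j.appTop = L.j.appTop := by
    obtain ⟨hMs, hMk⟩ := AffineDefExt.appTop_of_surjective φ hφ M.sq
    letI : Algebra R' Γ(L.total, ⊤) := (baseMap L.g).toAlgebra
    letI : Algebra R' Γ(M.total, ⊤) := (baseMap M.g).toAlgebra
    letI : Algebra R' Γ(W.toScheme, ⊤) := (baseMap (W.ι ≫ f ≫ Spec.map (CommRingCat.ofHom φ))).toAlgebra
    haveI : Algebra.FormallySmooth R' Γ(L.total, ⊤) := by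
      have h1 : RingHom.Smooth L.g.appTop.hom := HasRingHomProperty.appTop (P := @Smooth) L.g hLsm
      have h2 : RingHom.Smooth (baseMap L.g) :=
        RingHom.Smooth.comp (RingHom.Smooth.of_bijective
          (ConcreteCategory.bijective_of_isIso (Scheme.ΓSpecIso (CommRingCat.of R')).inv)) h1
      exact RingHom.formallySmooth_algebraMap.1 (RingHom.Smooth.formallySmooth h2)
    let β : Γ(M.total, ⊤) →ₐ[R'] Γ(W.toScheme, ⊤) :=
      { M.j.appTop.hom with
        commutes' := fun r => (baseMap_comp M.j M.g r).symm.trans (by rw [M.sq.w, Category.assoc]; rfl) }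
    let α : Γ(L.total, ⊤) →ₐ[R'] Γ(W.toScheme, ⊤) :=
      { L.j.appTop.hom with
        commutes' := fun r => (baseMap_comp L.j L.g r).symm.trans (by rw [L.sq.w, Category.assoc]; rfl) }
    have hnilβ : IsNilpotent (RingHom.ker β) := by
      obtain ⟨n, hn⟩ := hnil
      refine ⟨n, ?_⟩
      change RingHom.ker M.j.appTop.hom ^ n = 0
      rw [hMk, ← Ideal.map_pow, hn, Ideal.zero_eq_bot, Ideal.map_bot]; rfl
    obtain ⟨l, hl⟩ : ∃ l : Γ(L.total, ⊤) →ₐ[R'] Γ(M.total, ⊤), β.comp l = α := by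
      let e := Ideal.quotientKerAlgEquivOfSurjective (f := β) hMs
      obtain ⟨l, hl⟩ := Algebra.FormallySmooth.exists_lift (RingHom.ker β) hnilβ (e.symm.toAlgHom.comp α)
      refine ⟨l, AlgHom.ext fun x => ?_⟩
      have h1 : Ideal.Quotient.mk (RingHom.ker β) (l x) = e.symm (α x) := AlgHom.congr_fun hl x
      have h2 := congrArg e h1
      rw [AlgEquiv.apply_symm_apply] at h2
      exact h2
    exact ⟨CommRingCat.ofHom l.toRingHom, fun r => l.commutes r,
      CommRingCat.hom_ext (RingHom.ext fun x => AlgHom.congr_fun hl x)⟩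
  obtain ⟨h, hh⟩ := exists_hom_appTop ψ
  have hg : h ≫ L.g = M.g := baseMap_ext fun r => by rw [baseMap_comp, hh]; exact hψR r
  have hj : M.j ≫ h = L.j := ext_of_isAffine (by rw [Scheme.Hom.comp_appTop, hh, hψ])
  haveI : IsIso h := by
    haveI : Flat (h ≫ L.g) := hg.symm ▸ M.flat
    refine (FlatMor66.deform_isIso (f := 𝟙 (W : Scheme.{u})) (f' := h) (g := W.ι ≫ f) (g' := L.g) hfo ?_ L.sq
      (by rw [hj, Category.id_comp])).1 inferInstance
    rw [Category.id_comp, hg]
    exact M.sq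
  exact ⟨⟨(asIso h).symm, by simp [← hg], by simp [← hj]⟩⟩

end Groth.Agent.Deform85.LiftOpen
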