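import Groth.Agent.Deform85.IdealTorsor
import Mathlib.RingTheory.Ideal.Maps
import Mathlib.Algebra.Algebra.Operations

/-!
Infinitesimal automorphisms of a flat module over a square-zero extension.
-/

universe u

open TensorProduct

namespace Groth.Agent.Deform85.ModuleAut

open Groth.Agent.Deform85.IdealTorsor

variable {C : Type u} [CommRing C] {K J : Ideal C} (A : Type u) [CommRing A] [Algebra C A]
  (M : Type u) [AddCommGroup M] [Module A M] [Module C M] [IsScalarTower C A M]

/-- `mu` as an `A`-linear map. -/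
noncomputable def muA (J : Ideal C) : M ⊗[C] ↥J →ₗ[A] M where
  toFun := mu J M
  map_add' := map_add _
  map_smul' a z := by
    induction z using TensorProduct.induction_on with
    | zero => simp
    | tmul m j => rw [TensorProduct.smul_tmul', mu_tmul, mu_tmul, RingHom.id_apply, smul_comm]
    | add x y hx hy => rw [smul_add, map_add, map_add, hx, hy, smul_add]

lemma mem_smul_top_iff {x : M} :
    x ∈ (K.map (algebraMap C A)) • (⊤ : Submodule A M) ↔ x ∈ K • (⊤ : Submodule C M) := by
  rw [← Submodule.restrictScalars_top C A M, ← Ideal.smul_restrictScalars,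
    Submodule.restrictScalars_mem]

lemma mu_mem (z : M ⊗[C] ↥J) : mu J M z ∈ J • (⊤ : Submodule C M) := by
  induction z using TensorProduct.induction_on with
  | zero => simp
  | tmul m j => exact Submodule.smul_mem_smul j.2 Submodule.mem_top
  | add x y hx hy => rw [map_add]; exact add_mem hx hy

lemma exists_mu_eq {x : M} (hx : x ∈ J • (⊤ : Submodule C M)) :
    ∃ z : M ⊗[C] ↥J, mu J M z = x := by
  induction hx using Submodule.smul_induction_on' with
  | smul a ha n hn => exact ⟨n ⊗ₜ ⟨a, ha⟩, rfl⟩
  | add a _ b _ ha hb =>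
    obtain ⟨za, rfl⟩ := ha
    obtain ⟨zb, rfl⟩ := hb
    exact ⟨za + zb, map_add _ _ _⟩

/-- The projection `M ⊗ J → (M/N) ⊗ J` as an `A`-linear map. -/
noncomputable def projA (N : Submodule A M) (J : Ideal C) :
    M ⊗[C] ↥J →ₗ[A] (M ⧸ N) ⊗[C] ↥J where
  toFun z := ((Submodule.mkQ N).restrictScalars C).rTensor ↥J z
  map_add' x y := map_add _ x y
  map_smul' a z := by
    induction z using TensorProduct.induction_on with
    | zero => simp
    | tmul m j => rw [TensorProduct.smul_tmul', LinearMap.rTensor_tmul, LinearMap.rTensor_tmul,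
        RingHom.id_apply, TensorProduct.smul_tmul']; rfl
    | add x y hx hy => rw [smul_add, map_add, map_add, hx, hy, smul_add]

lemma projA_apply (N : Submodule A M) (J : Ideal C) (z : M ⊗[C] ↥J) :
    projA A M N J z = ((Submodule.mkQ N).restrictScalars C).rTensor ↥J z := rfl

lemma projA_bijective (N : Submodule A M) (hN : ∀ x ∈ N, x ∈ K • (⊤ : Submodule C M))
    (hKJ : K * J = ⊥) : Function.Bijective (projA A M N J) := by
  have hsurj : Function.Surjective ((Submodule.mkQ N).restrictScalars C) :=
    Submodule.mkQ_surjective _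
  constructor
  · intro x y h
    rw [projA_apply, projA_apply] at h
    refine rTensor_injective_of_ker_le _ hsurj K hKJ (fun x hx => ?_) h
    rw [LinearMap.mem_ker, LinearMap.restrictScalars_apply, Submodule.mkQ_apply,
      Submodule.Quotient.mk_eq_zero] at hx
    exact hN x hx
  · intro y
    obtain ⟨z, hz⟩ := LinearMap.rTensor_surjective ↥J hsurj y
    exact ⟨z, (projA_apply A M N J z).trans hz⟩

variable {A M} (hKJ : K * J = ⊥) (hJK : J ≤ K)

include hKJ in
lemma delta_eq_zero (δ : M →ₗ[A] M) (hδ : ∀ x, δ x ∈ J • (⊤ : Submodule C M)) {x : M}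
    (hx : x ∈ K • (⊤ : Submodule C M)) : δ x = 0 := by
  induction hx using Submodule.smul_induction_on' with
  | smul a ha n hn =>
    rw [LinearMap.map_smul_of_tower]
    have := Submodule.smul_mem_smul ha (hδ n)
    rwa [← Submodule.mul_smul, hKJ, Submodule.bot_smul, Submodule.mem_bot] at this
  | add a _ b _ ha hb => rw [map_add, ha, hb, add_zero]

variable [Module.Flat C M]

include hKJ hJK in
theorem main :
    (∀ σ : M →ₗ[A] M, (∀ x : M, σ x - x ∈ (J.map (algebraMap C A)) • (⊤ : Submodule A M)) →
      Function.Bijective σ ∧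
        ∃! τ : (M ⧸ (K.map (algebraMap C A)) • (⊤ : Submodule A M)) →ₗ[A]
            (M ⧸ (K.map (algebraMap C A)) • (⊤ : Submodule A M)) ⊗[C] ↥J,
          ∀ (x : M) (z : M ⊗[C] ↥J), mu J M z = σ x - x →
            projA A M ((K.map (algebraMap C A)) • (⊤ : Submodule A M)) J z = τ (Submodule.mkQ _ x)) ∧
    (∀ τ : (M ⧸ (K.map (algebraMap C A)) • (⊤ : Submodule A M)) →ₗ[A]
          (M ⧸ (K.map (algebraMap C A)) • (⊤ : Submodule A M)) ⊗[C] ↥J,
      ∃ σ : M →ₗ[A] M, (∀ x : M, σ x - x ∈ (J.map (algebraMap C A)) • (⊤ : Submodule A M)) ∧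
        ∀ (x : M) (z : M ⊗[C] ↥J), mu J M z = σ x - x →
          projA A M ((K.map (algebraMap C A)) • (⊤ : Submodule A M)) J z = τ (Submodule.mkQ _ x)) := by
  refine ⟨fun σ hσ => ?_, fun τ => ?_⟩
  · let δ : M →ₗ[A] M := σ - LinearMap.id
    have hδx : ∀ x, δ x = σ x - x := fun x => rfl
    have hδ : ∀ x, δ x ∈ J • (⊤ : Submodule C M) := fun x => (mem_smul_top_iff A M).mp (hσ x)
    have h2 : ∀ x, δ (δ x) = 0 := fun x =>
      delta_eq_zero hKJ δ hδ (Submodule.smul_mono_left hJK (hδ x))
    refine ⟨⟨fun x y hxy => ?_, fun y => ⟨y - δ y, ?_⟩⟩, ?_⟩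
    · have h := h2 (x - y)
      have h' : δ (x - y) = -(x - y) := by
        rw [map_sub, hδx, hδx, hxy]; abel
      rw [h', map_neg, h', neg_neg, sub_eq_zero] at h
      exact h
    · have key : ∀ w, σ w = w + δ w := fun w => by rw [hδx]; abel
      rw [key, map_sub, h2, sub_zero, sub_add_cancel]
    choose z hz using fun x => exists_mu_eq M (hδ x)
    let f : M →ₗ[A] M ⊗[C] ↥J :=
      { toFun := z
        map_add' := fun x y => mu_injective (by rw [map_add, hz, hz, hz, map_add])
        map_smul' := fun a x => mu_injective (by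
          rw [RingHom.id_apply, hz, map_smul]
          exact (congrArg (a • ·) (hz x).symm).trans ((muA A M J).map_smul a (z x)).symm) }
    let τ := ((K.map (algebraMap C A)) • (⊤ : Submodule A M)).liftQ (projA A M ((K.map (algebraMap C A)) • (⊤ : Submodule A M)) J ∘ₗ f) (by
      intro x hx
      have : δ x = 0 := delta_eq_zero hKJ δ hδ ((mem_smul_top_iff A M).mp hx)
      have hzx : z x = 0 := mu_injective (by rw [hz, this, map_zero])
      exact (congrArg (projA A M ((K.map (algebraMap C A)) • (⊤ : Submodule A M)) J) hzx).trans (map_zero _))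
    refine ⟨τ, fun x w hw => ?_, fun τ' hτ' => Submodule.linearMap_qext _ (LinearMap.ext fun x => ?_)⟩
    · have : w = z x := mu_injective (by rw [hw, hz, hδx])
      subst this
      rfl
    · exact (hτ' x (z x) (by rw [hz, hδx])).symm
  · let e := LinearEquiv.ofBijective (projA A M ((K.map (algebraMap C A)) • (⊤ : Submodule A M)) J) (projA_bijective A M _ (fun x hx => (mem_smul_top_iff A M).mp hx) hKJ)
    let g : M →ₗ[A] M := muA A M J ∘ₗ e.symm.toLinearMap ∘ₗ τ ∘ₗ Submodule.mkQ _
    refine ⟨LinearMap.id + g, fun x => ?_, fun x w hw => ?_⟩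
    · rw [LinearMap.add_apply, LinearMap.id_apply, add_sub_cancel_left]
      exact (mem_smul_top_iff A M).mpr (mu_mem M _)
    · rw [LinearMap.add_apply, LinearMap.id_apply, add_sub_cancel_left] at hw
      have : w = e.symm (τ (Submodule.mkQ _ x)) := mu_injective hw
      rw [this]
      exact e.apply_symm_apply _

end Groth.Agent.Deform85.ModuleAut
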