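import Mathlib

/-!
# The algebras `R[X,Y]/(XY - b)`
-/

set_option autoImplicit false

universe u

noncomputable section

namespace Groth.Agent.Deform85.NodeAlg

open MvPolynomial

variable {R : Type u} [CommRing R]

/-- The equation `XY - b`. -/
def eqn (b : R) : MvPolynomial (Fin 2) R := X 0 * X 1 - C b

/-- The algebra `R[X,Y]/(XY - b)`. -/
abbrev N (b : R) : Type u := MvPolynomial (Fin 2) R ⧸ Ideal.span {eqn b}

/-- The monomial `XY`. -/
def δ : Fin 2 →₀ ℕ := Finsupp.single 0 1 + Finsupp.single 1 1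

theorem min_δ (e : Fin 2 →₀ ℕ) : min ((e + δ) 0) ((e + δ) 1) = min (e 0) (e 1) + 1 := by
  rw [Finsupp.add_apply, Finsupp.add_apply, show δ 0 = 1 by simp [δ], show δ 1 = 1 by simp [δ]]
  omega

/-- The exponent with `XY` removed as far as possible. -/
def red (e : Fin 2 →₀ ℕ) : Fin 2 →₀ ℕ := e - min (e 0) (e 1) • δ

theorem red_add_δ (e : Fin 2 →₀ ℕ) : red (e + δ) = red e := by
  rw [red, red, min_δ, succ_nsmul, add_tsub_add_eq_tsub_right]

theorem red_add (e : Fin 2 →₀ ℕ) : red e + min (e 0) (e 1) • δ = e := by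
  refine Finsupp.ext fun i => ?_
  fin_cases i <;> simp [red, δ, Finsupp.single_apply]

/-- The normal form. -/
def nf (b : R) : MvPolynomial (Fin 2) R →ₗ[R] MvPolynomial (Fin 2) R :=
  (basisMonomials (Fin 2) R).constr R fun e => monomial (red e) (b ^ min (e 0) (e 1))

theorem nf_monomial (b : R) (e : Fin 2 →₀ ℕ) (c : R) :
    nf b (monomial e c) = monomial (red e) (c * b ^ min (e 0) (e 1)) := by
  have h : monomial e c = c • (basisMonomials (Fin 2) R) e := by
    rw [coe_basisMonomials]
    simp [MvPolynomial.smul_monomial]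
  rw [h, map_smul, nf, Module.Basis.constr_basis, smul_monomial, smul_eq_mul]

theorem monomial_δ : (monomial δ (1 : R) : MvPolynomial (Fin 2) R) = X 0 * X 1 := by
  rw [X, X, monomial_mul, one_mul]
  rfl

theorem nf_mul_eqn (b : R) (p : MvPolynomial (Fin 2) R) : nf b (p * eqn b) = 0 := by
  induction p using MvPolynomial.induction_on' with
  | add p q hp hq => rw [add_mul, map_add, hp, hq, add_zero]
  | monomial e c =>
    rw [eqn, ← monomial_δ, mul_sub, monomial_mul, C_apply, monomial_mul, map_sub, nf_monomial, nf_monomial,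
      add_zero, red_add_δ, min_δ, pow_succ, mul_one, mul_assoc, mul_comm b, sub_self]

theorem sub_nf_mem (b : R) (p : MvPolynomial (Fin 2) R) : p - nf b p ∈ Ideal.span {eqn b} := by
  induction p using MvPolynomial.induction_on' with
  | add p q hp hq => rw [map_add, add_sub_add_comm]; exact add_mem hp hq
  | monomial e c =>
    have h1 : monomial e c = monomial (red e) c * (X 0 * X 1) ^ min (e 0) (e 1) := by
      rw [← monomial_δ, monomial_pow, monomial_mul, one_pow, mul_one, red_add]
    have h2 : monomial (red e) (c * b ^ min (e 0) (e 1)) = monomial (red e) c * C b ^ min (e 0) (e 1) := by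
      rw [← C_pow, C_apply, monomial_mul, add_zero]
    rw [nf_monomial, h2, h1, ← mul_sub]
    exact Ideal.mul_mem_left _ _ (Ideal.mem_span_singleton.2 (sub_dvd_pow_sub_pow _ _ _))

theorem flat (b : R) : Module.Flat R (N b) := by
  let I : Submodule R (MvPolynomial (Fin 2) R) := (Ideal.span {eqn b}).restrictScalars R
  let s : (MvPolynomial (Fin 2) R ⧸ I) →ₗ[R] MvPolynomial (Fin 2) R := Submodule.liftQ I (nf b) fun x hx => by
    obtain ⟨p, rfl⟩ := Ideal.mem_span_singleton'.1 (hx : x ∈ Ideal.span {eqn b})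
    exact nf_mul_eqn b p
  have : Module.Projective R (MvPolynomial (Fin 2) R ⧸ I) := by
    refine Module.Projective.of_split s I.mkQ (LinearMap.ext fun z => ?_)
    obtain ⟨p, rfl⟩ := Submodule.mkQ_surjective I z
    refine ((Submodule.Quotient.eq I).2 ?_).symm
    exact sub_nf_mem b p
  exact Module.Flat.of_linearEquiv (Submodule.Quotient.restrictScalarsEquiv R (Ideal.span {eqn b})).symm

section Map

variable {S : Type u} [CommRing S] (φ : R →+* S)

theorem map_eqn (b : R) : MvPolynomial.map φ (eqn b) = eqn (φ b) := by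
  simp [eqn]

/-- A map out of `R[X,Y]/(XY - b)` covering `φ`. -/
def push (b : R) (g : MvPolynomial (Fin 2) S) (h : MvPolynomial.map φ (eqn b) = g) :
    N b →+* MvPolynomial (Fin 2) S ⧸ Ideal.span {g} :=
  Ideal.quotientMap _ (MvPolynomial.map φ) ((Ideal.span_singleton_le_iff_mem _).2 (by
    rw [Ideal.mem_comap, h]
    exact Ideal.mem_span_singleton_self g))

variable {φ}

theorem push_surjective (hφ : Function.Surjective φ) (b : R) (g : MvPolynomial (Fin 2) S)
    (h : MvPolynomial.map φ (eqn b) = g) : Function.Surjective (push φ b g h) :=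
  Ideal.quotientMap_surjective (MvPolynomial.map_surjective φ hφ)

theorem ker_push_le (hφ : Function.Surjective φ) (b : R) (g : MvPolynomial (Fin 2) S)
    (h : MvPolynomial.map φ (eqn b) = g) :
    RingHom.ker (push φ b g h) ≤ (RingHom.ker φ).map (algebraMap R (N b)) := by
  intro x hx
  obtain ⟨p, rfl⟩ := Ideal.Quotient.mk_surjective x
  have hp : MvPolynomial.map φ p ∈ Ideal.span {g} := Ideal.Quotient.eq_zero_iff_mem.1 hx
  obtain ⟨q, hq⟩ := Ideal.mem_span_singleton'.1 hp
  obtain ⟨q, rfl⟩ := MvPolynomial.map_surjective φ hφ q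
  have h1 : p - q * eqn b ∈ RingHom.ker (MvPolynomial.map φ : MvPolynomial (Fin 2) R →+* _) := by
    rw [RingHom.mem_ker, map_sub, map_mul, h, hq, sub_self]
  rw [MvPolynomial.ker_map] at h1
  have h2 := Ideal.mem_map_of_mem (Ideal.Quotient.mk (Ideal.span {eqn b})) h1
  rw [Ideal.map_map, map_sub, map_mul, Ideal.Quotient.eq_zero_iff_mem.2 (Ideal.mem_span_singleton_self (eqn b)),
    mul_zero, sub_zero] at h2
  exact h2

end Map

/-- Scaling `X` by `v`. -/
def scaleX (v : R) : MvPolynomial (Fin 2) R →ₐ[R] MvPolynomial (Fin 2) R := aeval ![C v * X 0, X 1]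

theorem scaleX_eqn {b c v : R} (hv : v * c = b) : scaleX v (eqn b) = C v * eqn c := by
  simp [scaleX, eqn, ← hv]
  ring

theorem scaleX_comp (v w : R) : (scaleX v).comp (scaleX w) = scaleX (w * v) := by
  refine MvPolynomial.algHom_ext fun i => ?_
  fin_cases i <;> simp [scaleX] <;> ring

theorem scaleX_one : scaleX (1 : R) = AlgHom.id R _ := by
  refine MvPolynomial.algHom_ext fun i => ?_
  fin_cases i <;> simp [scaleX]

/-- The map `R[X,Y]/(XY - b) → R[X,Y]/(XY - c)` scaling `X`. -/
def scaleHom {b c : R} (v : R) (hv : v * c = b) : N b →ₐ[R] N c :=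
  Ideal.quotientMapₐ _ (scaleX v) ((Ideal.span_singleton_le_iff_mem _).2 (by
    rw [Ideal.mem_comap, scaleX_eqn hv]
    exact Ideal.mul_mem_left _ _ (Ideal.mem_span_singleton_self _)))

theorem scaleHom_comp {b c : R} (v w : R) (hv : v * c = b) (hw : w * b = c) (h : v * w = 1) (x : N b) :
    scaleHom w hw (scaleHom v hv x) = x := by
  obtain ⟨p, rfl⟩ := Ideal.Quotient.mk_surjective x
  refine congrArg (Ideal.Quotient.mk _) ?_
  change (scaleX w).comp (scaleX v) p = p
  rw [scaleX_comp, h, scaleX_one, AlgHom.id_apply]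

theorem map_scaleX {S : Type u} [CommRing S] (φ : R →+* S) {v : R} (hv : φ v = 1) (p : MvPolynomial (Fin 2) R) :
    MvPolynomial.map φ (scaleX v p) = MvPolynomial.map φ p := by
  induction p using MvPolynomial.induction_on with
  | C a => simp [scaleX]
  | add p q hp hq => rw [map_add, map_add, hp, hq, map_add]
  | mul_X p i hp =>
    rw [map_mul, map_mul, hp, map_mul]
    fin_cases i <;> simp [scaleX, hv]

/-- Evaluation of `R[X,Y]/(XY)` at the origin. -/
def evOrigin {b : R} (hb : b = 0) : N b →ₐ[R] R :=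
  Ideal.Quotient.liftₐ _ (aeval (0 : Fin 2 → R)) fun x hx => by
    obtain ⟨p, rfl⟩ := Ideal.mem_span_singleton'.1 hx
    simp [eqn, hb]

theorem evOrigin_mk {b : R} (hb : b = 0) (p : MvPolynomial (Fin 2) R) :
    evOrigin hb (Ideal.Quotient.mk _ p) = constantCoeff p := by
  change aeval (0 : Fin 2 → R) p = _
  rw [show (0 : Fin 2 → R) = fun _ => 0 from rfl]
  simp [aeval_zero']

end Groth.Agent.Deform85.NodeAlg
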