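import Groth.Agent.Deform85.NodeAlg
import Groth.Agent.Deform85.AffineTangent
import Groth.Agent.Def38.Arrow

/-!
# The deformations `XY = b` of the node
-/

set_option autoImplicit false

universe u

open CategoryTheory CategoryTheory.Limits AlgebraicGeometry MvPolynomial

noncomputable section

namespace Groth.Agent.Deform85.NodeDef

open ArtFun ArtFun.Art NodeAlg
open AffineDefExt (str)

variable {k : Type u} [Field k]

/-- The coordinate ring of the node. -/
abbrev B₀ (k : Type u) [Field k] : Type u :=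
  MvPolynomial (Fin 2) k ⧸ Ideal.span {(MvPolynomial.X 0 * MvPolynomial.X 1 : MvPolynomial (Fin 2) k)}

theorem map_res_eqn (A : Art k k) {b : A.carrier} (hb : A.res b = 0) :
    MvPolynomial.map A.res.toRingHom (eqn b) = X 0 * X 1 := by
  rw [map_eqn, eqn, show A.res.toRingHom b = 0 from hb, map_zero, sub_zero]

/-- Restriction to the closed fibre. -/
def τ (A : Art k k) {b : A.carrier} (hb : A.res b = 0) : N b →+* B₀ k :=
  push A.res.toRingHom b _ (map_res_eqn A hb)

theorem flat_N {A : Art k k} (b : A.carrier) : Flat (Spec.map (CommRingCat.ofHom (algebraMap A.carrier (N b)))) := by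
  refine (HasRingHomProperty.Spec_iff (P := @Flat)).mpr ?_
  change (algebraMap A.carrier (N b)).Flat
  rw [RingHom.flat_algebraMap_iff]
  exact NodeAlg.flat b

/-- The deformation `XY = b`. -/
def node (A : Art k k) (b : A.carrier) (hb : A.res b = 0) :
    DefSch (Spec (CommRingCat.of (B₀ k))) (str k (B₀ k)) A where
  total := Spec (CommRingCat.of (N b))
  f := Spec.map (CommRingCat.ofHom (algebraMap A.carrier (N b)))
  flat := flat_N b
  i := Spec.map (CommRingCat.ofHom (τ A hb))
  isPullback := AffineTangent.isPullback_SpecMap_of_surjective A.res.toRingHom A.res_surjective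
    (algebraMap A.carrier (N b)) (τ A hb) (algebraMap k (B₀ k))
    (push_surjective A.res_surjective _ _ _)
    (fun r => congrArg (Ideal.Quotient.mk _) (MvPolynomial.map_C A.res.toRingHom r))
    (ker_push_le A.res_surjective _ _ _)

theorem τ_push {A A' : Art k k} (q : A ⟶ A') {b : A.carrier} {b' : A'.carrier} (hb : A.res b = 0)
    (hb' : A'.res b' = 0) (h : q.toAlgHom b = b') (x : N b) :
    τ A' hb' (push q.toAlgHom.toRingHom b (eqn b')
      ((map_eqn _ b).trans (congrArg eqn h)) x) = τ A hb x := by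
  obtain ⟨p, rfl⟩ := Ideal.Quotient.mk_surjective x
  refine congrArg (Ideal.Quotient.mk _) ?_
  rw [MvPolynomial.map_map]
  exact congrArg (fun g : A.carrier →+* k => MvPolynomial.map g p) (congrArg AlgHom.toRingHom q.res_comp)

/-- Base change of `XY = b`. -/
def nodeArrow {A A' : Art k k} (q : A ⟶ A') (hq : Function.Surjective q.toAlgHom) {b : A.carrier}
    {b' : A'.carrier} (hb : A.res b = 0) (hb' : A'.res b' = 0) (h : q.toAlgHom b = b') :
    Def38.Arrow q (node A b hb) (node A' b' hb') where
  hom := Spec.map (CommRingCat.ofHom (push q.toAlgHom.toRingHom b (eqn b') ((map_eqn _ b).trans (congrArg eqn h))))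
  isPullback := AffineTangent.isPullback_SpecMap_of_surjective q.toAlgHom.toRingHom hq
    (algebraMap A.carrier (N b)) _ (algebraMap A'.carrier (N b'))
    (push_surjective hq _ _ _)
    (fun r => congrArg (Ideal.Quotient.mk _) (MvPolynomial.map_C q.toAlgHom.toRingHom r))
    (ker_push_le hq _ _ _)
  i_hom := by
    change Spec.map _ ≫ Spec.map _ = Spec.map _
    rw [← Spec.map_comp, ← CommRingCat.ofHom_comp]
    exact congrArg (fun g => Spec.map (CommRingCat.ofHom g)) (RingHom.ext (τ_push q hb hb' h))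

theorem map_cl_node {A A' : Art k k} (q : A ⟶ A') (hq : Function.Surjective q.toAlgHom) {b : A.carrier}
    {b' : A'.carrier} (hb : A.res b = 0) (hb' : A'.res b' = 0) (h : q.toAlgHom b = b') :
    (defFunctor (Spec (CommRingCat.of (B₀ k))) (str k (B₀ k))).map q (node A b hb).cl = (node A' b' hb').cl :=
  (nodeArrow q hq hb hb' h).map_cl

/-- `XY = b` and `XY = u b` are isomorphic for `u` a unit reducing to `1`. -/
theorem cl_node_eq_of_unit (A : Art k k) {b c : A.carrier} (hb : A.res b = 0) (hc : A.res c = 0)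
    (v : A.carrier) (hv : v * c = b) (hv1 : A.res v = 1) : (node A b hb).cl = (node A c hc).cl := by
  have hu : IsUnit v := by
    by_contra hu
    have := (A.mem_maximalIdeal_iff v).1 ((IsLocalRing.mem_maximalIdeal v).2 hu)
    rw [hv1] at this
    exact one_ne_zero this
  obtain ⟨u, rfl⟩ := hu
  have hw : (↑u⁻¹ : A.carrier) * b = c := by rw [← hv, ← mul_assoc, Units.inv_mul, one_mul]
  let f := scaleHom (u : A.carrier) hv
  let g := scaleHom ((u⁻¹ : (A.carrier)ˣ) : A.carrier) hw
  have hfg : ∀ x, g (f x) = x := scaleHom_comp _ _ hv hw u.mul_inv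
  have hgf : ∀ x, f (g x) = x := scaleHom_comp _ _ hw hv u.inv_mul
  refine Quotient.sound ⟨⟨⟨Spec.map (CommRingCat.ofHom g.toRingHom), Spec.map (CommRingCat.ofHom f.toRingHom), ?_, ?_⟩, ?_, ?_⟩⟩
  · change Spec.map _ ≫ Spec.map _ = _
    rw [← Spec.map_comp, ← CommRingCat.ofHom_comp]
    exact (congrArg (fun e => Spec.map (CommRingCat.ofHom e)) (RingHom.ext hfg :
      g.toRingHom.comp f.toRingHom = RingHom.id _)).trans (Spec.map_id _)
  · change Spec.map _ ≫ Spec.map _ = _
    rw [← Spec.map_comp, ← CommRingCat.ofHom_comp]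
    exact (congrArg (fun e => Spec.map (CommRingCat.ofHom e)) (RingHom.ext hgf :
      f.toRingHom.comp g.toRingHom = RingHom.id _)).trans (Spec.map_id _)
  · change Spec.map _ ≫ Spec.map _ = Spec.map _
    rw [← Spec.map_comp, ← CommRingCat.ofHom_comp]
    exact congrArg (fun e => Spec.map (CommRingCat.ofHom e)) (RingHom.ext g.commutes)
  · change Spec.map _ ≫ Spec.map _ = Spec.map _
    rw [← Spec.map_comp, ← CommRingCat.ofHom_comp]
    refine congrArg (fun e => Spec.map (CommRingCat.ofHom e)) (RingHom.ext fun x => ?_)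
    obtain ⟨p, rfl⟩ := Ideal.Quotient.mk_surjective x
    refine congrArg (Ideal.Quotient.mk _) (map_scaleX A.res.toRingHom ?_ p)
    have h1 : A.res (↑u⁻¹ * ↑u) = 1 := by rw [u.inv_mul, map_one]
    rwa [map_mul, hv1, mul_one] at h1

/-- `XY = ε` is not the trivial deformation over `k[ε]`. -/
theorem cl_node_eps_ne (h0 : (dual k k).res (ArtF85.mkDual 0 1) = 0) :
    (node (dual k k) (ArtF85.mkDual 0 1) h0).cl ≠ (node (dual k k) 0 (map_zero _)).cl := by
  intro h
  obtain ⟨e⟩ := Quotient.exact h
  let ψ : N (ArtF85.mkDual (Λ := k) (k := k) 0 1) →+* N (0 : (dual k k).carrier) :=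
    (Spec.preimage e.iso.inv).hom
  have hψ : Spec.map (CommRingCat.ofHom ψ) = e.iso.inv := Spec.map_preimage _
  have hc : ∀ a, ψ (algebraMap _ _ a) = algebraMap (dual k k).carrier (N (0 : (dual k k).carrier)) a := by
    have h1 : Spec.map (CommRingCat.ofHom ψ) ≫ (node (dual k k) (ArtF85.mkDual 0 1) h0).f =
        (node (dual k k) 0 (map_zero _)).f := by
      rw [hψ]
      exact e.symm.hom_f
    change Spec.map _ ≫ Spec.map _ = Spec.map _ at h1
    rw [← Spec.map_comp, ← CommRingCat.ofHom_comp] at h1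
    exact fun a => congr($(Spec.map_injective h1) a)
  have hτ : ∀ x, τ (dual k k) (map_zero _) (ψ x) = τ (dual k k) h0 x := by
    have h1 : (node (dual k k) 0 (map_zero _)).i ≫ Spec.map (CommRingCat.ofHom ψ) =
        (node (dual k k) (ArtF85.mkDual 0 1) h0).i := by
      rw [hψ]
      exact e.symm.i_hom
    change Spec.map _ ≫ Spec.map _ = Spec.map _ at h1
    rw [← Spec.map_comp, ← CommRingCat.ofHom_comp] at h1
    exact fun x => congr($(Spec.map_injective h1) x)
  let ev := evOrigin (R := (dual k k).carrier) (b := 0) rfl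
  have hev : ∀ i, (dual k k).res (ev (ψ (Ideal.Quotient.mk _ (X i)))) = 0 := by
    intro i
    obtain ⟨p, hp⟩ := Ideal.Quotient.mk_surjective (ψ (Ideal.Quotient.mk _ (X i)))
    have h1 := hτ (Ideal.Quotient.mk _ (X i))
    rw [← hp] at h1
    have h2 : MvPolynomial.map (dual k k).res.toRingHom p - X i ∈ Ideal.span {(X 0 * X 1 : MvPolynomial (Fin 2) k)} := by
      refine Ideal.Quotient.eq.1 (h1.trans ?_)
      exact congrArg (Ideal.Quotient.mk _) (MvPolynomial.map_X _ i)
    obtain ⟨q, hq⟩ := Ideal.mem_span_singleton'.1 h2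
    have h3 := congrArg constantCoeff hq
    simp [constantCoeff_map] at h3
    rw [← hp, evOrigin_mk]
    exact h3.symm
  have h1 : algebraMap (dual k k).carrier (N (ArtF85.mkDual (Λ := k) (k := k) 0 1)) (ArtF85.mkDual 0 1) =
      Ideal.Quotient.mk _ (X 0) * Ideal.Quotient.mk _ (X 1) := by
    rw [← map_mul]
    refine (Ideal.Quotient.eq.2 ?_).symm
    exact Ideal.mem_span_singleton_self _
  have h2 := congrArg (fun x => ArtF85.eps (ev (ψ x))) h1
  simp only [hc, map_mul, AlgHom.commutes, Algebra.algebraMap_self, RingHom.id_apply, ArtF85.eps_mkDual,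
    ArtF85.eps_mul, hev, zero_mul, add_zero] at h2
  exact one_ne_zero h2

end Groth.Agent.Deform85.NodeDef
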