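import Groth.Prelude.Def_W4bk4hartshdef114Obs
import Groth.Agent.CAlg6.GorFactor
import Mathlib.RingTheory.Filtration
import Mathlib.RingTheory.Nakayama
import Mathlib.RingTheory.Ideal.KrullsHeightTheorem
import Mathlib.LinearAlgebra.Dual.Lemmas

/-!
An obstruction theory bounds the number of equations.
-/

set_option autoImplicit false

universe u

open TensorProduct IsLocalRing

namespace Groth.Agent.Deform85.ObsBound

variable {k : Type u} [Field k] {P : Type u} [CommRing P] [IsLocalRing P] [IsNoetherianRing P]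
  [Algebra k P]

set_option maxHeartbeats 1000000 in
/-- The key step: a functional on `J` killing the obstruction of `u` forces `u` to lift. -/
theorem no_dual {I : Ideal P} (hI : I ≤ maximalIdeal P ^ 2)
    {V : Type u} [AddCommGroup V] [Module k V]
    (T : W4bk4hartshdef114.ObsTheory k (P ⧸ I) V)
    {C : Type u} [CommRing C] [Algebra k C] [IsLocalRing C] (π₀ : P →ₐ[k] C)
    (hπ₀ : ∀ x ∈ maximalIdeal P, π₀ x ∈ maximalIdeal C)
    (hcC : ∀ x : C, ∃ a : k, x - algebraMap k C a ∈ maximalIdeal C)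
    (J : Ideal C) (hsmall : W4bk4hartshdef114.IsSmallExt k C J)
    (u : P ⧸ I →ₐ[k] C ⧸ J)
    (hu : ∀ x, u (Ideal.Quotient.mk I x) = Ideal.Quotient.mk J (π₀ x))
    (δ : Module.Dual k J)
    (hδ : TensorProduct.rid k V (LinearMap.lTensor V δ (T.obs C J u)) = 0)
    (j₀ : J) (hj₀ : δ j₀ = 1) (i : P) (hi : i ∈ I) (hij : π₀ i = (j₀ : C)) : False := by
  obtain ⟨hA, hfinC, -, hann, hJne⟩ := hsmall
  have hmJ : ∀ x j : C, x ∈ maximalIdeal C → j ∈ J → x * j = 0 := fun x j hx hj =>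
    hann x j ((mem_maximalIdeal _).1 hx) hj
  let K : Ideal C :=
    { carrier := {x | ∃ h : x ∈ J, δ ⟨x, h⟩ = 0}
      add_mem' := by
        rintro a b ⟨ha, ha'⟩ ⟨hb, hb'⟩
        exact ⟨J.add_mem ha hb, by
          rw [show (⟨a + b, J.add_mem ha hb⟩ : J) = ⟨a, ha⟩ + ⟨b, hb⟩ from rfl, map_add, ha', hb',
            add_zero]⟩
      zero_mem' := ⟨J.zero_mem, map_zero δ⟩
      smul_mem' := by
        rintro r x ⟨hx, hx'⟩
        refine ⟨J.mul_mem_left r hx, ?_⟩
        obtain ⟨a, ha⟩ := hcC r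
        have : (⟨r * x, J.mul_mem_left r hx⟩ : J) = a • ⟨x, hx⟩ := Subtype.ext (by
          change r * x = a • x
          rw [Algebra.smul_def, ← sub_eq_zero, ← sub_mul]
          exact hmJ _ _ ha hx)
        change δ ⟨r * x, J.mul_mem_left r hx⟩ = 0
        rw [this, map_smul, hx', smul_zero] }
  have hK : K ≤ J := fun x hx => hx.1
  let J' := J.map (Ideal.Quotient.mkₐ k K)
  have hobs : LinearMap.lTensor V (W4bk4hartshdef114.idealToQuot k J K) (T.obs C J u) = 0 := by
    have hq : W4bk4hartshdef114.idealToQuot k J K =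
        (LinearMap.toSpanSingleton k J' (W4bk4hartshdef114.idealToQuot k J K j₀)) ∘ₗ δ := by
      refine LinearMap.ext fun j => ?_
      rw [LinearMap.comp_apply, LinearMap.toSpanSingleton_apply, ← map_smul, ← sub_eq_zero, ← map_sub]
      apply Subtype.ext
      change Ideal.Quotient.mk K ((j - δ j • j₀ : J) : C) = 0
      rw [Ideal.Quotient.eq_zero_iff_mem]
      exact ⟨(j - δ j • j₀).2, by
        rw [Subtype.coe_eta, map_sub, map_smul, hj₀, smul_eq_mul, mul_one, sub_self]⟩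
    have h0 : LinearMap.lTensor V δ (T.obs C J u) = 0 :=
      (TensorProduct.rid k V).injective (hδ.trans (map_zero _).symm)
    rw [hq, LinearMap.lTensor_comp_apply, h0, map_zero]
  have hKne : K ≠ ⊤ := fun h => hJne (top_le_iff.1 (h ▸ hK))
  haveI : Nontrivial (C ⧸ K) := Ideal.Quotient.nontrivial_iff.mpr hKne
  haveI : IsLocalRing (C ⧸ K) := .of_surjective' _ Ideal.Quotient.mk_surjective
  have hmax' : maximalIdeal (C ⧸ K) = (maximalIdeal C).map (Ideal.Quotient.mk K) :=
    (IsLocalRing.map_maximalIdeal_of_surjective _ Ideal.Quotient.mk_surjective).symm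
  have hmJ' : ∀ x j : C ⧸ K, x ∈ maximalIdeal (C ⧸ K) → j ∈ J' → x * j = 0 := fun x j hx hj => by
    rw [hmax', Ideal.mem_map_iff_of_surjective _ Ideal.Quotient.mk_surjective] at hx
    change j ∈ J.map (Ideal.Quotient.mk K) at hj
    rw [Ideal.mem_map_iff_of_surjective _ Ideal.Quotient.mk_surjective] at hj
    obtain ⟨x, hx, rfl⟩ := hx
    obtain ⟨j, hj, rfl⟩ := hj
    rw [← map_mul, hmJ x j hx hj, map_zero]
  have hsmall' : W4bk4hartshdef114.IsSmallExt k (C ⧸ K) J' := by
    refine ⟨inferInstance, inferInstance, fun x => ?_,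
      fun x j hx hj => hmJ' x j ((mem_maximalIdeal _).2 hx) hj, ?_⟩
    · obtain ⟨x, rfl⟩ := Ideal.Quotient.mk_surjective x
      obtain ⟨a, ha⟩ := hcC x
      refine ⟨a, (mem_maximalIdeal _).1 ?_⟩
      rw [hmax']
      have := Ideal.mem_map_of_mem (Ideal.Quotient.mk K) ha
      rwa [map_sub] at this
    · intro h
      exact (maximalIdeal.isMaximal (C ⧸ K)).ne_top (top_le_iff.1
        (h.symm.le.trans (hmax' ▸ Ideal.map_mono (IsLocalRing.le_maximalIdeal hJne))))
  have hqv : T.obs (C ⧸ K) J' _ = _ := T.obs_quot C J K ⟨hA, hfinC,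
    fun x => (hcC x).imp fun a ha => (mem_maximalIdeal _).1 ha, hann, hJne⟩ hK u
  obtain ⟨g, hg⟩ := (T.obs_eq_zero_iff _ J' hsmall' _).1 (hqv.trans hobs)
  let π : P →ₐ[k] C ⧸ K := (Ideal.Quotient.mkₐ k K).comp π₀
  let h : P →ₐ[k] C ⧸ K := g.comp (Ideal.Quotient.mkₐ k I)
  have hhπ : ∀ x, h x - π x ∈ J' := by
    intro x
    have h1 := AlgHom.congr_fun hg (Ideal.Quotient.mk I x)
    rw [← Ideal.Quotient.eq_zero_iff_mem, map_sub, sub_eq_zero]
    refine h1.trans ?_
    rw [AlgHom.comp_apply, hu]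
    exact AlgHom.congr_fun (DoubleQuot.quotQuotEquivQuotOfLE_symm_comp_mkₐ k hK) (π₀ x)
  have hπm : ∀ x ∈ maximalIdeal P, π x ∈ maximalIdeal (C ⧸ K) := fun x hx => by
    rw [hmax']
    exact Ideal.mem_map_of_mem _ (hπ₀ x hx)
  have hJ'm : J' ≤ maximalIdeal (C ⧸ K) := IsLocalRing.le_maximalIdeal hsmall'.2.2.2.2
  have hsq : ∀ x ∈ maximalIdeal P ^ 2, h x = π x := by
    intro x hx
    rw [pow_two] at hx
    refine Submodule.mul_induction_on hx (fun a ha b hb => ?_)
      (fun a b ha hb => by rw [map_add, map_add, ha, hb])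
    have h1 := hmJ' _ _ (hπm a ha) (hhπ b)
    have h2 := hmJ' _ _ (hπm b hb) (hhπ a)
    have h3 := hmJ' _ _ (hJ'm (hhπ a)) (hhπ b)
    rw [map_mul, map_mul]
    linear_combination h1 + h2 + h3
  have hzero : π i = 0 := by
    rw [← hsq i (hI hi)]
    change g (Ideal.Quotient.mk I i) = 0
    rw [Ideal.Quotient.eq_zero_iff_mem.2 hi, map_zero]
  change Ideal.Quotient.mk K (π₀ i) = 0 at hzero
  rw [hij, Ideal.Quotient.eq_zero_iff_mem] at hzero
  obtain ⟨h', h''⟩ := hzero
  rw [Subtype.coe_eta, hj₀] at h''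
  exact one_ne_zero h''

omit [Algebra k P] in
/-- Artin–Rees and Nakayama. -/
theorem eq_of_le_sup {I S : Ideal P} {N : ℕ} (hAR : I ⊓ maximalIdeal P ^ N ≤ maximalIdeal P * I)
    (hS : S ≤ I) (h : ∀ x ∈ I, ∃ y ∈ S, x - y ∈ maximalIdeal P * I ⊔ maximalIdeal P ^ N) : S = I := by
  refine le_antisymm hS (Submodule.le_of_le_smul_of_le_jacobson_bot (IsNoetherian.noetherian I)
    (IsLocalRing.maximalIdeal_le_jacobson ⊥) fun x hx => ?_)
  obtain ⟨y, hy, hxy⟩ := h x hx
  obtain ⟨a, ha, z, hz, haz⟩ := Submodule.mem_sup.1 hxy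
  have hzI : z ∈ I := by
    rw [show z = x - y - a from eq_sub_of_add_eq' haz]
    exact I.sub_mem (I.sub_mem hx (hS hy)) ((Ideal.mul_le_right : maximalIdeal P * I ≤ I) ha)
  refine Submodule.mem_sup.2 ⟨y, hy, a + z, ?_, by rw [haz]; ring⟩
  rw [smul_eq_mul]
  exact add_mem ha (hAR ⟨hzI, hz⟩)

set_option maxHeartbeats 1000000 in
/-- The equations are generated by at most `dim V` elements. -/
theorem exists_generators (hres : Function.Surjective (algebraMap k (ResidueField P)))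
    (I : Ideal P) (hI : I ≤ maximalIdeal P ^ 2)
    (V : Type u) [AddCommGroup V] [Module k V] [Module.Finite k V]
    (T : W4bk4hartshdef114.ObsTheory k (P ⧸ I) V) :
    ∃ s : Finset P, s.card ≤ Module.finrank k V ∧ Ideal.span (s : Set P) = I := by
  classical
  obtain ⟨c, hc⟩ := (maximalIdeal P).exists_pow_inf_eq_pow_smul (M := P) I
  let N := c + 1
  have hAR : I ⊓ maximalIdeal P ^ N ≤ maximalIdeal P * I := by
    have h := hc N (Nat.le_succ c)
    simp only [smul_eq_mul, Ideal.mul_top] at h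
    rw [inf_comm, h, show N - c = 1 from Nat.add_sub_cancel_left c 1, pow_one]
    exact Ideal.mul_mono_right inf_le_right
  let Q : Ideal P := maximalIdeal P * I ⊔ maximalIdeal P ^ N
  have hIm : I ≤ maximalIdeal P := hI.trans (Ideal.pow_le_self two_ne_zero)
  have hQm : Q ≤ maximalIdeal P := sup_le Ideal.mul_le_left (Ideal.pow_le_self (Nat.succ_ne_zero c))
  haveI : Nontrivial (P ⧸ Q) := Ideal.Quotient.nontrivial_iff.mpr fun h =>
    (maximalIdeal.isMaximal P).ne_top (top_le_iff.1 (h ▸ hQm))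
  haveI : IsLocalRing (P ⧸ Q) := .of_surjective' _ Ideal.Quotient.mk_surjective
  have hmax : maximalIdeal (P ⧸ Q) = (maximalIdeal P).map (Ideal.Quotient.mk Q) :=
    (IsLocalRing.map_maximalIdeal_of_surjective _ Ideal.Quotient.mk_surjective).symm
  haveI : IsArtinianRing (P ⧸ Q) := by
    rw [isArtinianRing_iff_isNilpotent_maximalIdeal]
    refine ⟨N, ?_⟩
    rw [hmax, ← Ideal.map_pow, Ideal.zero_eq_bot, Ideal.map_eq_bot_iff_le_ker, Ideal.mk_ker]
    exact le_sup_right
  have hcP : ∀ x : P, ∃ a : k, x - algebraMap k P a ∈ maximalIdeal P := fun x => by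
    obtain ⟨a, ha⟩ := hres (residue P x)
    exact ⟨a, by
      rw [← residue_eq_zero_iff, map_sub, sub_eq_zero, ← ha]
      rfl⟩
  have hcQ : ∀ x : P ⧸ Q, ∃ a : k, x - algebraMap k (P ⧸ Q) a ∈ maximalIdeal (P ⧸ Q) := fun x => by
    obtain ⟨x, rfl⟩ := Ideal.Quotient.mk_surjective x
    obtain ⟨a, ha⟩ := hcP x
    exact ⟨a, hmax ▸ (map_sub (Ideal.Quotient.mk Q) x _ ▸ Ideal.mem_map_of_mem _ ha)⟩
  haveI : Module.Finite k (P ⧸ Q) := CAlg6.GorFactor.finite_of_residue_surjective (P ⧸ Q) fun x => by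
    obtain ⟨y, rfl⟩ := residue_surjective x
    obtain ⟨a, ha⟩ := hcQ y
    exact ⟨a, by rw [RingHom.comp_apply, eq_comm, ← sub_eq_zero, ← map_sub]; exact (residue_eq_zero_iff _).2 ha⟩
  let J : Ideal (P ⧸ Q) := I.map (Ideal.Quotient.mk Q)
  have hJne : J ≠ ⊤ := fun h => (maximalIdeal.isMaximal (P ⧸ Q)).ne_top
    (top_le_iff.1 (h.symm.le.trans (hmax ▸ Ideal.map_mono hIm)))
  have hmJ : ∀ x j : P ⧸ Q, x ∈ maximalIdeal (P ⧸ Q) → j ∈ J → x * j = 0 := fun x j hx hj => by
    rw [hmax, Ideal.mem_map_iff_of_surjective _ Ideal.Quotient.mk_surjective] at hx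
    rw [Ideal.mem_map_iff_of_surjective _ Ideal.Quotient.mk_surjective] at hj
    obtain ⟨x, hx, rfl⟩ := hx
    obtain ⟨j, hj, rfl⟩ := hj
    rw [← map_mul, Ideal.Quotient.eq_zero_iff_mem]
    exact Ideal.mem_sup_left (Ideal.mul_mem_mul hx hj)
  have hsmall : W4bk4hartshdef114.IsSmallExt k (P ⧸ Q) J :=
    ⟨inferInstance, inferInstance, fun x => (hcQ x).imp fun a ha => (mem_maximalIdeal _).1 ha,
      fun x j hx hj => hmJ x j ((mem_maximalIdeal _).2 hx) hj, hJne⟩
  let u : P ⧸ I →ₐ[k] (P ⧸ Q) ⧸ J :=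
    Ideal.Quotient.liftₐ I ((Ideal.Quotient.mkₐ k J).comp (Ideal.Quotient.mkₐ k Q))
      fun a ha => Ideal.Quotient.eq_zero_iff_mem.2 (Ideal.mem_map_of_mem _ ha)
  haveI : Module.Finite k J :=
    Module.Finite.of_injective (J.restrictScalars k).subtype Subtype.val_injective
  let Φ : Module.Dual k J →ₗ[k] V :=
    { toFun := fun δ => TensorProduct.rid k V (LinearMap.lTensor V δ (T.obs (P ⧸ Q) J u))
      map_add' := fun δ ε => by rw [LinearMap.lTensor_add, LinearMap.add_apply, map_add]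
      map_smul' := fun a δ => by rw [LinearMap.lTensor_smul, LinearMap.smul_apply, map_smul]; rfl }
  have hΦ : Function.Injective Φ := by
    rw [injective_iff_map_eq_zero]
    intro δ hδ
    by_contra hne
    obtain ⟨j₁, hj₁⟩ : ∃ j, δ j ≠ 0 := by
      by_contra h
      push Not at h
      exact hne (LinearMap.ext h)
    let j₀ : J := (δ j₁)⁻¹ • j₁
    have hj₀ : δ j₀ = 1 := by rw [map_smul, smul_eq_mul, inv_mul_cancel₀ hj₁]
    obtain ⟨i, hi, hij⟩ :=
      (Ideal.mem_map_iff_of_surjective (Ideal.Quotient.mk Q) Ideal.Quotient.mk_surjective).1 j₀.2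
    exact no_dual hI T (Ideal.Quotient.mkₐ k Q) (fun x hx => hmax ▸ Ideal.mem_map_of_mem _ hx) hcQ J
      hsmall u (fun x => rfl) δ hδ j₀ hj₀ i hi hij
  have hfin : Module.finrank k J ≤ Module.finrank k V := by
    rw [← Subspace.dual_finrank_eq]
    exact LinearMap.finrank_le_finrank_of_injective hΦ
  let b := Module.finBasis k J
  choose e he hee using fun i =>
    (Ideal.mem_map_iff_of_surjective (Ideal.Quotient.mk Q) Ideal.Quotient.mk_surjective).1 (b i).2
  refine ⟨Finset.univ.image e, (Finset.card_image_le.trans (by simp)).trans hfin, ?_⟩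
  let S : Ideal P := Ideal.span ((Finset.univ.image e : Finset P) : Set P)
  have hS : S ≤ I := Ideal.span_le.2 (by
    intro x hx
    obtain ⟨i, -, rfl⟩ := Finset.mem_image.1 hx
    exact he i)
  refine eq_of_le_sup hAR hS fun x hx => ?_
  let jx : J := ⟨Ideal.Quotient.mk Q x, Ideal.mem_map_of_mem _ hx⟩
  refine ⟨∑ i, algebraMap k P (b.repr jx i) * e i, Submodule.sum_mem _ fun i _ => Ideal.mul_mem_left _ _
    (Ideal.subset_span (Finset.mem_image_of_mem _ (Finset.mem_univ i))), Ideal.Quotient.eq.1 ?_⟩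
  have := congrArg Subtype.val (b.sum_repr jx)
  rw [map_sum]
  refine this.symm.trans ?_
  rw [Submodule.coe_sum]
  refine Finset.sum_congr rfl fun i _ => ?_
  rw [map_mul, hee i]
  exact Algebra.smul_def _ _

theorem dim_bound (hres : Function.Surjective (algebraMap k (ResidueField P)))
    (I : Ideal P) (hI : I ≤ maximalIdeal P ^ 2)
    (V : Type u) [AddCommGroup V] [Module k V] [Module.Finite k V]
    (T : W4bk4hartshdef114.ObsTheory k (P ⧸ I) V) :
    ringKrullDim P ≤ ringKrullDim (P ⧸ I) + (Module.finrank k V : WithBot ℕ∞) ∧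
      (ringKrullDim (P ⧸ I) + (Module.finrank k V : WithBot ℕ∞) = ringKrullDim P →
        ∃ s : Finset P, Ideal.span (s : Set P) = I ∧
          ringKrullDim (P ⧸ I) + (s.card : WithBot ℕ∞) = ringKrullDim P) := by
  obtain ⟨s, hsc, hs⟩ := exists_generators hres I hI V T
  have h1 : ringKrullDim P ≤ ringKrullDim (P ⧸ I) + (s.card : WithBot ℕ∞) := by
    have := ringKrullDim_le_ringKrullDim_quotient_add_card (R := P) s (fun x hx => by
      rw [IsLocalRing.ringJacobson_eq_maximalIdeal]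
      exact (hI.trans (Ideal.pow_le_self two_ne_zero)) (hs ▸ Ideal.subset_span hx))
    rwa [hs] at this
  have h2 : ringKrullDim (P ⧸ I) + (s.card : WithBot ℕ∞) ≤
      ringKrullDim (P ⧸ I) + (Module.finrank k V : WithBot ℕ∞) := by gcongr
  exact ⟨h1.trans h2, fun h => ⟨s, hs, le_antisymm (h2.trans h.le) h1⟩⟩

end Groth.Agent.Deform85.ObsBound
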