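import Groth.Agent.CAlg6.PSEndo
import Groth.Agent.S11740
import Mathlib.RingTheory.MvPowerSeries.Derivative
import Mathlib.RingTheory.MvPowerSeries.Equiv
import Mathlib.RingTheory.AdicCompletion.RingHom

/-!
Power series rings over a field: maps into nilpotent and complete targets, presentations.
-/

set_option autoImplicit false

universe u v

namespace Groth.Agent.Deform85.PSNil

open MvPowerSeries IsLocalRing

variable {k : Type u} [Field k] {n : ℕ}

theorem mem_span_X_pow {N : ℕ} {f : MvPowerSeries (Fin n) k} (h : CAlg6.OrdGE N f) :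
    f ∈ Ideal.span (Set.range (MvPowerSeries.X : Fin n → MvPowerSeries (Fin n) k)) ^ N := by
  induction N generalizing f with
  | zero => simp
  | succ N ih =>
    obtain ⟨g, hg, rfl⟩ := CAlg6.exists_decomp h
    refine Submodule.sum_mem _ fun i _ => ?_
    rw [pow_succ']
    exact Ideal.mul_mem_mul (Ideal.subset_span ⟨i, rfl⟩) (ih (hg i))

theorem sub_truncTotal_mem (f : MvPowerSeries (Fin n) k) (N : ℕ) :
    f - ((truncTotal N f : MvPolynomial (Fin n) k) : MvPowerSeries (Fin n) k) ∈
      Ideal.span (Set.range (MvPowerSeries.X : Fin n → MvPowerSeries (Fin n) k)) ^ N :=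
  mem_span_X_pow fun d hd => by
    rw [map_sub, MvPolynomial.coeff_coe, coeff_truncTotal _ hd, sub_self]

/-- Maps out of a power series ring into a ring with a nilpotent ideal. -/
theorem exists_hom_nil {B : Type v} [CommRing B] [Algebra k B] (J : Ideal B) (N : ℕ) (hJ : J ^ N = ⊥)
    (y : Fin n → B) (hy : ∀ i, y i ∈ J) :
    ∃ G : MvPowerSeries (Fin n) k →ₐ[k] B, (∀ i, G (X i) = y i) ∧
      ∀ p : MvPolynomial (Fin n) k, G (p : MvPowerSeries (Fin n) k) = MvPolynomial.aeval y p := by
  have hle : MvPolynomial.idealOfVars (Fin n) k ^ N ≤ RingHom.ker (MvPolynomial.aeval y) := by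
    refine fun p hp => Ideal.mem_bot.1 (hJ ▸ ?_)
    have h1 : (MvPolynomial.idealOfVars (Fin n) k).map (MvPolynomial.aeval y) ≤ J := by
      rw [MvPolynomial.idealOfVars, Ideal.map_span, Ideal.span_le]
      rintro _ ⟨_, ⟨i, rfl⟩, rfl⟩
      rw [SetLike.mem_coe, MvPolynomial.aeval_X]
      exact hy i
    have h2 := Ideal.mem_map_of_mem (MvPolynomial.aeval y) hp
    rw [Ideal.map_pow] at h2
    exact Ideal.pow_right_mono h1 N h2
  haveI : IsScalarTower k (MvPolynomial (Fin n) k) (MvPowerSeries (Fin n) k) :=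
    IsScalarTower.of_algebraMap_eq fun l => by
      simp [MvPowerSeries.algebraMap_apply', MvPolynomial.algebraMap_apply, MvPowerSeries.algebraMap_apply,
        MvPolynomial.coe_C]
  let G : MvPowerSeries (Fin n) k →ₐ[k] B :=
    (Ideal.Quotient.liftₐ _ (MvPolynomial.aeval y) hle).comp
      ((truncTotalAlgHom (Fin n) k N).restrictScalars k)
  have hG : ∀ p : MvPolynomial (Fin n) k, G (p : MvPowerSeries (Fin n) k) = MvPolynomial.aeval y p :=
    fun p => by
      change MvPolynomial.aeval y (truncTotal N (p : MvPowerSeries (Fin n) k)) = _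
      rw [← sub_eq_zero, ← map_sub]
      refine hle ((MvPolynomial.mem_pow_idealOfVars_iff' _ _).2 fun d hd => ?_)
      rw [MvPolynomial.coeff_sub, coeff_truncTotal _ hd, MvPolynomial.coeff_coe, sub_self]
  exact ⟨G, fun i => by rw [← MvPolynomial.coe_X, hG, MvPolynomial.aeval_X], hG⟩

/-- Two maps into a ring with a nilpotent ideal that agree on the variables are equal. -/
theorem hom_ext_nil {B : Type v} [CommRing B] [Algebra k B] (J : Ideal B) (N : ℕ) (hJ : J ^ N = ⊥)
    {G G' : MvPowerSeries (Fin n) k →ₐ[k] B} (hG : ∀ i, G (X i) ∈ J)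
    (h : ∀ i, G (X i) = G' (X i)) : G = G' := by
  have hpol : G.comp (MvPolynomial.coeToMvPowerSeries.algHom k) =
      G'.comp (MvPolynomial.coeToMvPowerSeries.algHom k) :=
    MvPolynomial.algHom_ext fun i => by simp [h i]
  have hv : ∀ H : MvPowerSeries (Fin n) k →ₐ[k] B, (∀ i, H (X i) ∈ J) →
      ∀ z ∈ Ideal.span (Set.range (MvPowerSeries.X : Fin n → MvPowerSeries (Fin n) k)) ^ N, H z = 0 := by
    intro H hH z hz
    have h2 := Ideal.mem_map_of_mem H hz
    rw [Ideal.map_pow] at h2
    refine Ideal.mem_bot.1 (hJ ▸ Ideal.pow_right_mono ?_ N h2)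
    rw [Ideal.map_span, Ideal.span_le]
    rintro _ ⟨_, ⟨i, rfl⟩, rfl⟩
    exact hH i
  refine AlgHom.ext fun f => ?_
  have h1 := hv G hG _ (sub_truncTotal_mem f N)
  have h2 := hv G' (fun i => h i ▸ hG i) _ (sub_truncTotal_mem f N)
  have h3 := AlgHom.congr_fun hpol (truncTotal N f)
  rw [map_sub, sub_eq_zero] at h1 h2
  rw [h1, h2]
  simpa using h3

/-- Maps out of a power series ring into a complete ring. -/
theorem exists_hom_complete {R : Type u} [CommRing R] [Algebra k R] (J : Ideal R) [IsAdicComplete J R]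
    (y : Fin n → R) (hy : ∀ i, y i ∈ J) :
    ∃ G : MvPowerSeries (Fin n) k →ₐ[k] R, ∀ i, G (X i) = y i := by
  have hJ : ∀ j, (J.map (Ideal.Quotient.mk (J ^ j))) ^ j = ⊥ := fun j => by
    rw [← Ideal.map_pow, Ideal.map_quotient_self]
  choose f hf _hf' using fun j => exists_hom_nil (k := k) (J.map (Ideal.Quotient.mk (J ^ j))) j (hJ j)
    (fun i => Ideal.Quotient.mk (J ^ j) (y i)) fun i => Ideal.mem_map_of_mem _ (hy i)
  have hcompat : ∀ {a b : ℕ} (h : a ≤ b),
      (Ideal.Quotient.factorₐ k (Ideal.pow_le_pow_right h)).comp (f b) = f a := fun {a b} h => by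
    have e : ∀ i, ((Ideal.Quotient.factorₐ k (Ideal.pow_le_pow_right h)).comp (f b)) (X i) = f a (X i) :=
      fun i => by rw [AlgHom.comp_apply, hf, hf]; rfl
    exact hom_ext_nil (J.map (Ideal.Quotient.mk (J ^ a))) a (hJ a)
      (fun i => by rw [e, hf]; exact Ideal.mem_map_of_mem _ (hy i)) e
  refine ⟨IsAdicComplete.liftAlgHom J f hcompat, fun i => ?_⟩
  refine (IsHausdorff.eq_iff_smodEq (I := J)).2 fun j => ?_
  rw [smul_eq_mul, Ideal.mul_top, SModEq.sub_mem, ← Ideal.Quotient.eq, IsAdicComplete.mk_liftAlgHom, hf]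

/-- An ideal in the maximal ideal that is stable under the derivatives is zero in characteristic zero. -/
theorem eq_bot_of_pderiv_mem [CharZero k] {I : Ideal (MvPowerSeries (Fin n) k)}
    (h0 : ∀ f ∈ I, constantCoeff f = 0) (h : ∀ f ∈ I, ∀ i, pderiv k i f ∈ I) : I = ⊥ := by
  have : ∀ (N : ℕ), ∀ f ∈ I, ∀ d : Fin n →₀ ℕ, d.degree = N → coeff d f = 0 := by
    intro N
    induction N with
    | zero =>
      intro f hf d hd
      rw [(Finsupp.degree_eq_zero_iff d).1 hd, coeff_zero_eq_constantCoeff]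
      exact h0 f hf
    | succ N ih =>
      intro f hf d hd
      obtain ⟨i, hi⟩ := Finsupp.support_nonempty_iff.2 (fun e : d = 0 => by simp [e] at hd)
      rw [Finsupp.mem_support_iff] at hi
      have hle : Finsupp.single i 1 ≤ d := Finsupp.single_le_iff.2 (Nat.one_le_iff_ne_zero.2 hi)
      have hd' : (d - Finsupp.single i 1).degree = N := by
        have := congrArg Finsupp.degree (tsub_add_cancel_of_le hle)
        rw [map_add, Finsupp.degree_single, hd] at this
        omega
      have := ih _ (h f hf i) _ hd'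
      rw [coeff_pderiv, tsub_add_cancel_of_le hle, mul_eq_zero] at this
      exact this.resolve_right (Nat.cast_add_one_ne_zero _)
  rw [eq_bot_iff]
  intro f hf
  rw [Submodule.mem_bot]
  exact MvPowerSeries.ext fun d => (this _ f hf d rfl).trans (map_zero _).symm

/-- A complete Noetherian local algebra with residue field `k` is a quotient of power series in a
basis of its cotangent space. -/
theorem exists_presentation (R : Type u) [CommRing R] [IsLocalRing R] [IsNoetherianRing R] [Algebra k R]
    [IsAdicComplete (maximalIdeal R) R]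
    (hR : Function.Surjective ((residue R).comp (algebraMap k R))) (d : ℕ)
    (hd : Module.finrank (ResidueField R) (CotangentSpace R) = d) :
    ∃ ψ : MvPowerSeries (Fin d) k →ₐ[k] R, (∀ i, ψ (X i) ∈ maximalIdeal R) ∧ Function.Surjective ψ ∧
      RingHom.ker ψ.toRingHom ≤ maximalIdeal (MvPowerSeries (Fin d) k) ^ 2 := by
  let b := Module.finBasisOfFinrankEq (ResidueField R) (CotangentSpace R) hd
  choose y hy using fun i => Ideal.toCotangent_surjective (maximalIdeal R) (b i)
  obtain ⟨ψ, hψ⟩ := exists_hom_complete (k := k) (maximalIdeal R) (fun i => (y i : R)) fun i => (y i).2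
  have hm : ∀ i, ψ (X i) ∈ maximalIdeal R := fun i => hψ i ▸ (y i).2
  have hcot : (fun i => (maximalIdeal R).toCotangent ⟨ψ (X i), hm i⟩) = b := funext fun i => by
    rw [← hy i]
    exact congrArg _ (Subtype.ext (hψ i))
  obtain ⟨hs, hk⟩ := Groth.Agent.S11740.result k R hR d ψ hm (hcot ▸ b.linearIndependent)
    (hcot ▸ b.span_eq)
  exact ⟨ψ, hm, hs, hk⟩

end Groth.Agent.Deform85.PSNil
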