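import Groth.Agent.LimTop61.FgSubalgLimit
import Groth.Agent.Approx60.ImmStage
import Groth.Agent.Approx60.ProperDesc
import Groth.Agent.Rig93.FlatDesc
import Groth.Agent.Lim60.Props
import Groth.Agent.ConsProp93.Approx
import Groth.Agent.Hens22.ProperModel
import Mathlib.RingTheory.LaurentSeries

/-!
A proper flat family over `k[[t]]` with smooth generic fibre comes from one over a finitely generated
subalgebra containing `t` whose fibres away from `t = 0` are smooth.
-/

set_option autoImplicit false
set_option linter.style.haveILetI false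
set_option backward.isDefEq.respectTransparency false
universe u

noncomputable section

open CategoryTheory CategoryTheory.Limits AlgebraicGeometry Opposite

namespace Groth.Agent.Deform85.PowerSmoothing

/-- If `gK` is the preimage of `e` under `π` and is a smooth morphism, and the restriction of the
family to it is smooth, then the family restricted along `e` is smooth over `π`. -/
theorem smooth_snd_of_restrict {S Sj P Q W SK : Scheme.{u}} {π : S ⟶ Sj} {e : W ⟶ Sj} {h : SK ⟶ W}
    {gK : SK ⟶ S} (hA : IsPullback h gK e π) {p : P ⟶ S} {q : Q ⟶ Sj} {g : P ⟶ Q}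
    (hQ : IsPullback g p q π) [Smooth gK] (hgen : Smooth (pullback.snd p gK)) :
    Smooth (pullback.snd (pullback.snd q e ≫ e) π) := by
  have h1 : IsPullback (pullback.fst p gK ≫ g) (pullback.snd p gK) q (h ≫ e) := by
    have := (IsPullback.of_hasPullback p gK).paste_horiz hQ
    rwa [← hA.w] at this
  obtain ⟨l, -, hl⟩ := ConsProp93.exists_isPullback_of_fac h1 (IsPullback.of_hasPullback q e) h rfl
  have h2 : IsPullback l (pullback.snd p gK ≫ gK) (pullback.snd q e ≫ e) π := hl.paste_vert hA
  exact (LimDesc62.prop_iff_of_isPullback (P := @Smooth) h2).mp inferInstance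

/-- Fibres over points factoring through a monomorphism. -/
theorem smooth_snd_of_factor {Sj So Q W T : Scheme.{u}} {e : W ⟶ Sj} [Mono e] {q : Q ⟶ Sj}
    {δ : So ⟶ Sj} (hs : Smooth (pullback.snd (pullback.snd q e ≫ e) δ)) (x : T ⟶ So) (γ : T ⟶ W)
    (hx : γ ≫ e = x ≫ δ) : Smooth (pullback.snd (pullback.snd q δ) x) := by
  have h1 : IsPullback (pullback.fst (pullback.snd q δ) x ≫ pullback.fst q δ)
      (pullback.snd (pullback.snd q δ) x) q (γ ≫ e) := by
    have := (IsPullback.of_hasPullback (pullback.snd q δ) x).paste_horiz (IsPullback.of_hasPullback q δ)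
    rwa [← hx] at this
  obtain ⟨l, -, hl⟩ := ConsProp93.exists_isPullback_of_fac h1 (IsPullback.of_hasPullback q e) γ rfl
  have h2 : IsPullback γ (𝟙 T) e (γ ≫ e) :=
    by simpa using (IsPullback.of_vert_isIso (fst := γ) (snd := 𝟙 T) (f := 𝟙 W) (g := γ) ⟨by simp⟩).paste_horiz (IsKernelPair.id_of_mono e)
  have h3 : IsPullback l (pullback.snd (pullback.snd q δ) x) (pullback.snd q e ≫ e) (x ≫ δ) := by
    have := hl.paste_vert h2
    rwa [Category.comp_id, hx] at this
  obtain ⟨m, -, hm⟩ := ConsProp93.exists_isPullback_of_fac h3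
    (IsPullback.of_hasPullback (pullback.snd q e ≫ e) δ) x rfl
  exact MorphismProperty.of_isPullback (P := @Smooth) hm hs

/-- A proper flat family, smooth away from `t = 0`, comes from one over a finitely generated
subalgebra containing `t` which is smooth away from `t = 0`. -/
theorem exists_model {A B : CommRingCat.{u}} [Algebra A B] (t : B) (L : Type u) [CommRing L] [Algebra B L]
    [IsLocalization.Away t L] {P : Scheme.{u}} (p : P ⟶ Spec B) [IsProper p]
    [Flat p] [LocallyOfFinitePresentation p]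
    (hgen : Smooth (pullback.snd p (Spec.map (CommRingCat.ofHom (algebraMap B L))))) :
    ∃ (R : Subalgebra A B) (_ : R.FG) (hX : t ∈ R) (Q : Scheme.{u})
      (q : Q ⟶ Spec (CommRingCat.of R)) (_ : IsProper q) (_ : Flat q) (g : P ⟶ Q),
      IsPullback g p q (Spec.map (CommRingCat.ofHom R.val.toRingHom)) ∧
      ∀ (K : CommRingCat.{u}) (ψ : CommRingCat.of R ⟶ K), IsUnit (ψ.hom ⟨t, hX⟩) →
        Smooth (pullback.snd q (Spec.map ψ)) := by
  let D := LimTop61.subalgSpec A B
  let c := LimTop61.subalgCone A B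
  have hc : IsLimit c := LimTop61.isLimitSubalgCone A B
  haveI : ∀ i, CompactSpace (D.obj i) := fun i => inferInstanceAs (CompactSpace (Spec _))
  haveI : ∀ i, QuasiSeparatedSpace (D.obj i) := fun i => inferInstanceAs (QuasiSeparatedSpace (Spec _))
  obtain ⟨i, Qi, ui, g₀, hl, hqc, hqs, h₀⟩ := Approx60.S0591 D c hc P p
  haveI := hl
  haveI := hqc
  haveI := hqs
  haveI : LocallyOfFiniteType ui := inferInstance
  have hlim : IsProper (pullback.snd ui (c.π.app i)) :=
    (LimDesc62.prop_iff_of_isPullback (P := @IsProper) h₀).mp ‹IsProper p›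
  obtain ⟨j, φ, hj⟩ := Approx60.descProp_isProper.desc D c hc i ui ‹LocallyOfFiniteType ui› hlim
  obtain ⟨g₁, -, h₁⟩ := ConsProp93.exists_isPullback_of_fac h₀ (IsPullback.of_hasPullback ui (D.map φ))
    (c.π.app j) (c.w φ)
  let u₁ := pullback.snd ui (D.map φ)
  haveI : IsProper u₁ := hj
  obtain ⟨m, χ, hflat⟩ := Rig93.descProp_flat.desc D c hc j u₁
    (inferInstance : LocallyOfFinitePresentation u₁)
    ((LimDesc62.prop_iff_of_isPullback (P := @Flat) h₁).mp ‹Flat p›)
  let tA : LimTop61.FgSubalg A B := ⟨Algebra.adjoin A {t}, ⟨{t}, by simp⟩⟩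
  obtain ⟨n, a, b, -⟩ := IsCofilteredOrEmpty.cone_objs m (op tA)
  obtain ⟨g₂, -, h₂⟩ := ConsProp93.exists_isPullback_of_fac h₁ (IsPullback.of_hasPullback u₁ (D.map (a ≫ χ)))
    (c.π.app n) (c.w (a ≫ χ))
  let u₂ := pullback.snd u₁ (D.map (a ≫ χ))
  haveI : IsProper u₂ := inferInstance
  haveI : Flat u₂ := by
    haveI : Flat (pullback.snd u₁ (D.map χ)) := hflat
    obtain ⟨l, -, hl'⟩ := ConsProp93.exists_isPullback_of_fac (IsPullback.of_hasPullback u₁ (D.map (a ≫ χ)))
      (IsPullback.of_hasPullback u₁ (D.map χ)) (D.map a) (D.map_comp a χ).symm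
    exact MorphismProperty.of_isPullback (P := @Flat) hl' hflat
  let Rn : Subalgebra A B := n.unop.1
  have hXn : t ∈ Rn := leOfHom b.unop (Algebra.subset_adjoin rfl)
  let tn : Rn := ⟨t, hXn⟩
  let e : Spec (CommRingCat.of (Localization.Away tn)) ⟶ D.obj n :=
    Spec.map (CommRingCat.ofHom (algebraMap Rn (Localization.Away tn)))
  haveI : IsOpenImmersion e := IsOpenImmersion.of_isLocalization tn
  haveI : IsAffineHom e := inferInstanceAs (IsAffineHom (Spec.map _))
  let gK := Spec.map (CommRingCat.ofHom (algebraMap B L))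
  haveI : IsOpenImmersion gK := IsOpenImmersion.of_isLocalization t
  let fm : Localization.Away tn →+* L :=
    IsLocalization.Away.lift tn (g := (algebraMap B L).comp Rn.val.toRingHom)
      (IsLocalization.Away.algebraMap_isUnit t)
  have hfm : fm.comp (algebraMap Rn (Localization.Away tn)) =
      (algebraMap B L).comp Rn.val.toRingHom := IsLocalization.Away.lift_comp _ _
  haveI : IsLocalization ((Submonoid.powers tn).map Rn.val.toRingHom) (L) := by
    rw [Submonoid.map_powers]
    exact ‹IsLocalization.Away t L›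
  have hA : IsPullback (Spec.map (CommRingCat.ofHom fm)) gK e (c.π.app n) :=
    (isPullback_SpecMap_of_isPushout _ _ _ _ (CommRingCat.isPushout_of_isLocalization Rn.val.toRingHom fm hfm
      (Submonoid.powers tn))).flip
  let a₃ := pullback.snd u₂ e ≫ e
  obtain ⟨o, θ, hsm⟩ := Lim60.descProp_smooth.desc D c hc n a₃
    (inferInstance : LocallyOfFinitePresentation a₃) (smooth_snd_of_restrict hA h₂ hgen)
  obtain ⟨g₃, -, h₃⟩ := ConsProp93.exists_isPullback_of_fac h₂ (IsPullback.of_hasPullback u₂ (D.map θ))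
    (c.π.app o) (c.w θ)
  refine ⟨o.unop.1, o.unop.2, leOfHom θ.unop hXn, _, pullback.snd u₂ (D.map θ),
    inferInstance, inferInstance, g₃, h₃, fun K ψ hψ => ?_⟩
  let ι' : Rn →+* o.unop.1 := (Subalgebra.inclusion (leOfHom θ.unop)).toRingHom
  have hu : IsUnit (ψ.hom.comp ι' tn) := hψ
  refine smooth_snd_of_factor hsm (Spec.map ψ)
    (Spec.map (CommRingCat.ofHom (IsLocalization.Away.lift (S := Localization.Away tn) tn hu))) ?_
  show _ ≫ Spec.map _ = Spec.map ψ ≫ Spec.map (CommRingCat.ofHom ι')
  rw [← Spec.map_comp, ← Spec.map_comp]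
  congr 1
  ext r
  exact IsLocalization.Away.lift_eq _ hu r

end Groth.Agent.Deform85.PowerSmoothing
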