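import Mathlib.RingTheory.PolynomialAlgebra
import Mathlib.RingTheory.Polynomial.Quotient
import Mathlib.RingTheory.AdjoinRoot
import Mathlib.RingTheory.TensorProduct.Free
import Mathlib.RingTheory.RingHom.Finite
import Mathlib.RingTheory.RingHom.Flat
import Mathlib.RingTheory.TensorProduct.Finite
import Mathlib.Algebra.Module.Projective

/-!
Pulling a point off a punctual subscheme of the plane: if `𝔟 ∋ F` and `F` is monic in `u` for the
coordinates `(u, v)`, the ideal `(F) + (t - v) 𝔟` is finite and flat over `k[t]`.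
-/

set_option autoImplicit false
set_option linter.style.haveILetI false
universe u

open Polynomial TensorProduct

namespace Groth.Agent.Deform85.PullApart

attribute [local instance] Polynomial.algebra

variable {k A : Type u} [Field k] [CommRing A] [Algebra k A]

/-- The ideal of the family. -/
noncomputable def famIdeal (F v : A) (𝔟 : Ideal A) : Ideal A[X] :=
  Ideal.span {C F} ⊔ Ideal.span {X - C v} * 𝔟.map (C : A →+* A[X])

theorem map_eval_famIdeal (F v : A) (𝔟 : Ideal A) (a : A) :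
    (famIdeal F v 𝔟).map (evalRingHom a) = Ideal.span {F} ⊔ Ideal.span {a - v} * 𝔟 := by
  have h : (evalRingHom a).comp (C : A →+* A[X]) = RingHom.id A := RingHom.ext fun b => eval_C
  simp [famIdeal, Ideal.map_sup, Ideal.map_mul, Ideal.map_span, Ideal.map_map, h, Ideal.map_id]

theorem flat_and_finite_famIdeal [IsDomain A] (F v : A) (hF : F ≠ 0) (𝔟 : Ideal A) (hFb : F ∈ 𝔟)
    [Module.Finite k (A ⧸ 𝔟)] (E : A ≃ₐ[k] k[X][X]) (hEv : E v = C X) (hEF : (E F).Monic) :
    Module.Flat k[X] (A[X] ⧸ famIdeal F v 𝔟) ∧ Module.Finite k[X] (A[X] ⧸ famIdeal F v 𝔟) := by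
  classical
  set 𝔣 := famIdeal F v 𝔟 with h𝔣
  -- the part `(A/𝔟)[t]`
  haveI hM₁ : Module.Free k[X] (A[X] ⧸ 𝔟.map (C : A →+* A[X])) ∧
      Module.Finite k[X] (A[X] ⧸ 𝔟.map (C : A →+* A[X])) := by
    let e : k[X] ⊗[k] (A ⧸ 𝔟) ≃ₐ[k[X]] (A ⧸ 𝔟)[X] := Algebra.IsPushout.equiv k k[X] (A ⧸ 𝔟) (A ⧸ 𝔟)[X]
    let e' : (A ⧸ 𝔟)[X] ≃ₗ[k[X]] A[X] ⧸ 𝔟.map (C : A →+* A[X]) :=
      { Ideal.polynomialQuotientEquivQuotientPolynomial 𝔟 with
        map_smul' := fun p x => by
          have hmap : algebraMap k[X] (A ⧸ 𝔟)[X] p =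
              (p.map (algebraMap k A)).map (Ideal.Quotient.mk 𝔟) := by
            rw [Polynomial.map_map]; rfl
          simp only [RingHom.id_apply]
          rw [Algebra.smul_def, hmap]
          show Ideal.polynomialQuotientEquivQuotientPolynomial 𝔟 _ = p • Ideal.polynomialQuotientEquivQuotientPolynomial 𝔟 x
          obtain ⟨f, hf⟩ := Ideal.Quotient.mk_surjective (Ideal.polynomialQuotientEquivQuotientPolynomial 𝔟 x)
          rw [map_mul, Ideal.polynomialQuotientEquivQuotientPolynomial_map_mk, ← hf, ← map_mul]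
          exact congrArg (Ideal.Quotient.mk _) (Algebra.smul_def p f).symm }
    exact ⟨Module.Free.of_equiv (e.toLinearEquiv.trans e'), Module.Finite.equiv (e.toLinearEquiv.trans e')⟩
  obtain ⟨hfree₁, hfin₁⟩ := hM₁
  -- the part `A/(F)` with `t` acting as `v`
  let Φ : A[X] →ₐ[k[X]] AdjoinRoot (E F) :=
    AlgHom.mk' (((AdjoinRoot.mk (E F)).comp E.toAlgHom.toRingHom).comp (evalRingHom v)) fun p x => by
      rw [Algebra.smul_def, Algebra.smul_def, map_mul]
      congr 1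
      show AdjoinRoot.mk (E F) (E (eval v (p.map (algebraMap k A)))) = AdjoinRoot.mk (E F) (C p)
      congr 1
      rw [eval_map, ← aeval_def, ← AlgEquiv.coe_algHom, ← Polynomial.aeval_algHom_apply]
      rw [show E.toAlgHom v = C X from hEv]
      induction p using Polynomial.induction_on' with
      | add p q hp hq => rw [map_add, hp, hq, map_add]
      | monomial n a =>
        rw [aeval_monomial, ← C_mul_X_pow_eq_monomial, map_mul, map_pow]
        rfl
  have hΦ : ∀ f, Φ f = AdjoinRoot.mk (E F) (E (f.eval v)) := fun _ => rfl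
  have hΦsurj : Function.Surjective Φ := fun z => by
    obtain ⟨g, rfl⟩ := AdjoinRoot.mk_surjective z
    exact ⟨C (E.symm g), by rw [hΦ, eval_C, E.apply_symm_apply]⟩
  have hΦker : ∀ f, Φ f = 0 ↔ ∃ h g, f = C F * h + (X - C v) * g := by
    intro f
    rw [hΦ, AdjoinRoot.mk_eq_zero]
    constructor
    · intro hd
      obtain ⟨h, hh⟩ : F ∣ f.eval v := (map_dvd_iff E).1 hd
      obtain ⟨g, hg⟩ : (X - C v) ∣ f - C (F * h) := by
        rw [dvd_iff_isRoot, IsRoot, eval_sub, eval_C, hh, sub_self]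
      exact ⟨C h, g, by rw [← hg, map_mul]; ring⟩
    · rintro ⟨h, g, rfl⟩
      simp
  haveI : Module.Free k[X] (AdjoinRoot (E F)) := hEF.free_adjoinRoot
  haveI : Module.Finite k[X] (AdjoinRoot (E F)) := hEF.finite_adjoinRoot
  have h𝔣Φ : ∀ f ∈ 𝔣, Φ f = 0 := by
    intro f hf
    obtain ⟨a, ha, b, hb, rfl⟩ := Submodule.mem_sup.1 hf
    obtain ⟨h, rfl⟩ := Ideal.mem_span_singleton'.1 ha
    obtain ⟨g, -, rfl⟩ := Ideal.mem_span_singleton_mul.1 hb
    exact (hΦker _).2 ⟨h, g, by ring⟩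
  let π : (A[X] ⧸ 𝔣) →ₐ[k[X]] AdjoinRoot (E F) := Ideal.Quotient.liftₐ 𝔣 Φ h𝔣Φ
  have hπsurj : Function.Surjective π.toLinearMap := fun z => by
    obtain ⟨f, rfl⟩ := hΦsurj z
    exact ⟨Ideal.Quotient.mk 𝔣 f, rfl⟩
  -- multiplication by `t - v`
  let μ : (A[X] ⧸ 𝔟.map (C : A →+* A[X])) →ₗ[k[X]] (A[X] ⧸ 𝔣) :=
    (Submodule.mapQ (𝔟.map (C : A →+* A[X])) 𝔣 (LinearMap.mulLeft A[X] (X - C v)) fun b hb =>
      Submodule.mem_sup_right (Ideal.mul_mem_mul (Ideal.mem_span_singleton_self _) hb)).restrictScalars k[X]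
  have hμ : ∀ g, μ (Ideal.Quotient.mk _ g) = Ideal.Quotient.mk 𝔣 ((X - C v) * g) := fun _ => rfl
  have hμinj : Function.Injective μ := by
    rw [← LinearMap.ker_eq_bot, LinearMap.ker_eq_bot']
    intro z hz
    obtain ⟨g, rfl⟩ := Ideal.Quotient.mk_surjective z
    rw [hμ, Ideal.Quotient.eq_zero_iff_mem] at hz
    obtain ⟨a, ha, b, hb, hab⟩ := Submodule.mem_sup.1 hz
    obtain ⟨h, rfl⟩ := Ideal.mem_span_singleton'.1 ha
    obtain ⟨b', hb', rfl⟩ := Ideal.mem_span_singleton_mul.1 hb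
    have he : h.eval v = 0 := by
      have := congrArg (eval v) hab
      simpa [hF] using this
    obtain ⟨h', rfl⟩ := dvd_iff_isRoot.2 he
    refine Ideal.Quotient.eq_zero_iff_mem.2 ?_
    have hg : g = h' * C F + b' := mul_left_cancel₀ (X_sub_C_ne_zero v) (by rw [← hab]; ring)
    rw [hg]
    exact Ideal.add_mem _ (Ideal.mul_mem_left _ _ (Ideal.mem_map_of_mem _ hFb)) hb'
  have hex : Function.Exact μ π.toLinearMap := by
    intro z
    obtain ⟨f, rfl⟩ := Ideal.Quotient.mk_surjective z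
    constructor
    · intro hz
      obtain ⟨h, g, rfl⟩ := (hΦker f).1 hz
      refine ⟨Ideal.Quotient.mk _ g, ?_⟩
      rw [hμ, Ideal.Quotient.eq]
      refine Submodule.mem_sup_left (Ideal.mem_span_singleton'.2 ⟨-h, by ring⟩)
    · rintro ⟨y, hy⟩
      obtain ⟨g, rfl⟩ := Ideal.Quotient.mk_surjective y
      rw [← hy, hμ]
      exact (hΦker _).2 ⟨0, g, by ring⟩
  obtain ⟨s, hs⟩ := Module.projective_lifting_property π.toLinearMap LinearMap.id hπsurj
  let e : ((A[X] ⧸ 𝔟.map (C : A →+* A[X])) × AdjoinRoot (E F)) ≃ₗ[k[X]] (A[X] ⧸ 𝔣) :=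
    (hex.splitSurjectiveEquiv hμinj ⟨s, hs⟩).1.symm
  exact ⟨Module.Flat.of_linearEquiv e.symm, Module.Finite.equiv e⟩

end Groth.Agent.Deform85.PullApart
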