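import Groth.Agent.S2453
import Groth.Agent.S2481
import Groth.Agent.S4537
import Groth.Agent.CAlg6.GorFactor

/-!
Regularity of a local algebra with residue field the base field through square-zero lifting.
-/

set_option autoImplicit false

universe u

namespace Groth.Agent.Deform85.RegLift

open IsLocalRing

variable {k A : Type u} [Field k] [CommRing A] [Algebra k A] [IsLocalRing A]

lemma geometricallyReduced (hres : Function.Surjective (algebraMap k (ResidueField A))) :
    Algebra.IsGeometricallyReduced k (ResidueField A) := by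
  let e := (AlgEquiv.ofBijective (Algebra.ofId k (ResidueField A))
    ⟨(algebraMap k (ResidueField A)).injective, hres⟩).symm
  haveI : Algebra.IsGeometricallyReduced k k :=
    ⟨fun _ _ => isReduced_of_injective (Algebra.TensorProduct.rid k k (AlgebraicClosure _)).toRingEquiv.toRingHom
      (Algebra.TensorProduct.rid k k (AlgebraicClosure _)).injective⟩
  exact Algebra.IsGeometricallyReduced.of_injective e.toAlgHom e.injective

/-- A map to a local algebra with residue field `k` is local. -/
lemma isLocalHom_of_residue {C : Type u} [CommRing C] [Algebra k C] [IsLocalRing C]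
    (hC : Function.Surjective (algebraMap k (ResidueField C))) (f : A →ₐ[k] C) :
    IsLocalHom (f : A →+* C) := by
  let ψ : A →+* ResidueField C := (residue C).comp (f : A →+* C)
  have hsurj : Function.Surjective ψ := fun x => by
    obtain ⟨c, rfl⟩ := hC x
    exact ⟨algebraMap k A c, by
      change residue C (f (algebraMap k A c)) = _
      rw [AlgHom.commutes]; rfl⟩
  have hker : RingHom.ker ψ = maximalIdeal A :=
    eq_maximalIdeal (RingHom.ker_isMaximal_of_surjective _ hsurj)
  refine ⟨fun a ha => ?_⟩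
  by_contra hna
  have : a ∈ RingHom.ker ψ := hker ▸ (mem_maximalIdeal _).2 hna
  exact (residue_ne_zero_iff_isUnit _).2 ha this

lemma residue_surjective_of_finite [IsAlgClosed k] (C : Type u) [CommRing C] [Algebra k C]
    [IsLocalRing C] [Module.Finite k C] : Function.Surjective (algebraMap k (ResidueField C)) := by
  haveI : Module.Finite k (ResidueField C) :=
    Module.Finite.of_surjective (IsScalarTower.toAlgHom k C (ResidueField C)).toLinearMap residue_surjective
  exact (IsAlgClosed.algebraMap_bijective_of_isIntegral (k := k) (K := ResidueField C)).2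

theorem lift_of_regular [IsNoetherianRing A] [IsAlgClosed k]
    (hres : Function.Surjective (algebraMap k (ResidueField A))) (hreg : IsRegularLocalRing A)
    (R : Type u) [CommRing R] [IsLocalRing R] [Algebra k R] [Module.Finite k R] (J : Ideal R)
    (hJ : J ^ 2 = ⊥) (f : A →ₐ[k] R ⧸ J) :
    ∃ g : A →ₐ[k] R, (Ideal.Quotient.mkₐ k J).comp g = f := by
  haveI := geometricallyReduced hres
  haveI : IsArtinianRing R := isArtinian_of_tower k (inferInstance : IsArtinian k R)
  have hfs := (S2453.result (k := k) (A := A)).out 3 0 |>.mp hreg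
  haveI : Nontrivial (R ⧸ J) := Ideal.Quotient.nontrivial_iff.mpr fun h => by
    rw [h, Ideal.top_pow] at hJ
    exact top_ne_bot hJ
  haveI := IsLocalRing.of_surjective' (Ideal.Quotient.mk J) Ideal.Quotient.mk_surjective
  haveI : Module.Finite k (R ⧸ J) :=
    Module.Finite.of_surjective (Ideal.Quotient.mkₐ k J).toLinearMap Ideal.Quotient.mk_surjective
  haveI := isLocalHom_of_residue (residue_surjective_of_finite (R ⧸ J)) f
  obtain ⟨m, hm⟩ := IsArtinianRing.isNilpotent_jacobson_bot (R := R)
  refine hfs R J hJ f ⟨m, fun x hx => ?_⟩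
  have hle : (maximalIdeal A).map (f : A →+* R ⧸ J) ≤ maximalIdeal (R ⧸ J) :=
    Ideal.map_le_iff_le_comap.2 fun a ha => by
      rw [Ideal.mem_comap, mem_maximalIdeal, mem_nonunits_iff]
      exact fun hu => (mem_maximalIdeal _).1 ha (isUnit_of_map_unit (f : A →+* R ⧸ J) a hu)
  rw [← IsLocalRing.map_maximalIdeal_of_surjective (Ideal.Quotient.mk J) Ideal.Quotient.mk_surjective] at hle
  have h1 : f x ∈ ((maximalIdeal R) ^ m).map (Ideal.Quotient.mk J) := by
    rw [Ideal.map_pow]
    exact Ideal.pow_right_mono hle m (Ideal.map_pow (f : A →+* R ⧸ J) _ m ▸ Ideal.mem_map_of_mem _ hx)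
  rw [← IsLocalRing.jacobson_eq_maximalIdeal ⊥ bot_ne_top, hm] at h1
  rw [Ideal.zero_eq_bot, Ideal.map_bot] at h1
  exact h1

theorem lift_nilpotent
    (h : ∀ (R : Type u) [CommRing R] [IsLocalRing R] [Algebra k R] [Module.Finite k R] (J : Ideal R),
        J ^ 2 = ⊥ → ∀ f : A →ₐ[k] R ⧸ J, ∃ g : A →ₐ[k] R, (Ideal.Quotient.mkₐ k J).comp g = f) :
    ∀ (n : ℕ) (C : Type u) [CommRing C] [IsLocalRing C] [Algebra k C] [Module.Finite k C] (J : Ideal C),
      J ^ 2 ^ n = ⊥ → ∀ f : A →ₐ[k] C ⧸ J,
        ∃ g : A →ₐ[k] C, (Ideal.Quotient.mkₐ k J).comp g = f := by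
  intro n
  induction n with
  | zero =>
    intro C _ _ _ _ J hJ f
    exact h C J (by rw [pow_zero, pow_one] at hJ; rw [hJ, pow_two, Submodule.bot_mul]) f
  | succ n ih =>
    intro C _ _ _ _ J hJ f
    let K := J ^ 2 ^ n
    have hKJ : K ≤ J := Ideal.pow_le_self (by positivity)
    have hK2 : K ^ 2 = ⊥ := by rw [← pow_mul, ← pow_succ]; exact hJ
    have hJt : J ≠ ⊤ := by
      rintro rfl
      rw [Ideal.top_pow] at hJ
      exact top_ne_bot hJ
    haveI : Nontrivial (C ⧸ K) := Ideal.Quotient.nontrivial_iff.mpr fun hK => hJt (top_le_iff.mp (hK ▸ hKJ))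
    haveI := IsLocalRing.of_surjective' (Ideal.Quotient.mk K) Ideal.Quotient.mk_surjective
    haveI : Module.Finite k (C ⧸ K) :=
      Module.Finite.of_surjective (Ideal.Quotient.mkₐ k K).toLinearMap Ideal.Quotient.mk_surjective
    let e : (C ⧸ J) ≃ₐ[k] (C ⧸ K) ⧸ J.map (Ideal.Quotient.mkₐ k K) :=
      (DoubleQuot.quotQuotEquivQuotOfLEₐ k hKJ).symm
    obtain ⟨g₁, hg₁'⟩ := ih (C ⧸ K) (J.map (Ideal.Quotient.mkₐ k K))
      (by rw [← Ideal.map_pow]; exact Ideal.map_quotient_self _) (e.toAlgHom.comp f)
    obtain ⟨g, hg⟩ := h C K hK2 g₁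
    refine ⟨g, AlgHom.ext fun a => e.injective ?_⟩
    refine Eq.trans ?_ (AlgHom.congr_fun hg₁' a)
    rw [← hg]
    rfl

theorem regular_of_lift [IsNoetherianRing A]
    (hres : Function.Surjective (algebraMap k (ResidueField A)))
    (h : ∀ (R : Type u) [CommRing R] [IsLocalRing R] [Algebra k R] [Module.Finite k R] (J : Ideal R),
        J ^ 2 = ⊥ → ∀ f : A →ₐ[k] R ⧸ J, ∃ g : A →ₐ[k] R, (Ideal.Quotient.mkₐ k J).comp g = f) :
    IsRegularLocalRing A := by
  haveI := geometricallyReduced hres
  haveI : IsLocalHom (algebraMap k A) := ⟨fun a ha => Ne.isUnit fun h0 => by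
    rw [h0, map_zero] at ha; exact not_isUnit_zero ha⟩
  refine ((S2453.result (k := k) (A := A)).out 0 3).mp ((S4537.result _).mpr ?_)
  have h2 := (S2481.result (A := k) (B := A)).mpr fun C _ _ _ _ _ J hJ _ u _ hu => by
    have hsurj : Function.Surjective ((residue C).comp (algebraMap k C)) := by
      intro x
      obtain ⟨c, hc⟩ : ∃ c : k, ResidueField.map u.toRingHom (algebraMap k (ResidueField A) c) =
          residue (C ⧸ J) (Ideal.Quotient.mk J (Classical.choose (residue_surjective x))) := by
        obtain ⟨y, hy⟩ := hu.2 (residue (C ⧸ J) (Ideal.Quotient.mk J (Classical.choose (residue_surjective x))))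
        obtain ⟨c, rfl⟩ := hres y
        exact ⟨c, hy⟩
      refine ⟨c, ?_⟩
      have hx := Classical.choose_spec (residue_surjective x)
      rw [RingHom.comp_apply, ← hx]
      have hc' : residue (C ⧸ J) (u (algebraMap k A c)) =
          residue (C ⧸ J) (Ideal.Quotient.mk J (Classical.choose (residue_surjective x))) := hc
      rw [AlgHom.commutes, ← sub_eq_zero, ← map_sub, residue_eq_zero_iff] at hc'
      rw [← sub_eq_zero, ← map_sub, residue_eq_zero_iff, mem_maximalIdeal, mem_nonunits_iff]
      intro hu'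
      refine (mem_maximalIdeal _).1 hc' ?_
      have := hu'.map (Ideal.Quotient.mk J)
      rwa [map_sub, ← Ideal.Quotient.algebraMap_eq, ← IsScalarTower.algebraMap_apply k C (C ⧸ J)] at this
    haveI : Module.Finite k C := CAlg6.GorFactor.finite_of_residue_surjective C hsurj
    obtain ⟨n, hn⟩ := hJ
    obtain ⟨g, hgu⟩ := lift_nilpotent h n C J
      (le_bot_iff.mp ((Ideal.pow_le_pow_right Nat.lt_two_pow_self.le).trans hn.le)) u
    refine ⟨g, ?_, hgu⟩
    refine isLocalHom_of_residue (fun x => ?_) g
    obtain ⟨c, hc⟩ := hsurj x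
    exact ⟨c, hc⟩
  rwa [IsLocalRing.maximalIdeal_eq_bot] at h2

end Groth.Agent.Deform85.RegLift
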