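import Groth.Agent.Deform85.FibreGamma
import Groth.Prelude.Def_Exal

/-!
# Sections of flat lifts of algebras with trivial extensions
-/

set_option autoImplicit false

universe u

open Exal

noncomputable section

namespace Groth.Agent.Deform85

variable {k : Type u} [Field k] {A : Type u} [CommRing A] [IsLocalRing A] [IsArtinianRing A] [Algebra k A]
  {B B₀ : Type u} [CommRing B] [CommRing B₀] [Algebra A B] [Algebra k B] [IsScalarTower k A B] [Algebra k B₀]

/-- If all extensions of `B₀` by itself are trivial, flat lifts of `B₀` have sections. -/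
theorem exists_section_of_extensions_trivial [Module.Flat A B] (r : B →ₐ[k] B₀) (hr : Function.Surjective r)
    (hker : RingHom.ker r = (IsLocalRing.maximalIdeal A).map (algebraMap A B))
    (hT : ∀ E : Exal.Ext k B₀ B₀, E.IsTrivial) : ∃ s : B₀ →ₐ[k] B, ∀ x, r (s x) = x := by
  have hflat : (algebraMap A B).Flat := RingHom.flat_algebraMap_iff.2 inferInstance
  suffices H : ∀ J : Ideal A, J ≤ IsLocalRing.maximalIdeal A →
      (∃ s : B₀ →ₐ[k] B ⧸ J.map (algebraMap A B), ∀ x b, Ideal.Quotient.mk _ b = s x → r b = x) →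
      ∃ s : B₀ →ₐ[k] B, ∀ x, r (s x) = x by
    let ε := (Ideal.quotientEquivAlgOfEq k hker.symm).trans (Ideal.quotientKerAlgEquivOfSurjective hr)
    exact H _ le_rfl ⟨ε.symm.toAlgHom, fun x b hb => by
      have h1 : ε (Ideal.Quotient.mk _ b) = r b := rfl
      rw [← h1, hb]
      exact ε.apply_symm_apply x⟩
  intro J
  induction J using WellFoundedLT.induction with
  | ind J ih =>
  rintro hJm ⟨s, hs⟩
  rcases eq_or_ne J ⊥ with rfl | hJ
  · have hbij : Function.Bijective (Ideal.Quotient.mkₐ k ((⊥ : Ideal A).map (algebraMap A B))) := by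
      refine ⟨(injective_iff_map_eq_zero _).2 fun b hb => ?_, Ideal.Quotient.mkₐ_surjective _ _⟩
      rwa [Ideal.Quotient.mkₐ_eq_mk, Ideal.Quotient.eq_zero_iff_mem, Ideal.map_bot, Ideal.mem_bot] at hb
    exact ⟨(AlgEquiv.ofBijective _ hbij).symm.toAlgHom.comp s, fun x =>
      hs x _ ((AlgEquiv.ofBijective _ hbij).apply_symm_apply (s x))⟩
  obtain ⟨J', hJ'J, hmax⟩ := wellFounded_gt.has_min {I : Ideal A | I < J} ⟨⊥, bot_lt_iff_ne_bot.2 hJ⟩
  replace hJ'J : J' < J := hJ'J
  obtain ⟨t, htJ, htJ'⟩ := SetLike.exists_of_lt hJ'J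
  have hgen : ∀ x ∈ J, x ∉ J' → J' ⊔ Ideal.span {x} = J := fun x hx hx' => by
    refine le_antisymm (sup_le hJ'J.le ((Ideal.span_singleton_le_iff_mem _).2 hx)) (not_not.1 fun h => ?_)
    refine hmax _ (lt_of_le_not_ge (sup_le hJ'J.le ((Ideal.span_singleton_le_iff_mem _).2 hx)) h) ?_
    exact lt_of_le_not_ge le_sup_left fun h' => hx' (h' (Ideal.mem_sup_right (Ideal.mem_span_singleton_self x)))
  have hmt : ∀ a ∈ IsLocalRing.maximalIdeal A, a * t ∈ J' := fun a ha => not_not.1 fun h => htJ' (by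
    have ht : t ∈ J' ⊔ Ideal.span {a * t} := (hgen _ (J.mul_mem_left a htJ) h).symm ▸ htJ
    obtain ⟨j, hj, y, hy, hjy⟩ := Submodule.mem_sup.1 ht
    obtain ⟨c, rfl⟩ := Ideal.mem_span_singleton'.1 hy
    have hu : IsUnit (1 - c * a) :=
      IsLocalRing.isUnit_one_sub_self_of_mem_nonunits _ (Ideal.mul_mem_left _ c ha)
    refine (Ideal.unit_mul_mem_iff_mem _ hu).1 ?_
    rwa [show (1 - c * a) * t = j by linear_combination (-1 : A) * hjy])
  let T := algebraMap A B t
  let I' := J'.map (algebraMap A B)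
  let I := J.map (algebraMap A B)
  have hle : I' ≤ I := Ideal.map_mono hJ'J.le
  let red : (B ⧸ I') →ₐ[k] (B ⧸ I) := Ideal.Quotient.factorₐ k hle
  have hwd : ∀ b b' : B, r b = r b' → Ideal.Quotient.mk I' (T * b) = Ideal.Quotient.mk I' (T * b') := by
    intro b b' h
    rw [Ideal.Quotient.eq, ← mul_sub]
    have hm : b - b' ∈ (IsLocalRing.maximalIdeal A).map (algebraMap A B) := by
      rw [← hker, RingHom.mem_ker, map_sub, h, sub_self]
    refine (Ideal.map_le_iff_le_comap.2 (fun a ha => ?_) hm :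
      b - b' ∈ (Submodule.comap (LinearMap.mulLeft B T) I' : Ideal B))
    change algebraMap A B t * algebraMap A B a ∈ I'
    rw [← map_mul, mul_comm]
    exact Ideal.mem_map_of_mem _ (hmt a ha)
  choose σ hσ using hr
  let Ealg : Subalgebra k ((B ⧸ I') × B₀) :=
    AlgHom.equalizer (red.comp (AlgHom.fst k _ _)) (s.comp (AlgHom.snd k _ _))
  have hmem : ∀ p : (B ⧸ I') × B₀, p ∈ Ealg ↔ red p.1 = s p.2 := fun p => Iff.rfl
  have hT0 : ∀ b : B, red (Ideal.Quotient.mk I' (T * b)) = 0 := fun b =>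
    Ideal.Quotient.eq_zero_iff_mem.2 (Ideal.mul_mem_right _ _ (Ideal.mem_map_of_mem _ htJ))
  let incl : B₀ →+ Ealg :=
    { toFun := fun z => ⟨(Ideal.Quotient.mk I' (T * σ z), 0), by rw [hmem, map_zero]; exact hT0 _⟩
      map_zero' := Subtype.ext (Prod.ext
        ((hwd _ 0 ((hσ 0).trans (map_zero r).symm)).trans (by simp)) rfl)
      map_add' := fun a b => Subtype.ext (Prod.ext
        ((hwd _ (σ a + σ b) (by rw [map_add, hσ, hσ, hσ])).trans (by simp [mul_add])) (by simp)) }
  let proj : Ealg →ₐ[k] B₀ := (AlgHom.snd k _ _).comp Ealg.val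
  have hext : Exal.IsExtension proj incl := by
    refine ⟨fun x => ?_, fun a b hab => ?_, fun p => ⟨fun hp => ?_, ?_⟩, fun p z => ?_⟩
    · obtain ⟨w, hw⟩ := Ideal.Quotient.mk_surjective (s x)
      exact ⟨⟨(Ideal.Quotient.mk I' w, x), (hmem _).2 hw⟩, rfl⟩
    · have h : Ideal.Quotient.mk I' (T * σ a) = Ideal.Quotient.mk I' (T * σ b) :=
        congrArg (fun p : Ealg => (p : (B ⧸ I') × B₀).1) hab
      rw [Ideal.Quotient.eq, ← mul_sub] at h
      have := mem_map_maximalIdeal_of_mul_mem _ hflat htJ' h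
      rw [← hker, RingHom.mem_ker, map_sub, hσ, hσ, sub_eq_zero] at this
      exact this
    · obtain ⟨⟨q, x⟩, hq⟩ := p
      obtain rfl : x = 0 := hp
      obtain ⟨b, rfl⟩ := Ideal.Quotient.mk_surjective q
      rw [hmem, map_zero] at hq
      have hb : b ∈ I := Ideal.Quotient.eq_zero_iff_mem.1 hq
      simp only [I] at hb
      rw [← hgen t htJ htJ', Ideal.map_sup, Ideal.map_span, Set.image_singleton,
        Submodule.mem_sup] at hb
      obtain ⟨j, hj, y, hy, rfl⟩ := hb
      obtain ⟨c, rfl⟩ := Ideal.mem_span_singleton'.1 hy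
      refine ⟨r c, Subtype.ext (Prod.ext ?_ rfl)⟩
      change Ideal.Quotient.mk I' (T * σ (r c)) = Ideal.Quotient.mk I' (j + c * T)
      rw [hwd _ c (hσ _), map_add, Ideal.Quotient.eq_zero_iff_mem.2 hj, zero_add, mul_comm]
    · rintro ⟨z, rfl⟩
      rfl
    · obtain ⟨⟨q, x⟩, hq⟩ := p
      obtain ⟨b, rfl⟩ := Ideal.Quotient.mk_surjective q
      refine Subtype.ext (Prod.ext ?_ (by simp [incl]))
      change Ideal.Quotient.mk I' b * Ideal.Quotient.mk I' (T * σ z) = Ideal.Quotient.mk I' (T * σ (x * z))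
      rw [← map_mul, show b * (T * σ z) = T * (b * σ z) by ring]
      exact hwd _ _ (by rw [map_mul, hσ, hσ, hs x b hq])
  obtain ⟨u, hu⟩ := hT { E := Ealg, proj := proj, incl := incl, isExtension := hext }
  refine ih J' hJ'J (hJ'J.le.trans hJm)
    ⟨((AlgHom.fst k _ _).comp Ealg.val).comp u, fun x b hb => ?_⟩
  refine hs x b ?_
  have h := (hmem _).1 (u x).2
  have h1 : ((u x : Ealg) : (B ⧸ I') × B₀).1 = Ideal.Quotient.mk I' b := hb.symm
  have h2 : ((u x : Ealg) : (B ⧸ I') × B₀).2 = x := hu x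
  rw [h1, h2] at h
  exact h

end Groth.Agent.Deform85
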